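import Cfsg.Agent.Star.Theta
import Cfsg.Agent.BlockPairs.PairBridge
import Cfsg.Agent.BlockPairs.SubsectionNorm
import Cfsg.Agent.Blocks.SecondMain
import Cfsg.Agent.BlocksCharsC.SubsectionUnit

/-!
# The traces of the blocks of a centralizer

At `u * s`, `u` a p-element and `s` p-regular in `C(u)`, the trace of a block `f` of `C(u)` is the
`f`-part of the translate by `u`; it vanishes on a member of a block `B` unless `f` lies under `B`.
-/

set_option autoImplicit false
set_option linter.unusedSectionVars false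
set_option linter.style.haveILetI false

namespace CfsgLib.Star

open Cfsg CfsgLib.BlockPairs
open CfsgLib.Blocks (localRing red Res setIdemO setIdemC extRing IsBlockUnion idemBar
  memLocalRing_blockCoeff)
open scoped ComplexConjugate

universe u

variable {G : Type u} [Group G] [Fintype G] {M : Ideal AlgInt} [M.IsPrime] {p : ℕ}
  [hp : Fact p.Prime]

theorem cent_zpowers (x : G) :
    cent (⊤ : Subgroup G) (Subgroup.zpowers x) = Subgroup.centralizer ({x} : Set G) := by
  rw [cent_top]
  ext g
  rw [Subgroup.mem_centralizer_singleton_iff, Subgroup.mem_centralizer_iff]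
  exact ⟨fun h => (h x (Subgroup.mem_zpowers x)).symm,
    fun h v ⟨i, hi⟩ => hi ▸ ((show Commute x g from h.symm).zpow_left i).eq⟩

theorem isPGroup_zpowers {x : G} (hx : ∃ k, orderOf x = p ^ k) :
    IsPGroup p (Subgroup.zpowers x) := by
  obtain ⟨k, hk⟩ := hx
  exact IsPGroup.of_card (n := k) (by rw [Nat.card_zpowers, hk])

theorem pPart_mul_regular {x : G} (hx : ∃ k, orderOf x = p ^ k)
    {s : ↥(Subgroup.centralizer ({x} : Set G))} (hs : ¬ p ∣ orderOf s) :
    pPart p (x * (s : G)) = x :=
  pPart_eq (CfsgLib.Blocks.isPPart_of_mul (Subgroup.mem_centralizer_singleton_iff.1 s.2).symm hx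
    (by rwa [Subgroup.orderOf_coe]))

/-- Central elements of the group algebra over the local ring act by scalars under the trace. -/
theorem tau_mul_setIdemO (χ : IrrCharacter G) {A : Set (IrrCharacter G)} (hA : IsBlockUnion M A)
    (a : MonoidAlgebra (localRing M) G) [Decidable (χ ∈ A)] :
    tau M (χ : G → ℂ) ((setIdemO M A (memLocalRing_blockCoeff hA) : MonoidAlgebra (localRing M) G) * a) =
      if χ ∈ A then tau M (χ : G → ℂ) a else 0 := by
  classical
  have h1 : ∀ b, tau M (χ : G → ℂ) b = CfsgLib.Blocks.evalFun (χ : G → ℂ)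
      (MonoidAlgebra.mapRingHom G (localRing M).subtype b) := fun b => rfl
  rw [h1, map_mul,
    show MonoidAlgebra.mapRingHom G (localRing M).subtype
      (setIdemO M A (memLocalRing_blockCoeff hA) : MonoidAlgebra (localRing M) G) =
        (setIdemC A : MonoidAlgebra ℂ G) from
      congrArg Subtype.val (CfsgLib.Blocks.toC_setIdemO A (memLocalRing_blockCoeff hA)),
    CfsgLib.Blocks.evalFun_central_mul, CfsgLib.Blocks.omega_setIdemC, ← h1]
  split_ifs <;> simp

theorem gblk_eq {A : Set (IrrCharacter G)} (hA : IsBlockUnion M A) :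
    rho M G (setIdemO M A (memLocalRing_blockCoeff hA) : MonoidAlgebra (localRing M) G) =
      gblk M A := by
  rw [gblk, blkE_eq _ hA]
  refine ga_ext fun g => ?_
  rw [rho_coeff]
  have := emb_coeff_apply (k := Res M) (φ := MonoidHom.id G) Function.injective_id
    (idemBar M A hA : MonoidAlgebra (Res M) G) g
  rw [show (MonoidHom.id G) g = g from rfl] at this
  rw [this, CfsgLib.Blocks.coeff_idemBar]
  simp [setIdemO]

/-- A lift of the idempotent of a union of blocks of a subgroup. -/
theorem exists_lift_sblk {H : Subgroup G} [Fintype H] {f : Set (IrrCharacter H)}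
    (hf : IsBlockUnion M f) :
    ∃ Ê : MonoidAlgebra (localRing M) G, Ê * Ê = Ê ∧
      Ê = extRing H (setIdemO M f (memLocalRing_blockCoeff hf) : MonoidAlgebra (localRing M) H) ∧
      ∀ h ∈ H, Above M h Ê (sblk M H f) := by
  classical
  refine ⟨_, ?_, rfl, fun h hh => ⟨?_, ?_⟩⟩
  · rw [← map_mul, ← Subring.coe_mul]
    congr 2
    exact CfsgLib.Blocks.ctr_ext_omegaO fun ψ => by
      rw [map_mul, CfsgLib.Blocks.omegaO_setIdemO]; split_ifs <;> simp
  · rw [← CfsgLib.Blocks.extRing_single H ⟨h, hh⟩ (1 : localRing M)]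
    exact (show Commute (MonoidAlgebra.single (⟨h, hh⟩ : H) (1 : localRing M))
      (setIdemO M f (memLocalRing_blockCoeff hf) : MonoidAlgebra (localRing M) H) from
      Subring.mem_center_iff.1 (setIdemO M f (memLocalRing_blockCoeff hf)).2 _).map _
  · rw [sblk, blkE_eq _ hf, rho, CfsgLib.Blocks.map_extRing]
    rfl

variable (hM : Cfsg.IsPModular p M)

include hM in
/-- The trace of a union of blocks of the centralizer is its part of the translate. -/
theorem T_sblk {x : G} [Fintype ↥(Subgroup.centralizer ({x} : Set G))]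
    {f : Set (IrrCharacter ↥(Subgroup.centralizer ({x} : Set G)))} (hf : IsBlockUnion M f)
    {θ : G → ℂ} (hθ : Cfsg.IsClassFunction G θ)
    (s : ↥(Subgroup.centralizer ({x} : Set G))) :
    T M θ (x * (s : G)) (sblk M (Subgroup.centralizer ({x} : Set G)) f) =
      Cfsg.blockPart f
        (fun c : ↥(Subgroup.centralizer ({x} : Set G)) => θ (x * (c : G))) s := by
  classical
  obtain ⟨Ê, hidem, hÊ, habove⟩ := exists_lift_sblk (M := M) hf
  have hxs : x * (s : G) ∈ Subgroup.centralizer ({x} : Set G) :=
    mul_mem (Subgroup.mem_centralizer_singleton_iff.2 rfl) s.2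
  rw [T_eq hθ hidem (habove _ hxs), tau_single_mul, CfsgLib.Blocks.blockPart_translate f hθ]
  have hsupp : ∀ g : G, g ∉ Subgroup.centralizer ({x} : Set G) →
      (Ê.coeff g : ℂ) * θ (x * (s : G) * g) = 0 := fun g hg => by
    rw [hÊ, CfsgLib.Blocks.coeff_extRing_notMem _ _ hg]
    simp
  rw [← Finset.sum_subset (Finset.subset_univ
      (Finset.univ.map ⟨((↑) : ↥(Subgroup.centralizer ({x} : Set G)) → G), Subtype.val_injective⟩))
    (fun g _ hg => hsupp g fun hgH => hg (Finset.mem_map.2 ⟨⟨g, hgH⟩, Finset.mem_univ _, rfl⟩)),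
    Finset.sum_map]
  refine Finset.sum_congr rfl fun k _ => ?_
  rw [Function.Embedding.coeFn_mk, hÊ, CfsgLib.Blocks.coeff_extRing_coe,
    Characters.classFunction_mul_comm hθ (x * (s : G)) (k : G)]
  simp [setIdemO]

include hM in
/-- The traces vanish outside the blocks under `B`. -/
theorem T_eq_zero_of_not_under {B : Set (IrrCharacter G)} (hB : Cfsg.IsPBlock M B)
    {χ : IrrCharacter G} (hχ : χ ∈ B) {z : G} {e : GA (Res M) G}
    (he : e ∈ blocks (Res M) (cent ⊤ (Subgroup.zpowers (pPart p z))))
    (hne : br (Subgroup.zpowers (pPart p z)) (gblk M B) * e = 0) :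
    T M (χ : G → ℂ) z e = 0 := by
  classical
  haveI := CfsgLib.Blocks.charP_res hM
  have hBu := CfsgLib.Blocks.isBlockUnion_of_isPBlock hB
  have hf := Characters.isClassFunction_of_isIrr χ.2
  have heB := mem_blocks.1 he
  have hbl : IsBlock (⊤ : Subgroup G) (gblk M B) := isBlock_gblk hB
  obtain ⟨Ê, hidem, hÊ⟩ := exists_lift (M := M) e heB.idem
  obtain ⟨hcÊ, hrÊ⟩ := hÊ z (conjA_block he)
  set F : MonoidAlgebra (localRing M) G :=
    (setIdemO M B (memLocalRing_blockCoeff hBu) : MonoidAlgebra (localRing M) G) with hF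
  have hFc : ∀ w, Commute w F := fun w =>
    Subring.mem_center_iff.1 (setIdemO M B (memLocalRing_blockCoeff hBu)).2 w
  have hFF : F * F = F := by
    rw [hF, ← Subring.coe_mul]
    congr 1
    exact CfsgLib.Blocks.ctr_ext_omegaO fun ψ => by
      rw [map_mul, CfsgLib.Blocks.omegaO_setIdemO]; split_ifs <;> simp
  have hprod : F * Ê * (F * Ê) = F * Ê := by
    rw [(hFc Ê).mul_mul_mul_comm, hFF, hidem]
  have habove : Above M z (F * Ê) (gblk M B * e) :=
    ⟨(hFc _).mul_right hcÊ, by rw [map_mul, hrÊ, hF, gblk_eq hBu]⟩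
  have h1 : T M (χ : G → ℂ) z e = T M (χ : G → ℂ) z (gblk M B * e) := by
    rw [T_eq hf hidem ⟨hcÊ, hrÊ⟩, T_eq hf hprod habove, ← mul_assoc, (hFc _).eq, mul_assoc, hF,
      tau_mul_setIdemO χ hBu, if_pos hχ]
  rw [h1]
  have hfixb : conjA (Res M) z (gblk M B) = gblk M B := hbl.fixed z trivial
  refine T_eq_zero_of_br hf hM (pPart_spec z) (by rw [← habove.2, ← map_mul, hprod]) habove.conjA_eq ?_
  rw [br_mul' hM hfixb (conjA_block he), br_eq_self (heB.supp.mono inf_le_right), hne]

include hM in
/-- Parts in different blocks are orthogonal on the regular elements. -/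
theorem regInner_blockPart_eq_zero {H : Type u} [Group H] [Fintype H]
    {f f' : Set (IrrCharacter H)} (hf : Cfsg.IsPBlock M f) (hf' : Cfsg.IsPBlock M f')
    (hne : f ≠ f') (φ ψ : H → ℂ) :
    CfsgLib.BlockPairing.regInner p (Cfsg.blockPart f φ) (Cfsg.blockPart f' ψ) = 0 := by
  classical
  have hexp : ∀ (b : Set (IrrCharacter H)) (g : H → ℂ), Cfsg.blockPart b g = fun h =>
      ∑ η : IrrCharacter H, (if η ∈ b then Cfsg.classInner g η else 0) * (η : H → ℂ) h :=
    fun b g => funext fun h => by
      rw [Cfsg.blockPart, CfsgLib.Blocks.finsum_irr_mem,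
        show Fintype.ofFinite H = ‹Fintype H› from Subsingleton.elim _ _]
      exact Finset.sum_congr rfl fun η _ => by split_ifs <;> simp
  rw [hexp f φ, hexp f' ψ, MajorSubsection.regInner_sum_left]
  refine Finset.sum_eq_zero fun η _ => ?_
  split_ifs with hη
  swap
  · rw [zero_mul]
  rw [BlocksCharsC.regInner_sum_right]
  refine mul_eq_zero_of_right _ (Finset.sum_eq_zero fun ξ _ => ?_)
  split_ifs with hξ
  · exact mul_eq_zero_of_right _ (MajorSubsection.regInner_eq_zero_of_not_mem hM hf'
      (fun h => hne (CfsgLib.Blocks.isPBlock_eq_of_mem hf hf' hη h)) hξ)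
  · simp

include hM in
/-- On the regular elements of the centralizer only the matching block pairs with a member. -/
theorem regInner_blockPart {H : Type u} [Group H] [Fintype H] {f : Set (IrrCharacter H)}
    (hf : Cfsg.IsPBlock M f) {φ : H → ℂ} (hφ : Cfsg.IsClassFunction H φ) {ξ : IrrCharacter H}
    (hξ : ξ ∈ f) :
    CfsgLib.BlockPairing.regInner p (Cfsg.blockPart f φ) (ξ : H → ℂ) =
      CfsgLib.BlockPairing.regInner p φ (ξ : H → ℂ) := by
  classical
  have h1 : Cfsg.blockPart f φ = fun h =>
      ∑ η : IrrCharacter H, (if η ∈ f then Cfsg.classInner φ η else 0) * (η : H → ℂ) h :=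
    funext fun h => by
      rw [Cfsg.blockPart, CfsgLib.Blocks.finsum_irr_mem,
        show Fintype.ofFinite H = ‹Fintype H› from Subsingleton.elim _ _]
      exact Finset.sum_congr rfl fun η _ => by split_ifs <;> simp
  have h2 : φ = fun h => ∑ η : IrrCharacter H, Cfsg.classInner φ η * (η : H → ℂ) h := funext fun h => by
    have := congrFun (Characters.classFunction_expansion hφ) h
    simpa [Finset.sum_apply] using this
  conv_rhs => rw [h2]
  rw [h1, MajorSubsection.regInner_sum_left, MajorSubsection.regInner_sum_left]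
  refine Finset.sum_congr rfl fun η _ => ?_
  split_ifs with hη
  · rfl
  · rw [MajorSubsection.regInner_eq_zero_of_not_mem hM hf hη hξ, mul_zero, mul_zero]

include hM in
/-- The parts in other blocks do not pair with a member. -/
theorem regInner_blockPart_of_ne {H : Type u} [Group H] [Fintype H] {f f' : Set (IrrCharacter H)}
    (hf : Cfsg.IsPBlock M f) (hf' : Cfsg.IsPBlock M f') (hne : f' ≠ f) (φ : H → ℂ)
    {ξ : IrrCharacter H} (hξ : ξ ∈ f) :
    CfsgLib.BlockPairing.regInner p (Cfsg.blockPart f' φ) (ξ : H → ℂ) = 0 := by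
  classical
  have h1 : Cfsg.blockPart f' φ = fun h =>
      ∑ η : IrrCharacter H, (if η ∈ f' then Cfsg.classInner φ η else 0) * (η : H → ℂ) h :=
    funext fun h => by
      rw [Cfsg.blockPart, CfsgLib.Blocks.finsum_irr_mem,
        show Fintype.ofFinite H = ‹Fintype H› from Subsingleton.elim _ _]
      exact Finset.sum_congr rfl fun η _ => by split_ifs <;> simp
  rw [h1, MajorSubsection.regInner_sum_left]
  refine Finset.sum_eq_zero fun η _ => ?_
  split_ifs with hη
  · rw [MajorSubsection.regInner_eq_zero_of_not_mem hM hf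
      (fun h => hne (CfsgLib.Blocks.isPBlock_eq_of_mem hf' hf hη h)) hξ, mul_zero]
  · rw [zero_mul]

end CfsgLib.Star
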