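import Cfsg.Agent.Star.Integral
import Cfsg.Agent.Star.Section
import Cfsg.Agent.Characters.BrauerInduction

/-!
# The star construction of Broué and Puig

`star p P eP ζ χ` is a generalized character for a generalized character `ζ` of the maximal pair's
group invariant under fusion (`isGen_star`).  For `ζ` of absolute value one it sends the members of
the block to members of the block with the same p-regular values, multiplicatively in `ζ`.
-/

set_option autoImplicit false
set_option linter.unusedSectionVars false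
set_option linter.style.haveILetI false

namespace CfsgLib.Star

open Cfsg CfsgLib.BlockPairs
open CfsgLib.Blocks (localRing red Res)
open CfsgLib.BlockPairing (regInner)
open scoped ComplexConjugate

universe u

variable {G : Type u} [Group G] [Fintype G] {M : Ideal AlgInt} [M.IsPrime] {p : ℕ}
  [hp : Fact p.Prime] {P : Subgroup G} {eP : GA (Res M) G} {ζ ζ' : G → ℂ}

/-- The star of a function on the maximal pair and a class function. -/
noncomputable def star (p : ℕ) [hp : Fact p.Prime] (P : Subgroup G) (eP : GA (Res M) G)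
    (ζ χ : G → ℂ) (g : G) : ℂ :=
  theta p P eP ζ χ 1 g

theorem star_apply (χ : G → ℂ) (g : G) : star p P eP ζ χ g =
    ∑ e ∈ blocks (Res M) (cent ⊤ (Subgroup.zpowers (pPart p g))),
      zt p P eP ζ (pPart p g) e * T M χ g e := by
  rw [star, theta]
  simp only [br_one, mul_one]

theorem isInvariant_mul (h : IsInvariant p P eP ζ) (h' : IsInvariant p P eP ζ') :
    IsInvariant p P eP (ζ * ζ') := fun w g hm => by
  simp [h w g hm, h' w g hm]

theorem isInvariant_one : IsInvariant p P eP (1 : G → ℂ) := fun _ _ _ => rfl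

theorem zt_mul (x : G) (e : GA (Res M) G) :
    zt p P eP (ζ * ζ') x e = zt p P eP ζ x e * zt p P eP ζ' x e := by
  unfold zt
  split_ifs <;> simp

variable (hM : Cfsg.IsPModular p M)

include hM in
theorem isClassFunction_star (hζ : IsInvariant p P eP ζ) {χ : G → ℂ}
    (hχ : Cfsg.IsClassFunction G χ) : Cfsg.IsClassFunction G (star p P eP ζ χ) := fun g t => by
  have := theta_conj (P := P) (eP := eP) (ζ := ζ) hχ hM hζ (t := t) (z := g)
    (j := (1 : GA (Res M) G)) (one_mul 1) (conjA_one g)
  rwa [conjA_one] at this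

include hM in
/-- The theorem of Broué and Puig. -/
theorem isGen_star {b : GA (Res M) G} (hb : IsBlock (⊤ : Subgroup G) b)
    (hmax : IsMaxPair p ⊤ b P eP) (hζi : IsInvariant p P eP ζ)
    (hζ : Cfsg.IsGeneralizedCharacter P fun w : P => ζ w) {χ : G → ℂ}
    (hχ : Cfsg.IsCharacter G χ) : Cfsg.IsGeneralizedCharacter G (star p P eP ζ χ) := by
  refine Characters.isGen_of_elementary
    (isClassFunction_star hM hζi (Characters.isClassFunction_of_isCharacter hχ)) fun E q hq hE => ?_
  haveI : Fact q.Prime := ⟨hq⟩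
  obtain ⟨Q, S, hsp⟩ := exists_split (p := p) (isNilpotent_of_isElementary (q := q) hE)
  exact isGen_theta hM hb hmax hζi hζ hχ hsp (one_mem _) (one_mul 1)

theorem T_one {χ : G → ℂ} (hχ : Cfsg.IsClassFunction G χ) (z : G) :
    T M χ z (1 : GA (Res M) G) = χ z := by
  classical
  rw [T_eq hχ (E := 1) (one_mul 1) ⟨Commute.one_right _, map_one _⟩, mul_one, tau_apply,
    Finset.sum_eq_single z]
  · simp
  · intro g _ hg
    simp [Ne.symm hg]
  · simp

variable {B : Set (IrrCharacter G)} (hB : Cfsg.IsPBlock M B)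
  (hmax : IsMaxPair p (⊤ : Subgroup G) (gblk M B) P eP)

include hM hB hmax in
theorem exists_conj_of_T_ne_zero {χ : IrrCharacter G} (hχ : χ ∈ B) {z : G} {e : GA (Res M) G}
    (he : e ∈ blocks (Res M) (cent ⊤ (Subgroup.zpowers (pPart p z))))
    (hT : T M (χ : G → ℂ) z e ≠ 0) :
    ∃ x, Le p ⊤ (cj x (Subgroup.zpowers (pPart p z))) (conjA (Res M) x e) P eP := by
  haveI := CfsgLib.Blocks.charP_res hM
  haveI := isAlgClosed_res hM
  have hb : IsBlock (⊤ : Subgroup G) (gblk M B) := isBlock_gblk hB
  have hP := isPGroup_zpowers_pPart (p := p) z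
  have heB := mem_blocks.1 he
  have h1 := (heB.dichotomy (br_mem_cent_block hb.mem)
    (br_idem hP (hb.fixed.mono le_top) hb.idem)).resolve_left
      fun h0 => hT (T_eq_zero_of_not_under hM hB hχ he h0)
  obtain ⟨x, -, hx⟩ := exists_conj_le hb hmax
    (show BlockHas p ⊤ (gblk M B) _ e from ⟨⟨le_top, hP, heB⟩, h1⟩)
  exact ⟨x, hx⟩

include hM hB hmax in
theorem zt_mul_T_of_eq_one (hζ1 : ∀ w ∈ P, ζ w = 1) (hζ : IsInvariant p P eP ζ)
    {χ : IrrCharacter G} (hχ : χ ∈ B) {z : G} {e : GA (Res M) G}
    (he : e ∈ blocks (Res M) (cent ⊤ (Subgroup.zpowers (pPart p z)))) :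
    zt p P eP ζ (pPart p z) e * T M (χ : G → ℂ) z e = T M (χ : G → ℂ) z e := by
  by_cases hT : T M (χ : G → ℂ) z e = 0
  · rw [hT, mul_zero]
  · obtain ⟨x, hx⟩ := exists_conj_of_T_ne_zero hM hB hmax hχ he hT
    rw [zt_eq hζ hx, hζ1 _ (hx.subgroup_le (mem_cj.2 (by simp [mul_assoc]))), one_mul]

theorem sum_T_blocks {χ : G → ℂ} (hχ : Cfsg.IsClassFunction G χ) (z : G) :
    ∑ e ∈ blocks (Res M) (cent ⊤ (Subgroup.zpowers (pPart p z))), T M χ z e = χ z := by
  rw [← T_sum hχ z _ (fun e => e) (fun e he => (mem_blocks.1 he).idem)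
      (fun a ha b hb hab => ((mem_blocks.1 ha).eq_or_mul_eq_zero (mem_blocks.1 hb)).resolve_left hab)
      (fun e he => conjA_block he),
    sum_blocks_eq_one, T_one hχ]

include hM hB hmax in
/-- The star by a function equal to one on `P` is the identity on the block. -/
theorem star_of_eq_one (hζ1 : ∀ w ∈ P, ζ w = 1) (hζ : IsInvariant p P eP ζ) {χ : IrrCharacter G}
    (hχ : χ ∈ B) : star p P eP ζ (χ : G → ℂ) = (χ : G → ℂ) := by
  funext g
  rw [star_apply, Finset.sum_congr rfl fun e he => zt_mul_T_of_eq_one hM hB hmax hζ1 hζ hχ he]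
  exact sum_T_blocks (Characters.isClassFunction_of_isIrr χ.2) g

variable {x : G}

include hM in
theorem star_section (hx : ∃ k, orderOf x = p ^ k) (χ : G → ℂ)
    {s : ↥(Subgroup.centralizer ({x} : Set G))} (hs : ¬ p ∣ orderOf s) :
    star p P eP ζ χ (x * (s : G)) =
      ∑ e ∈ blocks (Res M) (Subgroup.centralizer ({x} : Set G)),
        zt p P eP ζ x e * T M χ (x * (s : G)) e := by
  rw [star_apply, pPart_mul_regular hx hs, cent_zpowers]

include hM in
open Classical in
/-- Two star functions on a section. -/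
theorem sum_section_star (hx : ∃ k, orderOf x = p ^ k)
    [Fintype ↥(Subgroup.centralizer ({x} : Set G))] {χ ψ : G → ℂ}
    (hχ : Cfsg.IsClassFunction G χ) (hψ : Cfsg.IsClassFunction G ψ) :
    ∑ s : ↥(Subgroup.centralizer ({x} : Set G)),
        (if p ∣ orderOf s then 0 else star p P eP ζ χ (x * (s : G)) *
          conj (star p P eP ζ' ψ (x * (s : G)))) =
      ∑ e ∈ blocks (Res M) (Subgroup.centralizer ({x} : Set G)),
        zt p P eP ζ x e * conj (zt p P eP ζ' x e) *
          ∑ s : ↥(Subgroup.centralizer ({x} : Set G)),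
            (if p ∣ orderOf s then 0 else
              T M χ (x * (s : G)) e * conj (T M ψ (x * (s : G)) e)) := by
  haveI := CfsgLib.Blocks.charP_res hM
  haveI := isAlgClosed_res hM
  calc _ = ∑ s : ↥(Subgroup.centralizer ({x} : Set G)),
        ∑ e ∈ blocks (Res M) (Subgroup.centralizer ({x} : Set G)),
        ∑ e' ∈ blocks (Res M) (Subgroup.centralizer ({x} : Set G)),
          zt p P eP ζ x e * conj (zt p P eP ζ' x e') *
            (if p ∣ orderOf s then 0 else
              T M χ (x * (s : G)) e * conj (T M ψ (x * (s : G)) e')) := by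
        refine Finset.sum_congr rfl fun s _ => ?_
        split_ifs with hs
        · simp
        · rw [star_section hM hx χ hs, star_section hM hx ψ hs, map_sum, Finset.sum_mul_sum]
          refine Finset.sum_congr rfl fun e _ => Finset.sum_congr rfl fun e' _ => ?_
          rw [map_mul]
          ring
    _ = _ := by
        rw [Finset.sum_comm]
        refine Finset.sum_congr rfl fun e he => ?_
        rw [Finset.sum_comm, Finset.sum_eq_single e]
        · rw [Finset.mul_sum]
        · intro e' he' hne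
          rw [← Finset.mul_sum]
          refine mul_eq_zero_of_right _ ?_
          obtain ⟨f, hf, rfl⟩ := exists_eq_sblk (M := M) (mem_blocks.1 he)
          obtain ⟨f', hf', rfl⟩ := exists_eq_sblk (M := M) (mem_blocks.1 he')
          have hff : f ≠ f' := fun h => hne (by rw [h])
          have h0 := regInner_blockPart_eq_zero (p := p) hM hf hf' hff
            (fun c : ↥(Subgroup.centralizer ({x} : Set G)) => χ (x * (c : G)))
            (fun c : ↥(Subgroup.centralizer ({x} : Set G)) => ψ (x * (c : G)))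
          rw [regInner, mul_eq_zero, inv_eq_zero, Nat.cast_eq_zero] at h0
          refine Eq.trans ?_ (h0.resolve_left Nat.card_pos.ne')
          refine Finset.sum_congr rfl fun s _ => ?_
          split_ifs
          · rfl
          · rw [T_sblk hM (CfsgLib.Blocks.isBlockUnion_of_isPBlock hf) hχ,
              T_sblk hM (CfsgLib.Blocks.isBlockUnion_of_isPBlock hf') hψ]
        · exact fun hn => absurd he hn

open Classical in
/-- A sum over the group splits into sections. -/
theorem sum_eq_sum_sections' (F : G → ℂ) :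
    ∑ g, F g = ∑ x : G, if ∃ k, orderOf x = p ^ k then
      ∑ s : ↥(Subgroup.centralizer ({x} : Set G)), (if p ∣ orderOf s then 0 else F (x * (s : G)))
      else 0 := by
  rw [← Finset.sum_fiberwise Finset.univ (fun g : G => pPart p g) F]
  refine Finset.sum_congr rfl fun x _ => ?_
  split_ifs with hx
  · symm
    refine Finset.sum_bij_ne_zero (fun s _ _ => x * (s : G)) ?_ ?_ ?_ ?_
    · intro s _ hs
      have h : ¬ p ∣ orderOf s := fun h => hs (if_pos h)
      simp [pPart_mul_regular hx h]
    · intro s _ _ s' _ _ he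
      exact Subtype.ext (mul_left_cancel he)
    · intro g hg hne
      obtain ⟨y, hxy, hc, -, hy⟩ := pPart_spec (p := p) g
      rw [(Finset.mem_filter.1 hg).2] at hxy hc
      have hy' : ¬ p ∣ orderOf (⟨y, Subgroup.mem_centralizer_singleton_iff.2 hc.symm.eq⟩ :
          ↥(Subgroup.centralizer ({x} : Set G))) := by
        rwa [Subgroup.orderOf_mk]
      refine ⟨⟨y, Subgroup.mem_centralizer_singleton_iff.2 hc.symm.eq⟩, Finset.mem_univ _, ?_, hxy⟩
      rw [if_neg hy']
      simpa [hxy] using hne
    · intro s _ hs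
      exact if_neg fun h => hs (if_pos h)
  · refine Finset.sum_eq_zero fun g hg => absurd ?_ hx
    rw [← (Finset.mem_filter.1 hg).2]
    exact exists_orderOf_pPart g

include hM hB hmax in
open Classical in
/-- The star by functions inverse to each other up to conjugation preserves inner products. -/
theorem classInner_star (hζ : IsInvariant p P eP ζ) (hζ' : IsInvariant p P eP ζ')
    (h1 : ∀ w ∈ P, ζ w * conj (ζ' w) = 1) {χ ψ : IrrCharacter G} (hχ : χ ∈ B) (hψ : ψ ∈ B) :
    Cfsg.classInner (star p P eP ζ (χ : G → ℂ)) (star p P eP ζ' (ψ : G → ℂ)) =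
      Cfsg.classInner (χ : G → ℂ) (ψ : G → ℂ) := by
  have hf := Characters.isClassFunction_of_isIrr χ.2
  have hg := Characters.isClassFunction_of_isIrr ψ.2
  conv_rhs => rw [← star_of_eq_one hM hB hmax (ζ := (1 : G → ℂ)) (fun _ _ => rfl) isInvariant_one hχ,
    ← star_of_eq_one hM hB hmax (ζ := (1 : G → ℂ)) (fun _ _ => rfl) isInvariant_one hψ]
  simp only [Cfsg.classInner]
  congr 1
  refine (sum_eq_sum_sections' (p := p) _).trans
    (Eq.trans ?_ (sum_eq_sum_sections' (p := p) _).symm)
  refine Finset.sum_congr rfl fun x _ => ?_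
  split_ifs with hx
  swap
  · rfl
  rw [sum_section_star hM hx hf hg, sum_section_star hM hx hf hg]
  refine Finset.sum_congr rfl fun e he => ?_
  by_cases hex : ∃ y, Le p ⊤ (cj y (Subgroup.zpowers x)) (conjA (Res M) y e) P eP
  · obtain ⟨y, hy⟩ := hex
    have hmem : y * x * y⁻¹ ∈ P := hy.subgroup_le (mem_cj.2 (by simp [mul_assoc]))
    rw [zt_eq hζ hy, zt_eq hζ' hy, zt_eq isInvariant_one hy, h1 _ hmem]
    simp
  · have h0 : ∀ s : ↥(Subgroup.centralizer ({x} : Set G)), ¬ p ∣ orderOf s →
        T M (χ : G → ℂ) (x * (s : G)) e = 0 := by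
      intro s hs
      by_contra hT
      have h2 := exists_conj_of_T_ne_zero hM hB hmax hχ
        (z := x * (s : G)) (e := e) (by rw [pPart_mul_regular hx hs, cent_zpowers]; exact he) hT
      rw [pPart_mul_regular hx hs] at h2
      exact hex h2
    have hz : ∑ s : ↥(Subgroup.centralizer ({x} : Set G)),
        (if p ∣ orderOf s then 0 else T M (χ : G → ℂ) (x * (s : G)) e *
          conj (T M (ψ : G → ℂ) (x * (s : G)) e)) = 0 :=
      Finset.sum_eq_zero fun s _ => by
        split_ifs with hs
        · rfl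
        · rw [h0 s hs, zero_mul]
    rw [hz, mul_zero, mul_zero]

include hM in
/-- The translate of a star pairs with the members of a block through that of the function. -/
theorem regInner_star (hx : ∃ k, orderOf x = p ^ k)
    [Fintype ↥(Subgroup.centralizer ({x} : Set G))]
    {f : Set (IrrCharacter ↥(Subgroup.centralizer ({x} : Set G)))} (hf : Cfsg.IsPBlock M f)
    {χ : G → ℂ} (hχ : Cfsg.IsClassFunction G χ)
    {ξ : IrrCharacter ↥(Subgroup.centralizer ({x} : Set G))} (hξ : ξ ∈ f) :
    regInner p (fun c : ↥(Subgroup.centralizer ({x} : Set G)) => star p P eP ζ χ (x * (c : G)))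
        (ξ : ↥(Subgroup.centralizer ({x} : Set G)) → ℂ) =
      zt p P eP ζ x (sblk M (Subgroup.centralizer ({x} : Set G)) f) *
        regInner p (fun c : ↥(Subgroup.centralizer ({x} : Set G)) => χ (x * (c : G)))
          (ξ : ↥(Subgroup.centralizer ({x} : Set G)) → ℂ) := by
  classical
  have hblk : sblk M (Subgroup.centralizer ({x} : Set G)) f ∈
      blocks (Res M) (Subgroup.centralizer ({x} : Set G)) := mem_blocks.2 (isBlock_sblk hf)
  let φ : GA (Res M) G → ↥(Subgroup.centralizer ({x} : Set G)) → ℂ :=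
    fun e s => T M χ (x * (s : G)) e
  have hφ : ∀ f' : Set (IrrCharacter ↥(Subgroup.centralizer ({x} : Set G))),
      Cfsg.IsPBlock M f' → φ (sblk M (Subgroup.centralizer ({x} : Set G)) f') =
        Cfsg.blockPart f' (fun c : ↥(Subgroup.centralizer ({x} : Set G)) => χ (x * (c : G))) :=
    fun f' hf' => funext fun s => T_sblk hM (CfsgLib.Blocks.isBlockUnion_of_isPBlock hf') hχ s
  refine (BlocksCharsC.regInner_congr_left (φ' := fun s =>
      ∑ e ∈ blocks (Res M) (Subgroup.centralizer ({x} : Set G)),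
        zt p P eP ζ x e * φ e s) _ fun s hs => star_section hM hx χ hs).trans ?_
  rw [MajorSubsection.regInner_sum_left,
    Finset.sum_eq_single (sblk M (Subgroup.centralizer ({x} : Set G)) f)]
  · rw [hφ f hf, regInner_blockPart hM hf (CfsgLib.Blocks.isClassFunction_translate χ hχ x) hξ]
  · intro e he hne
    obtain ⟨f', hf', rfl⟩ := exists_eq_sblk (M := M) (mem_blocks.1 he)
    rw [hφ f' hf', regInner_blockPart_of_ne hM hf hf' (fun h => hne (by rw [h])) _ hξ, mul_zero]
  · exact fun hn => absurd hblk hn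

include hM in
/-- The traces of a star. -/
theorem T_star (hζ : IsInvariant p P eP ζ) {χ : G → ℂ} (hχ : Cfsg.IsClassFunction G χ) {z : G}
    {e : GA (Res M) G} (he : e ∈ blocks (Res M) (cent ⊤ (Subgroup.zpowers (pPart p z)))) :
    T M (star p P eP ζ χ) z e = zt p P eP ζ (pPart p z) e * T M χ z e := by
  classical
  obtain ⟨y, hy, hc, hk, hreg⟩ := pPart_spec (p := p) z
  set x := pPart p z
  rw [cent_zpowers] at he
  obtain ⟨f, hf, rfl⟩ := exists_eq_sblk (M := M) (mem_blocks.1 he)
  have hym : y ∈ Subgroup.centralizer ({x} : Set G) :=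
    Subgroup.mem_centralizer_singleton_iff.2 hc.symm.eq
  have hreg' : ¬ p ∣ orderOf (⟨y, hym⟩ : ↥(Subgroup.centralizer ({x} : Set G))) := by
    rwa [Subgroup.orderOf_mk]
  have hfu := CfsgLib.Blocks.isBlockUnion_of_isPBlock hf
  have key : ∀ {θ : G → ℂ}, Cfsg.IsClassFunction G θ →
      T M θ z (sblk M (Subgroup.centralizer ({x} : Set G)) f) =
        ∑ ξ : IrrCharacter ↥(Subgroup.centralizer ({x} : Set G)), if ξ ∈ f then
          regInner p (fun c : ↥(Subgroup.centralizer ({x} : Set G)) => θ (x * (c : G)))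
            (ξ : ↥(Subgroup.centralizer ({x} : Set G)) → ℂ) *
            (ξ : ↥(Subgroup.centralizer ({x} : Set G)) → ℂ) ⟨y, hym⟩ else 0 := fun {θ} hθ => by
    rw [← SubsectionNorm.blockPart_regular_eq hM hfu
      (CfsgLib.Blocks.isClassFunction_translate θ hθ x) hreg', ← T_sblk hM hfu hθ ⟨y, hym⟩]
    rw [hy]
  rw [key (isClassFunction_star hM hζ hχ), key hχ, Finset.mul_sum]
  refine Finset.sum_congr rfl fun ξ _ => ?_
  split_ifs with hξ
  · rw [regInner_star hM hk hf hχ hξ]; ring
  · rw [mul_zero]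

include hM in
/-- The star is an action. -/
theorem star_star (hζ' : IsInvariant p P eP ζ') {χ : G → ℂ} (hχ : Cfsg.IsClassFunction G χ) :
    star p P eP ζ (star p P eP ζ' χ) = star p P eP (ζ * ζ') χ := by
  funext g
  rw [star_apply, star_apply]
  refine Finset.sum_congr rfl fun e he => ?_
  rw [T_star hM hζ' hχ he, zt_mul, mul_assoc]

include hM hB hmax in
/-- On the p-regular elements the star multiplies by the value at one. -/
theorem star_regular (hζ : IsInvariant p P eP ζ) {χ : IrrCharacter G} (hχ : χ ∈ B) {g : G}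
    (hg : ¬ p ∣ orderOf g) : star p P eP ζ (χ : G → ℂ) g = ζ 1 * (χ : G → ℂ) g := by
  have h1 : pPart p g = 1 :=
    pPart_eq ⟨g, one_mul g, Commute.one_left g, ⟨0, by simp⟩, hg⟩
  rw [star_apply, ← sum_T_blocks (M := M) (p := p) (Characters.isClassFunction_of_isIrr χ.2) g,
    Finset.mul_sum]
  refine Finset.sum_congr rfl fun e he => ?_
  by_cases hT : T M (χ : G → ℂ) g e = 0
  · rw [hT, mul_zero, mul_zero]
  · obtain ⟨x, hx⟩ := exists_conj_of_T_ne_zero hM hB hmax hχ he hT
    rw [zt_eq hζ hx, h1]
    simp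

include hM hB hmax in
open Classical in
/-- A linear star of a member of the block is a member of the block. -/
theorem star_mem (hζ : IsInvariant p P eP ζ)
    (hζg : Cfsg.IsGeneralizedCharacter P fun w : P => ζ w) (hn : ∀ w ∈ P, ζ w * conj (ζ w) = 1)
    (h1 : ζ 1 = 1) {χ : IrrCharacter G} (hχ : χ ∈ B) :
    ∃ h : Cfsg.IsIrrCharacter G (star p P eP ζ (χ : G → ℂ)),
      (⟨_, h⟩ : IrrCharacter G) ∈ B := by
  have hgen := isGen_star hM (isBlock_gblk hB) hmax hζ hζg (Characters.isCharacter_of_isIrr χ.2)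
  have hnorm : Cfsg.classInner (star p P eP ζ (χ : G → ℂ)) (star p P eP ζ (χ : G → ℂ)) = 1 := by
    rw [classInner_star hM hB hmax hζ hζ hn hχ hχ, Characters.classInner_irr, if_pos rfl]
  have hreg : ∀ g, ¬ p ∣ orderOf g → star p P eP ζ (χ : G → ℂ) g = (χ : G → ℂ) g := fun g hg => by
    rw [star_regular hM hB hmax hζ hχ hg, h1, one_mul]
  have hone : star p P eP ζ (χ : G → ℂ) 1 = (χ : G → ℂ) 1 :=
    hreg 1 (by rw [orderOf_one]; exact hp.out.not_dvd_one)
  obtain ⟨n, hn0, hdeg⟩ := Characters.exists_degree_pos χ.2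
  have hirr := Characters.isIrr_of_gen_norm_one hgen hnorm (by rw [hone, hdeg]; simp)
  refine ⟨hirr, ?_⟩
  by_contra hnot
  have h0 := MajorSubsection.regInner_eq_zero_of_not_mem (p := p) hM hB hnot hχ
  rw [BlocksCharsC.regInner_congr_left (φ' := (χ : G → ℂ)) _ hreg, regInner, mul_eq_zero,
    inv_eq_zero, Nat.cast_eq_zero] at h0
  have h2 := congrArg Complex.re (h0.resolve_left Nat.card_pos.ne')
  rw [Complex.re_sum, Complex.zero_re] at h2
  have h3 := (Finset.sum_eq_zero_iff_of_nonneg (fun g _ => ?_)).1 h2 1 (Finset.mem_univ _)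
  · rw [orderOf_one, if_neg hp.out.not_dvd_one, Complex.mul_conj, Complex.ofReal_re,
      Complex.normSq_eq_zero] at h3
    exact Characters.irr_one_ne_zero χ.2 h3
  · split_ifs
    · simp
    · rw [Complex.mul_conj, Complex.ofReal_re]
      exact Complex.normSq_nonneg _

end CfsgLib.Star
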