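import Cfsg.Agent.NilpotentCover.Basic
import Cfsg.Agent.ConjFunctor.Orbit
import Cfsg.Agent.Blocks.PPart
import Cfsg.Prelude.Def_Characters
import Mathlib.GroupTheory.SchurZassenhaus
import Mathlib.GroupTheory.Nilpotent

/-!
# A nilpotent subgroup as the product of its p-part and its p'-part

`Split p E Q S`: `E` is the internal direct product of the p-subgroup `Q` and the p'-subgroup `S`.
-/

set_option autoImplicit false
set_option linter.unusedSectionVars false

namespace CfsgLib.Star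

variable {G : Type*} [Group G]

/-- `E = Q × S` with `Q` a p-group and `S` a p'-group. -/
structure Split (p : ℕ) (E Q S : Subgroup G) : Prop where
  hQE : Q ≤ E
  hSE : S ≤ E
  isP : IsPGroup p Q
  isP' : ∀ s ∈ S, ¬ p ∣ orderOf s
  comm : ∀ q ∈ Q, ∀ s ∈ S, Commute q s
  gen : ∀ e ∈ E, ∃ q ∈ Q, ∃ s ∈ S, q * s = e

variable [Finite G] {p : ℕ} [hp : Fact p.Prime]

/-- The p-part of an element. -/
noncomputable def pPart (p : ℕ) [hp : Fact p.Prime] (g : G) : G :=
  (CfsgLib.Blocks.exists_isPPart hp.out g).choose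

theorem pPart_spec (g : G) : Cfsg.IsPPart p g (pPart p g) :=
  (CfsgLib.Blocks.exists_isPPart hp.out g).choose_spec

theorem pPart_eq {g x : G} (h : Cfsg.IsPPart p g x) : pPart p g = x :=
  CfsgLib.Blocks.isPPart_unique hp.out (pPart_spec g) h

theorem exists_orderOf_pPart (g : G) : ∃ k, orderOf (pPart p g) = p ^ k := by
  obtain ⟨y, -, -, hk, -⟩ := pPart_spec (p := p) g
  exact hk

theorem pPart_mem_zpowers (g : G) : pPart p g ∈ Subgroup.zpowers g :=
  CfsgLib.Blocks.isPPart_mem_zpowers hp.out (pPart_spec g)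

theorem pPart_conj (t g : G) : pPart p (t * g * t⁻¹) = t * pPart p g * t⁻¹ := by
  obtain ⟨y, h1, h2, ⟨k, hk⟩, h4⟩ := pPart_spec (p := p) g
  refine pPart_eq ⟨t * y * t⁻¹, ?_, ?_, ⟨k, ?_⟩, ?_⟩
  · conv_rhs => rw [← h1]
    group
  · show _ = _
    calc t * pPart p g * t⁻¹ * (t * y * t⁻¹) = t * (pPart p g * y) * t⁻¹ := by group
      _ = _ := by rw [h2.eq]; group
  · rw [show t * pPart p g * t⁻¹ = MulAut.conj t (pPart p g) from rfl, MulEquiv.orderOf_eq, hk]
  · rwa [show t * y * t⁻¹ = MulAut.conj t y from rfl, MulEquiv.orderOf_eq]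

theorem pPart_of_pElement {u : G} (hu : ∃ k, orderOf u = p ^ k) : pPart p u = u :=
  pPart_eq ⟨1, mul_one u, Commute.one_right u, hu, by simp [hp.out.not_dvd_one]⟩

namespace Split

variable {E Q S : Subgroup G} (h : Split p E Q S)
include h

omit [Finite G] in
theorem exists_orderOf {q : G} (hq : q ∈ Q) : ∃ k, orderOf q = p ^ k := by
  obtain ⟨k, hk⟩ := IsPGroup.iff_orderOf.1 h.isP ⟨q, hq⟩
  exact ⟨k, by rwa [Subgroup.orderOf_mk] at hk⟩

theorem pPart_mul {q s : G} (hq : q ∈ Q) (hs : s ∈ S) : pPart p (q * s) = q :=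
  pPart_eq ⟨s, rfl, h.comm q hq s hs, h.exists_orderOf hq, h.isP' s hs⟩

theorem pPart_mem {e : G} (he : e ∈ E) : pPart p e ∈ Q := by
  obtain ⟨q, hq, s, hs, rfl⟩ := h.gen e he
  rwa [h.pPart_mul hq hs]

theorem mem_of_pElement {u : G} (hu : u ∈ E) (hk : ∃ k, orderOf u = p ^ k) : u ∈ Q :=
  pPart_of_pElement (p := p) hk ▸ h.pPart_mem hu

omit [Finite G] in
theorem le_normalizer : E ≤ Subgroup.normalizer (Q : Set G) := fun e he => by
  obtain ⟨q, hq, s, hs, rfl⟩ := h.gen e he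
  refine Subgroup.mul_mem _ (Subgroup.le_normalizer hq) (Subgroup.centralizer_le_normalizer _ ?_)
  exact Subgroup.mem_centralizer_iff.2 fun x hx => (h.comm x hx s hs).eq

omit [Finite G] in
theorem le_centralizer : S ≤ Subgroup.centralizer (Q : Set G) := fun s hs =>
  Subgroup.mem_centralizer_iff.2 fun x hx => (h.comm x hx s hs).eq

/-- Taking p-parts is a homomorphism on `E`. -/
noncomputable def proj : E →* Q where
  toFun e := ⟨pPart p (e : G), h.pPart_mem e.2⟩
  map_one' := Subtype.ext (by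
    have := h.pPart_mul Q.one_mem S.one_mem
    simpa using this)
  map_mul' := fun a b => Subtype.ext (by
    obtain ⟨q, hq, s, hs, ha⟩ := h.gen a a.2
    obtain ⟨q', hq', s', hs', hb⟩ := h.gen b b.2
    have hab : (a : G) * b = q * q' * (s * s') := by
      rw [← ha, ← hb]
      calc q * s * (q' * s') = q * (s * q') * s' := by group
        _ = q * (q' * s) * s' := by rw [(h.comm q' hq' s hs).eq]
        _ = _ := by group
    show pPart p ((a : G) * b) = pPart p (a : G) * pPart p (b : G)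
    rw [hab, ← ha, ← hb, h.pPart_mul (mul_mem hq hq') (mul_mem hs hs'), h.pPart_mul hq hs,
      h.pPart_mul hq' hs'])

omit [Finite G] in
/-- The product of a subgroup of `Q` with `S`. -/
def prodSub {R : Subgroup G} (hR : R ≤ Q) : Subgroup G where
  carrier := {e | ∃ r ∈ R, ∃ s ∈ S, r * s = e}
  one_mem' := ⟨1, R.one_mem, 1, S.one_mem, one_mul 1⟩
  mul_mem' := by
    rintro _ _ ⟨r, hr, s, hs, rfl⟩ ⟨r', hr', s', hs', rfl⟩
    refine ⟨r * r', mul_mem hr hr', s * s', mul_mem hs hs', ?_⟩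
    calc r * r' * (s * s') = r * (r' * s) * s' := by group
      _ = r * (s * r') * s' := by rw [(h.comm r' (hR hr') s hs).eq]
      _ = _ := by group
  inv_mem' := by
    rintro _ ⟨r, hr, s, hs, rfl⟩
    refine ⟨r⁻¹, inv_mem hr, s⁻¹, inv_mem hs, ?_⟩
    rw [mul_inv_rev]
    exact ((h.comm r (hR hr) s hs).inv_inv).eq

omit [Finite G] in
theorem split_prodSub {R : Subgroup G} (hR : R ≤ Q) : Split p (h.prodSub hR) R S where
  hQE := fun r hr => ⟨r, hr, 1, S.one_mem, mul_one r⟩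
  hSE := fun s hs => ⟨1, R.one_mem, s, hs, one_mul s⟩
  isP := h.isP.to_le hR
  isP' := h.isP'
  comm := fun q hq => h.comm q (hR hq)
  gen := fun _ he => he

omit [Finite G] in
theorem prodSub_le {R : Subgroup G} (hR : R ≤ Q) : h.prodSub hR ≤ E := by
  rintro _ ⟨r, hr, s, hs, rfl⟩
  exact mul_mem (h.hQE (hR hr)) (h.hSE hs)

theorem mem_prodSub_iff {R : Subgroup G} (hR : R ≤ Q) {e : G} (he : e ∈ E) :
    e ∈ h.prodSub hR ↔ pPart p e ∈ R := by
  obtain ⟨q, hq, s, hs, rfl⟩ := h.gen e he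
  rw [h.pPart_mul hq hs]
  constructor
  · rintro ⟨r, hr, s', hs', e'⟩
    have h1 := h.pPart_mul (hR hr) hs'
    rw [e', h.pPart_mul hq hs] at h1
    rwa [h1]
  · exact fun hqR => ⟨q, hqR, s, hs, rfl⟩

end Split

/-- A finite nilpotent subgroup splits. -/
theorem exists_split {E : Subgroup G} (hE : Group.IsNilpotent E) : ∃ Q S, Split p E Q S := by
  obtain ⟨P⟩ : Nonempty (Sylow p E) := Sylow.nonempty
  have : (P : Subgroup E).Normal := inferInstance
  obtain ⟨C, hC⟩ := Subgroup.exists_right_complement'_of_coprime P.card_coprime_index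
  refine ⟨(P : Subgroup E).map E.subtype, C.map E.subtype, Subgroup.map_subtype_le _,
    Subgroup.map_subtype_le _, P.isPGroup'.map _, ?_, ?_, ?_⟩
  · rintro _ ⟨s, hs, rfl⟩ hd
    rw [Subgroup.coe_subtype, Subgroup.orderOf_coe] at hd
    have h1 : p ∣ (P : Subgroup E).index := by
      rw [hC.symm.index_eq_card]
      exact hd.trans (Subgroup.orderOf_dvd_natCard _ hs)
    exact P.not_dvd_index h1
  · rintro _ ⟨q, hq, rfl⟩ _ ⟨s, hs, rfl⟩
    refine CfsgLib.NilpotentCover.commute_of_coprime_mem hE q.2 s.2 ?_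
    rw [Subgroup.coe_subtype, Subgroup.orderOf_coe, Subgroup.orderOf_coe]
    exact Nat.Coprime.of_dvd (Subgroup.orderOf_dvd_natCard _ hq)
      ((Subgroup.orderOf_dvd_natCard _ hs).trans hC.symm.index_eq_card.symm.dvd)
      P.card_coprime_index
  · intro e he
    obtain ⟨⟨q, s⟩, hqs⟩ := hC.2 ⟨e, he⟩
    exact ⟨_, ⟨q, q.2, rfl⟩, _, ⟨s, s.2, rfl⟩, congrArg Subtype.val hqs⟩

omit hp in
/-- An elementary subgroup is nilpotent. -/
theorem isNilpotent_of_isElementary {q : ℕ} [Fact q.Prime] {E : Type*} [Group E] [Finite E]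
    (h : Cfsg.IsElementary q E) : Group.IsNilpotent E := by
  obtain ⟨x, hx, -, k, hk⟩ := h
  have hle : Subgroup.zpowers x ≤ Subgroup.center E := Subgroup.zpowers_le.2 hx
  have hdvd : (Subgroup.center E).index ∣ q ^ k := hk ▸ Subgroup.index_dvd_of_le hle
  obtain ⟨i, -, hi⟩ := (Nat.dvd_prime_pow (Fact.out : q.Prime)).1 hdvd
  have : IsPGroup q (E ⧸ Subgroup.center E) := IsPGroup.of_card (n := i) hi
  have := this.isNilpotent
  exact Group.of_quotient_center_nilpotent this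

/-- Cosets of a normal subgroup of index `p` through the powers of an outside element. -/
theorem exists_unique_pow {E N : Subgroup G} {t : G} (ht : t ∈ E) (htN : t ∉ N)
    (hnorm : E ≤ Subgroup.normalizer (N : Set G)) (hidx : N.relIndex E = p) {e : G} (he : e ∈ E) :
    ∃! i : ℕ, i < p ∧ (t ^ i)⁻¹ * e ∈ N := by
  have : (N.subgroupOf E).Normal := ⟨fun n hn g => by
    rw [Subgroup.mem_subgroupOf] at hn ⊢
    exact ((Subgroup.mem_normalizer_iff).1 (hnorm g.2) _).1 hn⟩
  set T : E ⧸ N.subgroupOf E := QuotientGroup.mk (⟨t, ht⟩ : E)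
  have hcard : Nat.card (E ⧸ N.subgroupOf E) = p := hidx
  have hT : T ≠ 1 := fun h0 => htN (((QuotientGroup.eq_one_iff (⟨t, ht⟩ : E)).1 h0 :))
  have hord : orderOf T = p := by
    rcases (Nat.dvd_prime hp.out).1 (hcard ▸ orderOf_dvd_natCard T) with h | h
    · exact absurd (orderOf_eq_one_iff.1 h) hT
    · exact h
  have key : ∀ i : ℕ, (t ^ i)⁻¹ * e ∈ N ↔ T ^ i = QuotientGroup.mk (⟨e, he⟩ : E) := fun i => by
    rw [← QuotientGroup.mk_pow, QuotientGroup.eq, Subgroup.mem_subgroupOf]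
    simp
  have hgen : QuotientGroup.mk (⟨e, he⟩ : E) ∈ Subgroup.zpowers T :=
    mem_zpowers_of_prime_card hcard hT
  obtain ⟨i, hi⟩ := mem_powers_iff_mem_zpowers.2 hgen
  refine ⟨i % p, ⟨Nat.mod_lt _ hp.out.pos, ?_⟩, fun l hl => ?_⟩
  · rw [key, ← hord, pow_mod_orderOf]
    exact hi
  · have h1 := ((key l).1 hl.2).trans hi.symm
    rw [pow_eq_pow_iff_modEq, hord] at h1
    exact (Nat.mod_eq_of_lt hl.1).symm.trans h1

end CfsgLib.Star
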