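import Cfsg.Agent.GaloisAverage.Basic

/-!
# Galois-stable families of totally positive integers with sum equal to their number
-/

set_option autoImplicit false
set_option linter.style.haveILetI false

namespace CfsgLib.Star

open Polynomial CfsgLib.GaloisAverage

/-- The product of the conjugates of a nonzero cyclotomic integer is a nonzero integer. -/
theorem exists_int_prod_totatives {n : ℕ} (hn : 0 < n) {ζ : ℂ} (hζ : IsPrimitiveRoot ζ n)
    (P : ℤ[X]) (h : aeval ζ P ≠ 0) :
    ∃ z : ℤ, z ≠ 0 ∧ ∏ k ∈ totatives n, aeval (ζ ^ k) P = (z : ℂ) := by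
  classical
  have : NeZero n := ⟨hn.ne'⟩
  have hne : ∀ μ ∈ primitiveRoots n ℂ, aeval μ P ≠ 0 := fun μ hμ =>
    aeval_ne_zero_of_primitive hn P hζ ((mem_primitiveRoots hn).1 hμ) h
  have hint : IsIntegral ℤ (∏ μ ∈ primitiveRoots n ℂ, aeval μ P) :=
    IsIntegral.prod _ fun μ hμ => by
      have hi : IsIntegral ℤ μ := ((mem_primitiveRoots hn).1 hμ).isIntegral hn
      rw [Polynomial.aeval_eq_sum_range]
      exact IsIntegral.sum _ fun i _ => by
        rw [zsmul_eq_mul]
        exact (isIntegral_algebraMap (x := P.coeff i)).mul (hi.pow i)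
  have hrat : ∃ q : ℚ, ∏ μ ∈ primitiveRoots n ℂ, aeval μ P = (q : ℂ) := by
    let K := CyclotomicField n ℚ
    have : IsCyclotomicExtension {n} ℚ K := CyclotomicField.isCyclotomicExtension n ℚ
    have : FiniteDimensional ℚ K := IsCyclotomicExtension.finiteDimensional {n} ℚ K
    have hirr := Polynomial.cyclotomic.irreducible_rat hn
    have hz : IsPrimitiveRoot (IsCyclotomicExtension.zeta n ℚ K) n :=
      IsCyclotomicExtension.zeta_spec n ℚ K
    refine ⟨Algebra.norm ℚ (aeval (IsCyclotomicExtension.zeta n ℚ K) P), ?_⟩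
    rw [← eq_ratCast (algebraMap ℚ ℂ), Algebra.norm_eq_prod_embeddings,
      ← Finset.prod_coe_sort (primitiveRoots n ℂ) (fun μ => aeval μ P)]
    refine (Fintype.prod_equiv (hz.embeddingsEquivPrimitiveRoots ℂ hirr) _ _ fun σ => ?_).symm
    rw [hz.embeddingsEquivPrimitiveRoots_apply_coe]
    exact (aeval_algHom_apply (σ.restrictScalars ℤ) _ P).symm
  obtain ⟨q, hq⟩ := hrat
  obtain ⟨z, hz⟩ := exists_int_of_isIntegral_ratCast (hq ▸ hint)
  have hz0 : z ≠ 0 := fun h0 => by
    rw [h0, Int.cast_zero] at hz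
    exact Finset.prod_ne_zero_iff.2 hne (hq.trans hz)
  refine ⟨z, hz0, ?_⟩
  rw [← hz, ← hq]
  refine Finset.prod_bij (fun k _ => ζ ^ k) (fun k hk => ?_) (fun a ha b hb e => ?_)
    (fun μ hμ => ?_) (fun _ _ => rfl)
  · exact (mem_primitiveRoots hn).2 (hζ.pow_of_coprime k (mem_totatives.1 hk).2)
  · exact hζ.pow_inj (mem_totatives.1 ha).1 (mem_totatives.1 hb).1 e
  · obtain ⟨i, hi, rfl⟩ := hζ.eq_pow_of_pow_eq_one ((mem_primitiveRoots hn).1 hμ).pow_eq_one
    exact ⟨i, mem_totatives.2 ⟨hi, (hζ.pow_iff_coprime hn i).1 ((mem_primitiveRoots hn).1 hμ)⟩,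
      rfl⟩

/-- The product of the absolute values of the conjugates of a nonzero cyclotomic integer. -/
theorem one_le_prod_totatives {n : ℕ} (hn : 0 < n) {ζ : ℂ} (hζ : IsPrimitiveRoot ζ n) (P : ℤ[X])
    (h : aeval ζ P ≠ 0) : 1 ≤ ∏ k ∈ totatives n, ‖aeval (ζ ^ k) P‖ := by
  obtain ⟨z, hz0, hz⟩ := exists_int_prod_totatives hn hζ P h
  rw [← norm_prod, hz, Complex.norm_intCast]
  exact_mod_cast Int.one_le_abs hz0

/-- Positive reals on a group, with product at least one over each Galois orbit and sum equal to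
their number, are all one. -/
theorem eq_one_of_prod_sum {X : Type*} [Group X] [Fintype X] {n : ℕ} (hn : 0 < n)
    (hdvd : Nat.card X ∣ n) (a : X → ℝ) (hpos : ∀ u, 0 < a u)
    (hprod : ∀ u, 1 ≤ ∏ k ∈ totatives n, a (u ^ k)) (hsum : ∑ u, a u = (Nat.card X : ℝ)) (u : X) :
    a u = 1 := by
  classical
  have hphi : (0 : ℝ) < n.totient := Nat.cast_pos.2 (Nat.totient_pos.2 hn)
  have hperm : ∀ k ∈ totatives n, ∑ v, Real.log (a (v ^ k)) = ∑ v, Real.log (a v) := fun k hk => by
    have hcop : (Nat.card X).Coprime k :=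
      Nat.Coprime.coprime_dvd_left hdvd (mem_totatives.1 hk).2.symm
    exact Fintype.sum_equiv (powCoprime hcop) _ _ fun v => rfl
  have h1 : 0 ≤ ∑ v, Real.log (a v) := by
    have h2 : 0 ≤ ∑ v, ∑ k ∈ totatives n, Real.log (a (v ^ k)) :=
      Finset.sum_nonneg fun v _ => by
        rw [← Real.log_prod fun k _ => (hpos _).ne']
        exact Real.log_nonneg (hprod v)
    rw [Finset.sum_comm, Finset.sum_congr rfl hperm, Finset.sum_const, card_totatives,
      nsmul_eq_mul] at h2
    exact (mul_nonneg_iff_of_pos_left hphi).1 h2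
  have hle : ∀ v, 0 ≤ a v - 1 - Real.log (a v) := fun v => by
    linarith [Real.log_le_sub_one_of_pos (hpos v)]
  have hz : ∑ v, (a v - 1 - Real.log (a v)) ≤ 0 := by
    rw [Finset.sum_sub_distrib, Finset.sum_sub_distrib, hsum, Finset.sum_const, Finset.card_univ,
      ← Nat.card_eq_fintype_card, nsmul_eq_mul, mul_one]
    linarith
  have h0 := (Finset.sum_eq_zero_iff_of_nonneg fun v _ => hle v).1
    (le_antisymm hz (Finset.sum_nonneg fun v _ => hle v)) u (Finset.mem_univ u)
  by_contra hne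
  linarith [Real.log_lt_sub_one_of_pos (hpos u) hne]

end CfsgLib.Star
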