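import Cfsg.Agent.Star.Contr
import Cfsg.Agent.Star.Galois
import Cfsg.Agent.BlockPairs.Contributions

/-!
# The characters of a nilpotent block

For a nilpotent block with maximal pair `(P, e)` and a member `χ₀` of height zero the map
`θ ↦ θ * χ₀` is a bijection from the irreducible characters of `P` onto the block: every subsection
norm of `χ₀` is one, by Galois averaging.
-/

set_option autoImplicit false
set_option linter.unusedSectionVars false
set_option linter.style.haveILetI false

namespace CfsgLib.Star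

open Cfsg CfsgLib.BlockPairs Polynomial
open CfsgLib.Blocks (Res)
open CfsgLib.BlockPairing (regInner)
open CfsgLib.GaloisAverage (totatives mem_totatives)
open scoped ComplexConjugate

universe u

variable {G : Type u} [Group G] [Fintype G] {M : Ideal AlgInt} [M.IsPrime] {p : ℕ}
  [hp : Fact p.Prime] (hM : Cfsg.IsPModular p M)

section

variable {P : Subgroup G} {eP : GA (Res M) G} [CharP (Res M) p] [IsAlgClosed (Res M)]
  {B : Set (IrrCharacter G)} (hB : Cfsg.IsPBlock M B)
  (hmax : IsMaxPair p (⊤ : Subgroup G) (gblk M B) P eP) (hn : Nilp p ⊤ (gblk M B))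

include hM hB hmax hn

theorem card_inf_cent {w : G} [Fintype ↥(Subgroup.centralizer ({w} : Set G))]
    {f : Set (IrrCharacter ↥(Subgroup.centralizer ({w} : Set G)))} (hf : Cfsg.IsPBlock M f)
    (hle : Le p ⊤ (Subgroup.zpowers w) (sblk M (Subgroup.centralizer ({w} : Set G)) f) P eP) :
    Nat.card ↥(P ⊓ cent ⊤ (Subgroup.zpowers w)) = p ^ Cfsg.blockDefect p f := by
  have hD := defect_centralizer_of_nilp (isBlock_gblk hB) hmax hn hle
  rw [← cent_top, cent_zpowers] at hD
  rw [cent_zpowers, ← CfsgLib.Blocks.card_defectGroup hM hf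
    ((isDefectGroup_subgroupOf_iff hf inf_le_right).2 hD)]
  exact (Nat.card_congr (Subgroup.subgroupOfEquivOfLe inf_le_right).toEquiv).symm

variable {χ : IrrCharacter G} (hχ : χ ∈ B)

include hχ

variable (h0 : Cfsg.blockHeight p B (χ : G → ℂ) = 0)

include h0

/-- The norm at an element does not vanish. -/
theorem aval_ne_zero {w : G} (hw : w ∈ P) : aval p P eP (χ : G → ℂ) w ≠ 0 := by
  classical
  haveI := Fintype.ofFinite ↥(Subgroup.centralizer ({w} : Set G))
  obtain ⟨hk, f, hf, hind, hle⟩ := exists_sub hM hB hmax hw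
  have hχf := Characters.isClassFunction_of_isIrr χ.2
  rw [aval, cval_eq_subContrib hM hB hmax hf hle (card_inf_cent hM hB hmax hn hf hle) hχf hχf]
  intro h
  refine BlocksCharsC.subContrib_unit hM hk hB hind hχ hχ h0 h0 ?_
  rw [h]
  exact CfsgLib.Blocks.memLocalIdeal_zero

/-- All the norms of a character of height zero are one. -/
theorem aval_eq_one (w : P) : aval p P eP (χ : G → ℂ) (w : G) = 1 := by
  classical
  have hsum : ∑ v : P, aval p P eP (χ : G → ℂ) (v : G) = (Nat.card P : ℂ) := by
    have h := classInner_star_eq hM hB hmax hn hχ (ζ := (1 : G → ℂ)) (ζ' := (1 : G → ℂ))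
      isInvariant_one isInvariant_one
    rw [star_of_eq_one hM hB hmax (ζ := (1 : G → ℂ)) (fun _ _ => rfl) isInvariant_one hχ,
      Characters.classInner_irr, if_pos rfl] at h
    simp only [Pi.one_apply, map_one, mul_one, one_mul] at h
    rw [eq_comm, inv_mul_eq_one₀ (Nat.cast_ne_zero.2 Nat.card_pos.ne')] at h
    exact h.symm
  have hζ₀ := Complex.isPrimitiveRoot_exp (Nat.card P) Nat.card_pos.ne'
  have hone := eq_one_of_prod_sum (X := P) (n := Nat.card P) Nat.card_pos dvd_rfl
    (fun v => ‖aval p P eP (χ : G → ℂ) (v : G)‖)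
    (fun v => norm_pos_iff.2 (aval_ne_zero hM hB hmax hn hχ h0 v.2)) (fun v => ?_) ?_ w
  · rw [aval_eq_norm hM hB hmax χ, hone, Complex.ofReal_one]
  · obtain ⟨Q, hQ⟩ := exists_poly hM hB hmax v.2 (fun f hf hle => card_inf_cent hM hB hmax hn hf hle) χ χ hζ₀
    have h1 := hQ 1 (Nat.coprime_one_left _)
    rw [pow_one, pow_one] at h1
    refine (one_le_prod_totatives Nat.card_pos hζ₀ Q
      (h1 ▸ (by exact aval_ne_zero hM hB hmax hn hχ h0 v.2))).trans (le_of_eq ?_)
    refine Finset.prod_congr rfl fun k hk => ?_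
    rw [SubgroupClass.coe_pow, aval, hQ k (mem_totatives.1 hk).2]
  · have h := congrArg Complex.re hsum
    rw [Complex.re_sum, Complex.natCast_re] at h
    rw [← h]
    refine Finset.sum_congr rfl fun v _ => ?_
    rw [aval_eq_norm hM hB hmax χ (v : G), Complex.ofReal_re, Complex.norm_real,
      Real.norm_of_nonneg (norm_nonneg _)]

/-- The contribution of a character of height zero to itself. -/
theorem contrib_self : Contributions.contrib p B χ χ = 1 := by
  classical
  have hd : Cfsg.IsDefectGroup p M B P := by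
    rw [isDefectGroup_gblk_iff hB]
    exact (IsMaxPair.isDefectGrp (isBlock_gblk hB) hmax).1
  have h1 : aval p P eP (χ : G → ℂ) 1 = 1 := by
    have h := aval_eq_one hM hB hmax hn hχ h0 (1 : P)
    rwa [OneMemClass.coe_one] at h
  have htop : cent ⊤ (Subgroup.zpowers (1 : G)) = (⊤ : Subgroup G) := by
    rw [cent_zpowers, eq_top_iff]
    exact fun g _ => Subgroup.mem_centralizer_singleton_iff.2 (by simp)
  have hT : ∀ s : G, ¬ p ∣ orderOf s →
      T M (χ : G → ℂ) s (below p P eP (Subgroup.zpowers (1 : G))) = (χ : G → ℂ) s := fun s hs => by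
    have hp1 : pPart p s = 1 := pPart_eq ⟨s, one_mul s, Commute.one_left s, ⟨0, by simp⟩, hs⟩
    refine Eq.trans ?_ (sum_T_blocks (M := M) (p := p) (Characters.isClassFunction_of_isIrr χ.2) s)
    rw [hp1, Finset.sum_eq_single (below p P eP (Subgroup.zpowers (1 : G)))]
    · intro e he hne
      by_contra hT'
      obtain ⟨x, hx⟩ := exists_conj_of_T_ne_zero hM hB hmax hχ (z := s) (by rw [hp1]; exact he) hT'
      rw [hp1, cj_zpowers, mul_one, mul_inv_cancel] at hx
      apply hne
      rw [below_eq hmax hx, (mem_blocks.1 he).fixed x (by rw [htop]; trivial)]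
    · exact fun hn' => absurd (below_mem_blocks hmax P.one_mem) hn'
  refine Int.cast_injective (α := ℂ) ?_
  rw [Contributions.cast_contrib hχ, Int.cast_one, ← h1, aval, cval, wt, htop, inf_top_eq, Subgroup.card_top,
    CfsgLib.Blocks.card_defectGroup hM hB hd, nsum, regInner, Finset.sum_filter]
  rw [div_eq_mul_inv, ← mul_assoc]
  congr 1
  refine Finset.sum_congr rfl fun s _ => ?_
  by_cases hs : p ∣ orderOf s
  · rw [if_pos hs, if_neg fun h => h.2 hs]
  · rw [if_neg hs, if_pos ⟨trivial, hs⟩, one_mul, hT s hs]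

/-- The bijection between the irreducible characters of `P` and the block. -/
theorem exists_param :
    ∃ Ψ : IrrCharacter P → IrrCharacter G, Function.Injective Ψ ∧
      (∀ ψ, ψ ∈ B ↔ ∃ θ, Ψ θ = ψ) ∧
      ∀ (θ : IrrCharacter P) (g : G), ¬ p ∣ orderOf g →
        (Ψ θ : G → ℂ) g = (θ : P → ℂ) 1 * (χ : G → ℂ) g := by
  classical
  have hb := isBlock_gblk (M := M) hB
  have hχc := Characters.isCharacter_of_isIrr χ.2
  let ext : IrrCharacter P → G → ℂ := fun θ => Cfsg.extendByZero P (θ : P → ℂ)
  have hext : ∀ (θ : IrrCharacter P) (w : P), ext θ (w : G) = (θ : P → ℂ) w := fun θ w =>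
    Characters.extendByZero_of_mem P _ w.2
  have hinv : ∀ θ : IrrCharacter P, IsInvariant p P eP (ext θ) := fun θ =>
    isInvariant_extend hB hmax hn (Characters.isClassFunction_of_isIrr θ.2)
  have hgen : ∀ θ : IrrCharacter P,
      Cfsg.IsGeneralizedCharacter G (star p P eP (ext θ) (χ : G → ℂ)) := fun θ => by
    refine isGen_star hM hb hmax (hinv θ) ?_ hχc
    simp only [hext]
    exact Characters.isGen_of_isIrr θ.2
  have hinner : ∀ θ θ' : IrrCharacter P,
      Cfsg.classInner (star p P eP (ext θ) (χ : G → ℂ)) (star p P eP (ext θ') (χ : G → ℂ)) =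
        if θ = θ' then 1 else 0 := fun θ θ' => by
    rw [classInner_star_eq hM hB hmax hn hχ (hinv θ) (hinv θ')]
    simp only [hext, aval_eq_one hM hB hmax hn hχ h0, mul_one]
    exact Characters.classInner_irr θ θ'
  have hreg : ∀ (θ : IrrCharacter P) (g : G), ¬ p ∣ orderOf g →
      star p P eP (ext θ) (χ : G → ℂ) g = (θ : P → ℂ) 1 * (χ : G → ℂ) g := fun θ g hg => by
    rw [star_regular hM hB hmax (hinv θ) hχ hg, show (1 : G) = ((1 : P) : G) from rfl, hext]
  have hirr : ∀ θ : IrrCharacter P, Cfsg.IsIrrCharacter G (star p P eP (ext θ) (χ : G → ℂ)) :=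
    fun θ => by
    refine Characters.isIrr_of_gen_norm_one (hgen θ) ((hinner θ θ).trans (if_pos rfl)) ?_
    obtain ⟨n, hn0, hdeg⟩ := Characters.exists_degree_pos χ.2
    obtain ⟨m, hm0, hdegθ⟩ := Characters.exists_degree_pos θ.2
    rw [hreg θ 1 (by rw [orderOf_one]; exact hp.out.not_dvd_one), hdeg, hdegθ]
    simp only [Complex.mul_re, Complex.natCast_re, Complex.natCast_im, mul_zero, sub_zero]
    positivity
  let Ψ : IrrCharacter P → IrrCharacter G := fun θ => ⟨_, hirr θ⟩
  have hcontrib : ∀ θ, regInner p (Ψ θ : G → ℂ) (χ : G → ℂ) =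
      (θ : P → ℂ) 1 * regInner p (χ : G → ℂ) (χ : G → ℂ) := fun θ => by
    rw [regInner, regInner, ← mul_assoc, mul_comm ((θ : P → ℂ) 1), mul_assoc,
      Finset.mul_sum _ _ ((θ : P → ℂ) 1)]
    congr 1
    refine Finset.sum_congr rfl fun g _ => ?_
    split_ifs with hg
    · rw [mul_zero]
    · rw [show (Ψ θ : G → ℂ) g = star p P eP (ext θ) (χ : G → ℂ) g from rfl, hreg θ g hg]; ring
  have hself := contrib_self hM hB hmax hn hχ h0
  have hne : regInner p (χ : G → ℂ) (χ : G → ℂ) ≠ 0 := fun h => by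
    have h2 := Contributions.cast_contrib (p := p) hχ χ
    rw [hself, h, mul_zero, Int.cast_one] at h2
    exact one_ne_zero h2
  have hmem : ∀ θ, Ψ θ ∈ B := fun θ => by
    by_contra hnot
    have h := BlockPairing.regInner_symm p (Ψ θ) χ
    rw [Contributions.regInner_eq_zero hM hB hχ hnot, hcontrib] at h
    exact mul_ne_zero (Characters.irr_one_ne_zero θ.2) hne h
  have hinj : Function.Injective Ψ := fun θ θ' h => by
    by_contra hne'
    have h1 := hinner θ θ'
    rw [if_neg hne', show star p P eP (ext θ') (χ : G → ℂ) = star p P eP (ext θ) (χ : G → ℂ) from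
      (congrArg Subtype.val h).symm, hinner θ θ, if_pos rfl] at h1
    exact one_ne_zero h1
  refine ⟨Ψ, hinj, fun ψ => ⟨fun hψ => ?_, ?_⟩, hreg⟩
  swap
  · rintro ⟨θ, rfl⟩
    exact hmem θ
  by_contra hnot
  have hrow : ∀ θ, (Contributions.contrib p B χ (Ψ θ) : ℂ) = (θ : P → ℂ) 1 := fun θ => by
    rw [Contributions.cast_contrib hχ, BlockPairing.regInner_symm p χ (Ψ θ), hcontrib, mul_left_comm,
      ← Contributions.cast_contrib hχ χ, hself, Int.cast_one, mul_one]
  have hsq := Contributions.sum_sq hM hB hχ (p := p)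
  rw [hself, mul_one] at hsq
  have hd : Cfsg.IsDefectGroup p M B P := by
    rw [isDefectGroup_gblk_iff hB]
    exact (IsMaxPair.isDefectGrp hb hmax).1
  have himg : ((∑ ψ' ∈ Finset.univ.image Ψ, Contributions.contrib p B χ ψ' ^ 2 : ℤ) : ℂ) =
      ((p : ℤ) ^ Cfsg.blockDefect p B : ℤ) := by
    rw [Finset.sum_image fun a _ b _ h => hinj h]
    push_cast
    simp only [hrow]
    rw [Characters.sum_degree_sq, CfsgLib.Blocks.card_defectGroup hM hB hd]
    push_cast
    ring
  have himg' := Int.cast_injective himg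
  have hsub : Finset.univ.image Ψ ⊆ B.toFinset.erase ψ := fun ψ' h => by
    obtain ⟨θ, -, rfl⟩ := Finset.mem_image.1 h
    exact Finset.mem_erase.2 ⟨fun e => hnot ⟨θ, e⟩, Set.mem_toFinset.2 (hmem θ)⟩
  have h1 := Finset.sum_le_sum_of_subset_of_nonneg hsub
    (f := fun ψ' => Contributions.contrib p B χ ψ' ^ 2) fun ψ' _ _ => sq_nonneg _
  rw [himg', ← hsq, ← Finset.add_sum_erase _ _ (Set.mem_toFinset.2 hψ)] at h1
  have h2 := Contributions.contrib_ne_zero_of_height_zero hM hB hψ hχ h0
  rw [Contributions.contrib_symm hψ hχ] at h2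
  have h3 : 0 < Contributions.contrib p B χ ψ ^ 2 := by positivity
  linarith

end

end CfsgLib.Star
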