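import Cfsg.Agent.Star.Linear
import Cfsg.Agent.BlockPairs.Nilpotent
import Cfsg.Agent.Characters.Induction

/-!
# The inner product of two stars in a nilpotent block

For a nilpotent block the subsections are parametrized by the classes of the maximal pair's group
`P`, so the inner product of two stars of a member is a weighted inner product over `P`.
-/

set_option autoImplicit false
set_option linter.unusedSectionVars false
set_option linter.style.haveILetI false

namespace CfsgLib.Star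

open Cfsg CfsgLib.BlockPairs
open CfsgLib.Blocks (Res)
open CfsgLib.BlockPairing (regInner)
open scoped ComplexConjugate

universe u

variable {G : Type u} [Group G] [Fintype G] {M : Ideal AlgInt} [M.IsPrime] {p : ℕ}
  [hp : Fact p.Prime] {P : Subgroup G} {eP : GA (Res M) G}

open Classical in
/-- The block below the maximal pair at a cyclic subgroup. -/
noncomputable def below (p : ℕ) (P : Subgroup G) (eP : GA (Res M) G) (U : Subgroup G) :
    GA (Res M) G :=
  if h : ∃ e, Le p ⊤ U e P eP then h.choose else 0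

open Classical in
/-- The products of traces summed over the regular elements of a subgroup. -/
noncomputable def nsum (p : ℕ) [Fact p.Prime] (χ ψ : G → ℂ) (H : Subgroup G) (x : G)
    (e : GA (Res M) G) : ℂ :=
  ∑ s ∈ Finset.univ.filter (fun s => s ∈ H ∧ ¬ p ∣ orderOf s),
    T M χ (x * s) e * conj (T M ψ (x * s) e)

/-- The weight of an element of `P`. -/
noncomputable def wt (P : Subgroup G) (w : G) : ℂ :=
  (Nat.card ↥(P ⊓ cent ⊤ (Subgroup.zpowers w)) : ℂ) / (Nat.card ↥(cent ⊤ (Subgroup.zpowers w)) : ℂ)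

/-- The contribution of the subsection at an element of `P`. -/
noncomputable def cval (p : ℕ) [Fact p.Prime] (P : Subgroup G) (eP : GA (Res M) G) (χ ψ : G → ℂ)
    (w : G) : ℂ :=
  wt P w * nsum p χ ψ (cent ⊤ (Subgroup.zpowers w)) w (below p P eP (Subgroup.zpowers w))

/-- The norm of the subsection at an element of `P`. -/
noncomputable def aval (p : ℕ) [Fact p.Prime] (P : Subgroup G) (eP : GA (Res M) G) (χ : G → ℂ)
    (w : G) : ℂ :=
  cval p P eP χ χ w

open Classical in
theorem nsum_eq_sum (χ ψ : G → ℂ) (H : Subgroup G) [Fintype H] (x : G) (e : GA (Res M) G) :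
    nsum p χ ψ H x e = ∑ s : H, if p ∣ orderOf s then 0 else
      T M χ (x * (s : G)) e * conj (T M ψ (x * (s : G)) e) := by
  rw [nsum, Finset.sum_filter]
  refine Eq.symm (Eq.trans ?_ (Finset.sum_subset
    (Finset.subset_univ (Finset.univ.map ⟨((↑) : H → G), Subtype.val_injective⟩)) ?_))
  · rw [Finset.sum_map]
    refine Finset.sum_congr rfl fun s _ => ?_
    rw [Function.Embedding.coeFn_mk, Subgroup.orderOf_coe]
    by_cases h : p ∣ orderOf s
    · rw [if_pos h, if_neg fun h' => h'.2 h]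
    · rw [if_neg h, if_pos ⟨s.2, h⟩]
  · exact fun g _ hg => if_neg fun h => hg (Finset.mem_map.2 ⟨⟨g, h.1⟩, Finset.mem_univ _, rfl⟩)

theorem cj_cent_top (t : G) (Q : Subgroup G) : cj t (cent ⊤ Q) = cent ⊤ (cj t Q) :=
  cj_cent (Subgroup.mem_top t)

open Classical in
theorem nsum_conj {χ ψ : G → ℂ} (hχ : Cfsg.IsClassFunction G χ) (hψ : Cfsg.IsClassFunction G ψ)
    (t x : G) {e : GA (Res M) G}
    (he : IsBlock (cent ⊤ (Subgroup.zpowers x)) e) :
    nsum p χ ψ (cent ⊤ (Subgroup.zpowers (t * x * t⁻¹))) (t * x * t⁻¹) (conjA (Res M) t e) =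
      nsum p χ ψ (cent ⊤ (Subgroup.zpowers x)) x e := by
  have hmem : ∀ s : G, t * s * t⁻¹ ∈ cent ⊤ (Subgroup.zpowers (t * x * t⁻¹)) ↔
      s ∈ cent ⊤ (Subgroup.zpowers x) := fun s => by
    rw [← cj_zpowers, ← cj_cent_top, mem_cj]
    simp [mul_assoc]
  have hord : ∀ s : G, orderOf (t * s * t⁻¹) = orderOf s := fun s => (MulAut.conj t).orderOf_eq s
  refine (Finset.sum_nbij' (fun s => t * s * t⁻¹) (fun s => t⁻¹ * s * t) ?_ ?_ ?_ ?_ ?_).symm
  · intro s hs
    have h := (Finset.mem_filter.1 hs).2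
    exact Finset.mem_filter.2 ⟨Finset.mem_univ _, (hmem s).2 h.1, by rw [hord]; exact h.2⟩
  · intro s hs
    have h := (Finset.mem_filter.1 hs).2
    have hs' : t * (t⁻¹ * s * t) * t⁻¹ = s := by group
    exact Finset.mem_filter.2 ⟨Finset.mem_univ _, (hmem _).1 (by rw [hs']; exact h.1),
      by rw [← hord, hs']; exact h.2⟩
  · intro s _; group
  · intro s _; group
  · intro s hs
    have hsC := (Finset.mem_filter.1 hs).2.1
    have hxC : x ∈ cent ⊤ (Subgroup.zpowers x) := by
      rw [cent_zpowers, Subgroup.mem_centralizer_singleton_iff]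
    have h1 := T_conj hχ (t := t) he.idem (he.fixed (x * s) (mul_mem hxC hsC))
    have h2 := T_conj hψ (t := t) he.idem (he.fixed (x * s) (mul_mem hxC hsC))
    rw [show t * x * t⁻¹ * (t * s * t⁻¹) = t * (x * s) * t⁻¹ by group, h1, h2]

section Nilpotent

variable [CharP (Res M) p] [IsAlgClosed (Res M)] (hM : Cfsg.IsPModular p M)
  {B : Set (IrrCharacter G)} (hB : Cfsg.IsPBlock M B)
  (hmax : IsMaxPair p (⊤ : Subgroup G) (gblk M B) P eP) (hn : Nilp p ⊤ (gblk M B))

include hmax in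
theorem le_below {w : G} (hw : w ∈ P) :
    Le p ⊤ (Subgroup.zpowers w) (below p P eP (Subgroup.zpowers w)) P eP := by
  obtain ⟨f, -, hf⟩ := exists_below hmax.1.1 (Subgroup.zpowers_le.2 hw)
  have h : ∃ e, Le p ⊤ (Subgroup.zpowers w) e P eP := ⟨f, hf⟩
  rw [below, dif_pos h]
  exact h.choose_spec

include hmax in
theorem below_eq {w : G} {e : GA (Res M) G} (h : Le p ⊤ (Subgroup.zpowers w) e P eP) :
    below p P eP (Subgroup.zpowers w) = e :=
  le_unique (le_below hmax (h.subgroup_le (Subgroup.mem_zpowers w))) h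

include hmax in
theorem below_mem_blocks {w : G} (hw : w ∈ P) :
    below p P eP (Subgroup.zpowers w) ∈ blocks (Res M) (cent ⊤ (Subgroup.zpowers w)) :=
  mem_blocks.2 (le_pair hmax.1.1 (le_below hmax hw)).2.2

include hmax in
theorem below_conj {y w : G} (hy : y ∈ P) (hw : w ∈ P) :
    below p P eP (Subgroup.zpowers (y * w * y⁻¹)) =
      conjA (Res M) y (below p P eP (Subgroup.zpowers w)) := by
  refine below_eq hmax ?_
  have h := (le_below hmax hw).conjA (x := y) (Subgroup.mem_top y)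
  rwa [cj_zpowers, cj_eq_self (Subgroup.le_normalizer hy), hmax.1.1.fixed_self y hy] at h

include hB hmax hn

/-- In a nilpotent block the fusion is that of `P`. -/
theorem exists_conj_of_mor {w g : G} (h : Mor p P eP (Subgroup.zpowers w) g) :
    ∃ y ∈ P, g * w * g⁻¹ = y * w * y⁻¹ := by
  have hmor : Cfsg.conjHom (Subgroup.zpowers w) g ∈
      (blockSystem hmax.1.1).Hom (Subgroup.zpowers w) := ⟨g, h, fun u => rfl⟩
  rw [(nilp_iff_inner (isBlock_gblk hB) hmax).1 hn] at hmor
  obtain ⟨-, y, hy, hyw⟩ := hmor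
  exact ⟨y, hy, hyw ⟨w, Subgroup.mem_zpowers w⟩⟩

/-- Every class function of `P` is invariant. -/
theorem isInvariant_extend {θ : P → ℂ} (hθ : Cfsg.IsClassFunction P θ) :
    IsInvariant p P eP (Cfsg.extendByZero P θ) := by
  intro w g hm
  obtain ⟨y, hy, hyw⟩ := exists_conj_of_mor hB hmax hn hm
  have h1 : w ∈ P := hm.source_le (Subgroup.mem_zpowers w)
  rw [hyw, Characters.extendByZero_of_mem P θ h1,
    Characters.extendByZero_of_mem P θ (P.mul_mem (P.mul_mem hy h1) (P.inv_mem hy))]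
  exact hθ ⟨w, h1⟩ ⟨y, hy⟩

include hM

variable {χ : IrrCharacter G} (hχ : χ ∈ B) {ζ ζ' : G → ℂ} (hζ : IsInvariant p P eP ζ)
  (hζ' : IsInvariant p P eP ζ')

include hχ hζ hζ'

open Classical in
/-- The inner product of two stars as a sum over `P`. -/
theorem classInner_star_eq :
    Cfsg.classInner (star p P eP ζ (χ : G → ℂ)) (star p P eP ζ' (χ : G → ℂ)) =
      (Nat.card P : ℂ)⁻¹ * ∑ w : P, ζ (w : G) * conj (ζ' (w : G)) *
        aval p P eP (χ : G → ℂ) (w : G) := by
  have hf := Characters.isClassFunction_of_isIrr χ.2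
  -- the function on the pairs
  let F : (Σ _ : G, GA (Res M) G) → ℂ := fun σ =>
    zt p P eP ζ σ.1 σ.2 * conj (zt p P eP ζ' σ.1 σ.2) *
      nsum p (χ : G → ℂ) (χ : G → ℂ) (cent ⊤ (Subgroup.zpowers σ.1)) σ.1 σ.2
  let S : Finset (Σ _ : G, GA (Res M) G) :=
    (Finset.univ.filter fun x : G => ∃ k, orderOf x = p ^ k).sigma
      fun x => blocks (Res M) (cent ⊤ (Subgroup.zpowers x))
  have hL : Cfsg.classInner (star p P eP ζ (χ : G → ℂ)) (star p P eP ζ' (χ : G → ℂ)) =
      (Nat.card G : ℂ)⁻¹ * ∑ σ ∈ S, F σ := by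
    simp only [Cfsg.classInner]
    congr 1
    rw [Finset.sum_sigma, Finset.sum_filter]
    refine (sum_eq_sum_sections' (p := p) _).trans (Finset.sum_congr rfl fun x _ => ?_)
    split_ifs with hx
    · rw [sum_section_star hM hx hf hf, cent_zpowers]
      exact Finset.sum_congr rfl fun e _ => by simp only [F]; rw [cent_zpowers, nsum_eq_sum]
    · rfl
  -- the map from `G × P`
  let Φ : G × P → (Σ _ : G, GA (Res M) G) := fun a =>
    ⟨a.1 * (a.2 : G) * a.1⁻¹, conjA (Res M) a.1 (below p P eP (Subgroup.zpowers (a.2 : G)))⟩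
  have hΦ : ∀ a, Φ a ∈ S := by
    rintro ⟨g, w⟩
    refine Finset.mem_sigma.2 ⟨Finset.mem_filter.2 ⟨Finset.mem_univ _, ?_⟩, ?_⟩
    · obtain ⟨k, hk⟩ := hmax.1.1.2.1 w
      obtain ⟨i, -, hi⟩ := (Nat.dvd_prime_pow hp.out).1
        (orderOf_dvd_of_pow_eq_one (x := (w : G)) (n := p ^ k) (congrArg Subtype.val hk))
      exact ⟨i, ((MulAut.conj g).orderOf_eq (w : G)).trans hi⟩
    · have h := (mem_blocks.1 (below_mem_blocks hmax w.2)).conjA g
      rw [cj_cent_top, cj_zpowers] at h
      exact mem_blocks.2 h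
  have hFΦ : ∀ a : G × P, F (Φ a) = ζ (a.2 : G) * conj (ζ' (a.2 : G)) *
      nsum p (χ : G → ℂ) (χ : G → ℂ) (cent ⊤ (Subgroup.zpowers (a.2 : G))) (a.2 : G)
        (below p P eP (Subgroup.zpowers (a.2 : G))) := by
    rintro ⟨g, w⟩
    have hle := le_below hmax w.2
    simp only [F, Φ]
    rw [zt_conj hζ, zt_conj hζ', nsum_conj hf hf g (w : G) (mem_blocks.1 (below_mem_blocks hmax w.2)),
      zt_eq hζ (x := 1) (by rwa [conjA_one_left, cj_one]),
      zt_eq hζ' (x := 1) (by rwa [conjA_one_left, cj_one])]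
    simp
  have hA : ∑ a : G × P, wt P (a.2 : G) * F (Φ a) =
      (Nat.card G : ℂ) * ∑ w : P, ζ (w : G) * conj (ζ' (w : G)) *
        aval p P eP (χ : G → ℂ) (w : G) := by
    simp only [hFΦ]
    rw [Fintype.sum_prod_type]
    dsimp only
    rw [Finset.sum_const, Finset.card_univ, ← Nat.card_eq_fintype_card, nsmul_eq_mul]
    refine congrArg _ (Finset.sum_congr rfl fun w _ => ?_)
    rw [aval, cval]
    ring
  -- the fibres
  have hfib : ∀ σ ∈ S, (∑ a ∈ Finset.univ.filter (fun a => Φ a = σ), wt P (a.2 : G)) * F σ =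
      (Nat.card P : ℂ) * F σ := by
    rintro ⟨x, e⟩ hσ
    by_cases hF : F ⟨x, e⟩ = 0
    · rw [hF, mul_zero, mul_zero]
    obtain ⟨y, hy⟩ : ∃ y, Le p ⊤ (cj y (Subgroup.zpowers x)) (conjA (Res M) y e) P eP := by
      by_contra h
      apply hF
      simp only [F]
      rw [zt_eq_zero fun y hy => h ⟨y, hy⟩, zero_mul, zero_mul]
    rw [cj_zpowers] at hy
    set u₀ := y * x * y⁻¹ with hu₀
    have hu₀P : u₀ ∈ P := hy.subgroup_le (Subgroup.mem_zpowers _)
    have he₀ : below p P eP (Subgroup.zpowers u₀) = conjA (Res M) y e := below_eq hmax hy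
    set C₀ := cent ⊤ (Subgroup.zpowers u₀) with hC₀
    have hC₀mem : ∀ c, c ∈ C₀ ↔ c * u₀ = u₀ * c := fun c => by
      rw [hC₀, cent_zpowers, Subgroup.mem_centralizer_singleton_iff]
    let D : Finset (G × P) := (Finset.univ.filter fun c => c ∈ C₀) ×ˢ (Finset.univ : Finset P)
    let m : G × P → G × P := fun a =>
      (y⁻¹ * a.1 * (a.2 : G)⁻¹,
        ⟨(a.2 : G) * u₀ * (a.2 : G)⁻¹, P.mul_mem (P.mul_mem a.2.2 hu₀P) (P.inv_mem a.2.2)⟩)
    have hmD : ∀ a ∈ D, m a ∈ Finset.univ.filter (fun b => Φ b = ⟨x, e⟩) := by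
      rintro ⟨c, z⟩ ha
      have hc : c ∈ C₀ := (Finset.mem_filter.1 (Finset.mem_product.1 ha).1).2
      refine Finset.mem_filter.2 ⟨Finset.mem_univ _, ?_⟩
      simp only [Φ, m]
      rw [below_conj hmax z.2 hu₀P, conjA_conjA]
      refine Sigma.ext ?_ (heq_of_eq ?_)
      · have hcu : c * u₀ * c⁻¹ = u₀ := by rw [(hC₀mem c).1 hc, mul_inv_cancel_right]
        calc y⁻¹ * c * (z : G)⁻¹ * ((z : G) * u₀ * (z : G)⁻¹) * (y⁻¹ * c * (z : G)⁻¹)⁻¹
            = y⁻¹ * (c * u₀ * c⁻¹) * y := by group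
          _ = x := by rw [hcu, hu₀]; group
      · rw [inv_mul_cancel_right, ← conjA_conjA,
          (mem_blocks.1 (below_mem_blocks hmax hu₀P)).fixed c hc, he₀, conjA_inv]
    have hfibre : ∀ b ∈ Finset.univ.filter (fun b => Φ b = ⟨x, e⟩),
        (D.filter fun a => m a = b).card = Nat.card ↥(P ⊓ C₀) ∧ wt P (b.2 : G) = wt P u₀ := by
      rintro ⟨g, w⟩ hb
      have hb' := Sigma.mk.inj_iff.1 (Finset.mem_filter.1 hb).2
      have hgw : g * (w : G) * g⁻¹ = x := hb'.1
      have hge : conjA (Res M) g (below p P eP (Subgroup.zpowers (w : G))) = e := eq_of_heq hb'.2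
      have hmor : Mor p P eP (Subgroup.zpowers (w : G)) (y * g) := by
        refine (mor_iff (le_below hmax w.2)).2 ?_
        rw [← conjA_conjA, hge, cj_zpowers,
          show y * g * (w : G) * (y * g)⁻¹ = y * (g * (w : G) * g⁻¹) * y⁻¹ by group, hgw]
        exact hy
      obtain ⟨z₀, hz₀, hz₀w⟩ := exists_conj_of_mor hB hmax hn hmor
      have hz : z₀ * (w : G) * z₀⁻¹ = u₀ := by
        rw [← hz₀w, show y * g * (w : G) * (y * g)⁻¹ = y * (g * (w : G) * g⁻¹) * y⁻¹ by group, hgw]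
      set c₀ := y * g * z₀⁻¹ with hc₀
      have hw : (w : G) = z₀⁻¹ * u₀ * z₀ := by rw [← hz]; group
      have hc₀C : c₀ ∈ C₀ := by
        rw [hC₀mem]
        have : c₀ * u₀ * c₀⁻¹ = u₀ := by
          conv_lhs => rw [hc₀, ← hz]
          conv_rhs => rw [← hz, ← hz₀w]
          group
        calc c₀ * u₀ = c₀ * u₀ * c₀⁻¹ * c₀ := by group
          _ = u₀ * c₀ := by rw [this]
      refine ⟨?_, ?_⟩
      · rw [Nat.card_eq_fintype_card, ← Finset.card_univ]
        refine (Finset.card_bij (fun (d : ↥(P ⊓ C₀)) _ =>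
          ((c₀ * (d : G), (⟨z₀⁻¹ * (d : G), P.mul_mem (P.inv_mem hz₀) d.2.1⟩ : P)) : G × P))
          ?_ ?_ ?_).symm
        · intro d _
          refine Finset.mem_filter.2 ⟨Finset.mem_product.2 ⟨Finset.mem_filter.2
            ⟨Finset.mem_univ _, C₀.mul_mem hc₀C d.2.2⟩, Finset.mem_univ _⟩, ?_⟩
          simp only [m]
          refine Prod.ext ?_ (Subtype.ext ?_)
          · simp only [hc₀]; group
          · show z₀⁻¹ * (d : G) * u₀ * (z₀⁻¹ * (d : G))⁻¹ = (w : G)
            calc z₀⁻¹ * (d : G) * u₀ * (z₀⁻¹ * (d : G))⁻¹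
                = z₀⁻¹ * ((d : G) * u₀ * (d : G)⁻¹) * z₀ := by group
              _ = (w : G) := by rw [(hC₀mem _).1 d.2.2, mul_inv_cancel_right, hw]
        · intro d _ d' _ h
          exact Subtype.ext (mul_left_cancel (congrArg Prod.fst h))
        · rintro ⟨c, z⟩ ha
          obtain ⟨hD, hm⟩ := Finset.mem_filter.1 ha
          have hc : c ∈ C₀ := (Finset.mem_filter.1 (Finset.mem_product.1 hD).1).2
          have h1 : y⁻¹ * c * (z : G)⁻¹ = g := congrArg Prod.fst hm
          have h2 : (z : G) * u₀ * (z : G)⁻¹ = (w : G) :=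
            congrArg Subtype.val (congrArg Prod.snd hm)
          have hd : z₀ * (z : G) ∈ P ⊓ C₀ := by
            refine ⟨P.mul_mem hz₀ z.2, (hC₀mem _).2 ?_⟩
            calc z₀ * (z : G) * u₀ = z₀ * ((z : G) * u₀ * (z : G)⁻¹) * (z : G) := by group
              _ = z₀ * (w : G) * z₀⁻¹ * (z₀ * (z : G)) := by rw [h2]; group
              _ = u₀ * (z₀ * (z : G)) := by rw [hz]
          refine ⟨⟨_, hd⟩, Finset.mem_univ _, Prod.ext ?_ (Subtype.ext ?_)⟩
          · show c₀ * (z₀ * (z : G)) = c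
            rw [hc₀, ← h1]; group
          · show z₀⁻¹ * (z₀ * (z : G)) = (z : G)
            group
      · show wt P (w : G) = wt P u₀
        have hcent : cent ⊤ (Subgroup.zpowers u₀) = cj z₀ (cent ⊤ (Subgroup.zpowers (w : G))) := by
          rw [cj_cent_top, cj_zpowers, hz]
        have hinf : P ⊓ cj z₀ (cent ⊤ (Subgroup.zpowers (w : G))) =
            cj z₀ (P ⊓ cent ⊤ (Subgroup.zpowers (w : G))) := by
          conv_rhs => rw [show cj z₀ (P ⊓ cent ⊤ (Subgroup.zpowers (w : G))) =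
            cj z₀ P ⊓ cj z₀ (cent ⊤ (Subgroup.zpowers (w : G))) from
              Subgroup.map_inf _ _ _ (MulAut.conj z₀).injective,
            cj_eq_self (Subgroup.le_normalizer hz₀)]
        rw [wt, wt, hcent, hinf, card_cj, card_cj]
    have hcard := Finset.card_eq_sum_card_fiberwise hmD
    rw [Finset.sum_congr rfl fun b hb => (hfibre b hb).1, Finset.sum_const, smul_eq_mul] at hcard
    have hDcard : D.card = Nat.card C₀ * Nat.card P := by
      rw [Finset.card_product, Finset.card_univ, ← Nat.card_eq_fintype_card]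
      congr 1
      rw [Nat.card_eq_fintype_card, Fintype.card_subtype]
    rw [Finset.sum_congr rfl fun b hb => (hfibre b hb).2, Finset.sum_const, nsmul_eq_mul]
    congr 1
    have h := congrArg (fun n : ℕ => (n : ℂ)) (hDcard.symm.trans hcard)
    push_cast at h
    rw [wt]
    have : (Nat.card ↥(cent ⊤ (Subgroup.zpowers u₀)) : ℂ) ≠ 0 :=
      Nat.cast_ne_zero.2 Nat.card_pos.ne'
    field_simp
    linear_combination -h
  have hB' : ∑ a : G × P, wt P (a.2 : G) * F (Φ a) = (Nat.card P : ℂ) * ∑ σ ∈ S, F σ := by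
    rw [← Finset.sum_fiberwise_of_maps_to (g := Φ) (fun a _ => hΦ a), Finset.mul_sum]
    refine Finset.sum_congr rfl fun σ hσ => ?_
    rw [← hfib σ hσ, Finset.sum_mul]
    exact Finset.sum_congr rfl fun a ha => by rw [(Finset.mem_filter.1 ha).2]
  have hG : (Nat.card G : ℂ) ≠ 0 := Nat.cast_ne_zero.2 Nat.card_pos.ne'
  have hP : (Nat.card P : ℂ) ≠ 0 := Nat.cast_ne_zero.2 Nat.card_pos.ne'
  rw [hL]
  have h := hB'.symm.trans hA
  field_simp
  linear_combination h

end Nilpotent

end CfsgLib.Star
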