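import Cfsg.Agent.Star.Count

/-!
# The contributions of the subsections below a maximal pair

Where `C_P(w)` has the order of a defect group of the block below at `w`, the contribution of the
subsection at `w` of two characters is the subsection contribution of the block, and its values at
the powers of `w` are those of one integral polynomial.
-/

set_option autoImplicit false
set_option linter.unusedSectionVars false
set_option linter.style.haveILetI false

namespace CfsgLib.Star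

open Cfsg CfsgLib.BlockPairs Polynomial
open CfsgLib.Blocks (Res)
open CfsgLib.BlockPairing (regInner)
open scoped ComplexConjugate

universe u

variable {G : Type u} [Group G] [Fintype G] {M : Ideal AlgInt} [M.IsPrime] {p : ℕ}
  [hp : Fact p.Prime] (hM : Cfsg.IsPModular p M)

include hM in
theorem T_sblk_of_eq {H : Subgroup G} [Fintype H] {x : G}
    (hH : Subgroup.centralizer ({x} : Set G) = H)
    {f : Set (IrrCharacter H)} (hf : CfsgLib.Blocks.IsBlockUnion M f) {θ : G → ℂ}
    (hθ : Cfsg.IsClassFunction G θ) (s : H) :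
    T M θ (x * (s : G)) (sblk M H f) =
      Cfsg.blockPart f (fun c : H => θ (x * (c : G))) s := by
  subst hH
  exact T_sblk hM hf hθ s

theorem irr_pow_mul {w : G} [Fintype ↥(Subgroup.centralizer ({w} : Set G))]
    (ξ : IrrCharacter ↥(Subgroup.centralizer ({w} : Set G))) (k : ℕ)
    (c : ↥(Subgroup.centralizer ({w} : Set G))) :
    (ξ : ↥(Subgroup.centralizer ({w} : Set G)) → ℂ) (BlocksCharsC.selfCent w ^ k * c) =
      BlocksCharsC.secRoot w ξ ^ k * (ξ : ↥(Subgroup.centralizer ({w} : Set G)) → ℂ) c := by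
  induction k with
  | zero => simp
  | succ k ih =>
    have h1 := Characters.irr_one_ne_zero ξ.2
    have h := BlocksCharsC.irr_central_mul ξ.2 (z := BlocksCharsC.selfCent w)
      BlocksCharsC.selfCent_mem_center (BlocksCharsC.selfCent w ^ k * c)
    rw [ih] at h
    rw [pow_succ', mul_assoc, eq_div_iff h1 |>.2 h, pow_succ' (BlocksCharsC.secRoot w ξ),
      BlocksCharsC.secRoot]
    ring

section

variable {P : Subgroup G} {eP : GA (Res M) G} [CharP (Res M) p] [IsAlgClosed (Res M)]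
  {B : Set (IrrCharacter G)} (hB : Cfsg.IsPBlock M B)
  (hmax : IsMaxPair p (⊤ : Subgroup G) (gblk M B) P eP)

include hM hB hmax

/-- The contribution is that of the block below. -/
theorem cval_eq_subContrib {w : G} [Fintype ↥(Subgroup.centralizer ({w} : Set G))]
    {f : Set (IrrCharacter ↥(Subgroup.centralizer ({w} : Set G)))} (hf : Cfsg.IsPBlock M f)
    (hle : Le p ⊤ (Subgroup.zpowers w) (sblk M (Subgroup.centralizer ({w} : Set G)) f) P eP)
    (hcard : Nat.card ↥(P ⊓ cent ⊤ (Subgroup.zpowers w)) = p ^ Cfsg.blockDefect p f)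
    {χ ψ : G → ℂ} (hχ : Cfsg.IsClassFunction G χ) (hψ : Cfsg.IsClassFunction G ψ) :
    cval p P eP χ ψ w = BlocksCharsC.subContrib p w f χ ψ := by
  classical
  have hfu := CfsgLib.Blocks.isBlockUnion_of_isPBlock hf
  rw [cval, wt, below_eq hmax hle, cent_zpowers, nsum_eq_sum]
  rw [cent_zpowers] at hcard
  rw [hcard]
  have hsec : ∀ {θ : G → ℂ}, Cfsg.IsClassFunction G θ → BlocksCharsC.secVal w f θ =
      fun s : ↥(Subgroup.centralizer ({w} : Set G)) =>
        T M θ (w * (s : G)) (sblk M (Subgroup.centralizer ({w} : Set G)) f) := fun {θ} hθ => by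
    funext s
    rw [T_sblk hM hfu hθ, BlocksCharsC.secVal, Cfsg.blockPart, CfsgLib.Blocks.finsum_irr_mem,
      show Fintype.ofFinite ↥(Subgroup.centralizer ({w} : Set G)) = ‹_› from Subsingleton.elim _ _,
      ← Finset.sum_filter]
    exact Finset.sum_congr (by ext; simp) fun ξ _ => rfl
  rw [BlocksCharsC.subContrib, BlocksCharsC.secInner, hsec hχ, hsec hψ, regInner]
  ring

/-- The contributions at the powers of an element are the values of one integral polynomial. -/
theorem exists_poly {w : G} (hw : w ∈ P)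
    (hcard : ∀ [Fintype ↥(Subgroup.centralizer ({w} : Set G))]
      (f : Set (IrrCharacter ↥(Subgroup.centralizer ({w} : Set G)))), Cfsg.IsPBlock M f →
      Le p ⊤ (Subgroup.zpowers w) (sblk M (Subgroup.centralizer ({w} : Set G)) f) P eP →
        Nat.card ↥(P ⊓ cent ⊤ (Subgroup.zpowers w)) = p ^ Cfsg.blockDefect p f)
    (χ ψ : IrrCharacter G) {ζ₀ : ℂ} (hζ₀ : IsPrimitiveRoot ζ₀ (Nat.card P)) :
    ∃ Q : ℤ[X], ∀ k : ℕ, k.Coprime (Nat.card P) →
      cval p P eP (χ : G → ℂ) (ψ : G → ℂ) (w ^ k) = aeval (ζ₀ ^ k) Q := by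
  classical
  haveI := Fintype.ofFinite ↥(Subgroup.centralizer ({w} : Set G))
  set N := Nat.card P with hN
  haveI : NeZero N := ⟨Nat.card_pos.ne'⟩
  obtain ⟨hk, f, hf, -, hle⟩ := exists_sub hM hB hmax hw
  have hfu := CfsgLib.Blocks.isBlockUnion_of_isPBlock hf
  have hcard := hcard f hf hle
  have hwN : orderOf w ∣ N := Subgroup.orderOf_dvd_natCard P hw
  -- the multiplicities and the central values
  choose n hn' using fun (φ : IrrCharacter G)
      (ξ : IrrCharacter ↥(Subgroup.centralizer ({w} : Set G))) =>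
    Characters.classInner_character_irr (Characters.isCharacter_restrict
      (Subgroup.centralizer ({w} : Set G)) (Characters.isCharacter_of_isIrr φ.2)) ξ.2
  have hroot : ∀ ξ : IrrCharacter ↥(Subgroup.centralizer ({w} : Set G)),
      ∃ j, ζ₀ ^ j = BlocksCharsC.secRoot w ξ := fun ξ => by
    obtain ⟨k', hk'⟩ := hk
    obtain ⟨c, hc⟩ := hwN
    obtain ⟨j, -, hj⟩ := hζ₀.eq_pow_of_pow_eq_one (ξ := BlocksCharsC.secRoot w ξ) (by
      rw [hc, hk', pow_mul, BlocksCharsC.secRoot_pow hk', one_pow])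
    exact ⟨j, hj⟩
  choose j hj using hroot
  have hconj : conj ζ₀ = ζ₀ ^ (N - 1) := by
    have h0 : ζ₀ ≠ 0 := hζ₀.ne_zero (NeZero.ne N)
    refine mul_left_cancel₀ h0 ?_
    rw [Complex.mul_conj', Complex.norm_eq_one_of_pow_eq_one hζ₀.pow_eq_one (NeZero.ne N),
      ← pow_succ', Nat.sub_add_cancel (NeZero.pos N), hζ₀.pow_eq_one]
    simp
  have hz : ∀ ξ η : IrrCharacter ↥(Subgroup.centralizer ({w} : Set G)), ∃ z : ℤ, ξ ∈ f →
      ((p ^ Cfsg.blockDefect p f : ℕ) : ℂ) *
        regInner p (ξ : ↥(Subgroup.centralizer ({w} : Set G)) → ℂ) η = z := fun ξ η => by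
    by_cases h : ξ ∈ f
    · obtain ⟨z, hz⟩ := BlockPairing.exists_int_pow_defect (p := p) h η
      exact ⟨z, fun _ => hz⟩
    · exact ⟨0, fun h' => absurd h' h⟩
  choose z hz using hz
  refine ⟨∑ ξ ∈ f.toFinset, ∑ η ∈ f.toFinset,
    C ((n χ ξ : ℤ) * (n ψ η : ℤ) * z ξ η) * X ^ (j ξ + (N - 1) * j η), fun k hkN => ?_⟩
  have hzp : Subgroup.zpowers (w ^ k) = Subgroup.zpowers w := by
    refine le_antisymm (Subgroup.zpowers_le.2 (pow_mem (Subgroup.mem_zpowers w) k))
      (Subgroup.zpowers_le.2 ?_)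
    obtain ⟨m, hm⟩ := exists_pow_eq_self_of_coprime (hkN.coprime_dvd_right hwN)
    have h := pow_mem (Subgroup.mem_zpowers (w ^ k)) m
    rwa [hm] at h
  have hCk : Subgroup.centralizer ({w ^ k} : Set G) = Subgroup.centralizer ({w} : Set G) := by
    rw [← cent_zpowers, hzp, cent_zpowers]
  -- the translate in the block
  have hpart : ∀ (φ : IrrCharacter G) (s : ↥(Subgroup.centralizer ({w} : Set G))),
      T M (φ : G → ℂ) (w ^ k * (s : G)) (sblk M (Subgroup.centralizer ({w} : Set G)) f) =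
        ∑ ξ ∈ f.toFinset, ((n φ ξ : ℂ) * (ζ₀ ^ k) ^ j ξ) *
          (ξ : ↥(Subgroup.centralizer ({w} : Set G)) → ℂ) s := fun φ s => by
    have htr : (fun c : ↥(Subgroup.centralizer ({w} : Set G)) => (φ : G → ℂ) (w ^ k * (c : G))) =
        ∑ ξ : IrrCharacter ↥(Subgroup.centralizer ({w} : Set G)),
          ((n φ ξ : ℂ) * (ζ₀ ^ k) ^ j ξ) • (ξ : ↥(Subgroup.centralizer ({w} : Set G)) → ℂ) := by
      funext c
      have h := congrFun (Characters.character_expansion (Characters.isCharacter_restrict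
        (Subgroup.centralizer ({w} : Set G)) (Characters.isCharacter_of_isIrr φ.2)))
        (BlocksCharsC.selfCent w ^ k * c)
      simp only [Finset.sum_apply, Pi.smul_apply, smul_eq_mul, hn', irr_pow_mul] at h
      refine Eq.trans ?_ (h.trans ?_)
      · simp [BlocksCharsC.selfCent]
      · rw [Finset.sum_apply]
        refine Finset.sum_congr rfl fun ξ _ => ?_
        rw [Pi.smul_apply, smul_eq_mul, ← hj ξ, ← pow_mul, ← pow_mul, mul_comm (j ξ)]
        ring
    rw [T_sblk_of_eq hM hCk hfu (Characters.isClassFunction_of_isIrr φ.2), Cfsg.blockPart, CfsgLib.Blocks.finsum_irr_mem,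
      show Fintype.ofFinite ↥(Subgroup.centralizer ({w} : Set G)) = ‹_› from Subsingleton.elim _ _,
      ← Finset.sum_filter]
    refine Finset.sum_congr (by ext; simp) fun ξ _ => ?_
    rw [htr, Characters.classInner_irr_coeff]
  rw [cval, wt, hzp, below_eq hmax hle, cent_zpowers, nsum_eq_sum]
  rw [cent_zpowers] at hcard
  rw [hcard]
  have hrhs : aeval (ζ₀ ^ k) (∑ ξ ∈ f.toFinset, ∑ η ∈ f.toFinset,
      C ((n χ ξ : ℤ) * (n ψ η : ℤ) * z ξ η) * X ^ (j ξ + (N - 1) * j η)) =
      ∑ ξ ∈ f.toFinset, ∑ η ∈ f.toFinset, ((n χ ξ : ℂ) * (ζ₀ ^ k) ^ j ξ) *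
        conj ((n ψ η : ℂ) * (ζ₀ ^ k) ^ j η) * (((p ^ Cfsg.blockDefect p f : ℕ) : ℂ) *
          regInner p (ξ : ↥(Subgroup.centralizer ({w} : Set G)) → ℂ) η) := by
    rw [map_sum]
    refine Finset.sum_congr rfl fun ξ hξ => ?_
    rw [map_sum]
    refine Finset.sum_congr rfl fun η _ => ?_
    rw [hz ξ η (Set.mem_toFinset.1 hξ)]
    simp only [map_mul, map_pow, aeval_X, eq_intCast, map_natCast, map_intCast, hconj, pow_add]
    rw [← pow_mul ζ₀ (N - 1) k, ← pow_mul ζ₀, ← pow_mul ζ₀, ← pow_mul ζ₀]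
    rw [show (N - 1) * k * j η = k * ((N - 1) * j η) by ring]
    ring
  rw [hrhs]
  have hinner : ∑ ξ ∈ f.toFinset, ∑ η ∈ f.toFinset, ((n χ ξ : ℂ) * (ζ₀ ^ k) ^ j ξ) *
      conj ((n ψ η : ℂ) * (ζ₀ ^ k) ^ j η) * (((p ^ Cfsg.blockDefect p f : ℕ) : ℂ) *
        regInner p (ξ : ↥(Subgroup.centralizer ({w} : Set G)) → ℂ) η) =
      ((p ^ Cfsg.blockDefect p f : ℕ) : ℂ) * regInner p
        (fun s : ↥(Subgroup.centralizer ({w} : Set G)) =>
          ∑ ξ ∈ f.toFinset, ((n χ ξ : ℂ) * (ζ₀ ^ k) ^ j ξ) *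
            (ξ : ↥(Subgroup.centralizer ({w} : Set G)) → ℂ) s)
        (fun s => ∑ ξ ∈ f.toFinset, ((n ψ ξ : ℂ) * (ζ₀ ^ k) ^ j ξ) *
            (ξ : ↥(Subgroup.centralizer ({w} : Set G)) → ℂ) s) := by
    rw [MajorSubsection.regInner_sum_left, Finset.mul_sum]
    refine Finset.sum_congr rfl fun ξ _ => ?_
    rw [BlocksCharsC.regInner_sum_right, Finset.mul_sum, Finset.mul_sum]
    exact Finset.sum_congr rfl fun η _ => by ring
  rw [hinner, regInner]
  rw [show (∑ s : ↥(Subgroup.centralizer ({w} : Set G)), if p ∣ orderOf s then 0 else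
        T M (χ : G → ℂ) (w ^ k * (s : G)) (sblk M (Subgroup.centralizer ({w} : Set G)) f) *
          conj (T M (ψ : G → ℂ) (w ^ k * (s : G))
            (sblk M (Subgroup.centralizer ({w} : Set G)) f))) = _ from
    Finset.sum_congr rfl fun s _ => by rw [hpart χ s, hpart ψ s]]
  ring

/-- The norm at an element is real and nonnegative. -/
theorem aval_eq_norm (χ : IrrCharacter G) (w : G) : aval p P eP (χ : G → ℂ) w = (‖aval p P eP (χ : G → ℂ) w‖ : ℂ) := by
  classical
  have h : ∃ r : ℝ, 0 ≤ r ∧ aval p P eP (χ : G → ℂ) w = (r : ℂ) := by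
    refine ⟨(Nat.card ↥(P ⊓ cent ⊤ (Subgroup.zpowers w)) : ℝ) /
      (Nat.card ↥(cent ⊤ (Subgroup.zpowers w)) : ℝ) *
      ∑ s ∈ Finset.univ.filter (fun s => s ∈ cent ⊤ (Subgroup.zpowers w) ∧ ¬ p ∣ orderOf s),
        Complex.normSq (T M (χ : G → ℂ) (w * s) (below p P eP (Subgroup.zpowers w))),
      mul_nonneg (by positivity) (Finset.sum_nonneg fun s _ => Complex.normSq_nonneg _), ?_⟩
    rw [aval, cval, wt, nsum]
    push_cast
    congr 1
    exact Finset.sum_congr (by congr 1) fun s _ => Complex.mul_conj _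
  obtain ⟨r, hr, he⟩ := h
  rw [he, Complex.norm_real, Real.norm_of_nonneg hr]

end

end CfsgLib.Star
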