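import Mathlib.GroupTheory.FiniteAbelian.Duality
import Mathlib.RingTheory.RootsOfUnity.AlgebraicallyClosed
import Mathlib.Analysis.Complex.Polynomial.Basic
import Mathlib.GroupTheory.GroupAction.Quotient
import Mathlib.GroupTheory.Index

/-!
# Annihilators of subgroups among the linear characters, and counting orbits
-/

set_option autoImplicit false
set_option linter.style.haveILetI false

namespace CfsgLib.Star

variable {P : Type*} [Group P]

/-- The linear characters trivial on `K`. -/
def annih (K : Subgroup P) : Subgroup (P →* ℂˣ) where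
  carrier := {l | K ≤ l.ker}
  one_mem' := fun _ _ => rfl
  mul_mem' := fun {a b} ha hb x hx => by
    rw [MonoidHom.mem_ker, MonoidHom.mul_apply, MonoidHom.mem_ker.1 (ha hx),
      MonoidHom.mem_ker.1 (hb hx), one_mul]
  inv_mem' := fun {a} ha x hx => by
    rw [MonoidHom.mem_ker, MonoidHom.inv_apply, MonoidHom.mem_ker.1 (ha hx), inv_one]

theorem mem_annih {K : Subgroup P} {l : P →* ℂˣ} : l ∈ annih K ↔ K ≤ l.ker := Iff.rfl

theorem normal_of_commutator_le {K : Subgroup P} (hK : commutator P ≤ K) : K.Normal :=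
  ⟨fun n hn g => by
    have h := hK (Subgroup.commutator_mem_commutator (Subgroup.mem_top g) (Subgroup.mem_top n))
    rw [commutatorElement_def] at h
    simpa [mul_assoc] using mul_mem h hn⟩

theorem card_annih [Finite P] {K : Subgroup P} (hK : commutator P ≤ K) :
    Nat.card (annih K) = K.index := by
  haveI := normal_of_commutator_le hK
  haveI hc : IsMulCommutative (P ⧸ K) := ⟨⟨fun a b => by
    obtain ⟨x, rfl⟩ := QuotientGroup.mk_surjective a
    obtain ⟨y, rfl⟩ := QuotientGroup.mk_surjective b
    rw [← QuotientGroup.mk_mul, ← QuotientGroup.mk_mul, QuotientGroup.eq]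
    refine hK ?_
    rw [show (x * y)⁻¹ * (y * x) = y⁻¹ * x⁻¹ * (y⁻¹)⁻¹ * (x⁻¹)⁻¹ by group,
      ← commutatorElement_def, commutator_def]
    exact Subgroup.commutator_mem_commutator (Subgroup.mem_top _) (Subgroup.mem_top _)⟩⟩
  letI : CommGroup (P ⧸ K) := { (inferInstance : Group (P ⧸ K)) with mul_comm := mul_comm' }
  haveI : NeZero (Monoid.exponent (P ⧸ K) : ℂ) :=
    ⟨Nat.cast_ne_zero.2 Monoid.exponent_ne_zero_of_finite⟩
  rw [Subgroup.index_eq_card, ← CommGroup.card_monoidHom_of_hasEnoughRootsOfUnity (P ⧸ K) ℂ]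
  refine Nat.card_congr (Equiv.ofBijective
    (fun l : annih K => QuotientGroup.lift K (l : P →* ℂˣ) l.2) ⟨?_, ?_⟩)
  · exact fun l l' h => Subtype.ext (MonoidHom.ext fun g =>
      DFunLike.congr_fun h (g : P ⧸ K))
  · refine fun f => ⟨⟨f.comp (QuotientGroup.mk' K), fun x hx => ?_⟩, MonoidHom.ext fun q => ?_⟩
    · rw [MonoidHom.mem_ker, MonoidHom.comp_apply, QuotientGroup.mk'_apply,
        (QuotientGroup.eq_one_iff x).2 hx, map_one]
    · obtain ⟨x, rfl⟩ := QuotientGroup.mk_surjective q
      rfl

theorem finite_annih [Finite P] {K : Subgroup P} (hK : commutator P ≤ K) : Finite (annih K) :=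
  Nat.finite_of_card_ne_zero (by rw [card_annih hK]; exact Subgroup.FiniteIndex.index_ne_zero)

variable [Finite P] {K : Subgroup P} (hK : commutator P ≤ K) {X : Type*} [MulAction (annih K) X]
  [Finite X]

include hK in
/-- If the stabilizers kill `Z`, the number of points is divisible by the index of `K` in `K Z`. -/
theorem relIndex_dvd_card (Z : Subgroup P)
    (h : ∀ (x : X) (l : annih K), l • x = x → Z ≤ (l : P →* ℂˣ).ker) :
    K.relIndex Z ∣ Nat.card X := by
  classical
  haveI := normal_of_commutator_le hK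
  haveI := finite_annih hK
  haveI : Fintype (MulAction.orbitRel.Quotient (annih K) X) := Fintype.ofFinite _
  rw [Nat.card_congr (MulAction.selfEquivSigmaOrbits (annih K) X), Nat.card_sigma]
  refine Finset.dvd_sum fun ω _ => ?_
  set x := ω.out
  set S := MulAction.stabilizer (annih K) x
  have hS : Nat.card S ∣ (K ⊔ Z).index := by
    haveI : Finite (annih (K ⊔ Z)) := finite_annih (hK.trans le_sup_left)
    rw [← card_annih (hK.trans (le_sup_left : K ≤ K ⊔ Z)),
      ← Subgroup.card_map_of_injective (K := S) (f := (annih K).subtype) Subtype.val_injective]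
    refine Subgroup.card_dvd_of_le ?_
    rintro _ ⟨l, hl, rfl⟩
    exact sup_le l.2 (h x l hl)
  obtain ⟨t, ht⟩ := hS
  have horb : Nat.card (MulAction.orbit (annih K) x) * Nat.card S = K.index := by
    rw [← card_annih hK, ← Subgroup.index_mul_card S, MulAction.index_stabilizer, Nat.card_coe_set_eq]
  refine ⟨t, Nat.eq_of_mul_eq_mul_right (Nat.card_pos (α := S)) ?_⟩
  rw [horb, mul_assoc, mul_comm t, ← ht, ← Subgroup.relIndex_sup_right (H := Z) (K := K),
    sup_comm K Z, Subgroup.relIndex_mul_index le_sup_right]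

end CfsgLib.Star
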