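import Cfsg.Agent.Star.Star
import Cfsg.Agent.Star.Dual
import Cfsg.Agent.BlockPairs.FusionBridge
import Cfsg.Agent.Fusion.Hyperfocal
import Cfsg.Agent.BlocksCharsC.SubsectionMajor
import Cfsg.Agent.TwoClasses.Tools

/-!
# The linear characters of the maximal pair acting on the block

The linear characters of `P` trivial on the focal subgroup act on the members of the block of a
given height by the star construction.  The stabilizers are trivial for height zero and always
trivial on the centre of `P`.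
-/

set_option autoImplicit false
set_option linter.unusedSectionVars false
set_option linter.style.haveILetI false

namespace CfsgLib.Star

open Cfsg CfsgLib.BlockPairs
open CfsgLib.Blocks (Res)
open CfsgLib.BlockPairing (regInner)
open scoped ComplexConjugate

universe u

variable {G : Type u} [Group G] {P : Subgroup G}

open Classical in
/-- A linear character of a subgroup extended by zero. -/
noncomputable def lext (l : P →* ℂˣ) (g : G) : ℂ := if h : g ∈ P then (l ⟨g, h⟩ : ℂ) else 0

theorem lext_coe (l : P →* ℂˣ) (w : P) : lext l (w : G) = (l w : ℂ) := by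
  rw [lext, dif_pos w.2]

theorem lext_mul (l l' : P →* ℂˣ) : lext (l * l') = lext l * lext l' := by
  funext g
  rw [Pi.mul_apply]
  unfold lext
  split_ifs <;> simp

theorem lext_one (l : P →* ℂˣ) : lext l 1 = 1 := by
  rw [show lext l 1 = lext l ((1 : P) : G) from rfl, lext_coe, map_one, Units.val_one]

theorem lext_norm [Finite G] (l : P →* ℂˣ) {w : G} (hw : w ∈ P) :
    lext l w * conj (lext l w) = 1 := by
  rw [show lext l w = (l ⟨w, hw⟩ : ℂ) from dif_pos hw, Complex.mul_conj',
    Complex.norm_eq_one_of_pow_eq_one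
      (by rw [← Units.val_pow_eq_pow_val, ← map_pow, pow_orderOf_eq_one, map_one, Units.val_one])
      (orderOf_pos (⟨w, hw⟩ : P)).ne']
  simp

theorem isGen_lext [Fintype G] (l : P →* ℂˣ) :
    Cfsg.IsGeneralizedCharacter P fun w : P => lext l (w : G) := by
  simp only [lext_coe]
  exact Characters.isGen_of_isCharacter (Characters.isCharacter_of_isIrr (TwoClasses.isIrr_linear l))

theorem commutator_le_focal_subgroupOf (F : Cfsg.FusionSystem P) :
    commutator P ≤ F.focalSubgroup.subgroupOf P := by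
  rw [commutator_def, Subgroup.commutator_le]
  intro a _ c _
  exact Subgroup.mem_subgroupOf.2
    (Fusion.commutator_le_focal (F := F) (Subgroup.commutator_mem_commutator a.2 c.2))

section Model

variable [Fintype G] {M : Ideal AlgInt} [M.IsPrime] {p : ℕ} [hp : Fact p.Prime]
  [CharP (Res M) p] [IsAlgClosed (Res M)] {eP : GA (Res M) G}

theorem isInvariant_lext (hPe : IsPair p ⊤ P eP) {l : P →* ℂˣ}
    (hl : (blockSystem hPe).focalSubgroup.subgroupOf P ≤ l.ker) :
    IsInvariant p P eP (lext l) := by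
  intro w g hm
  have h1 : w ∈ P := hm.source_le (Subgroup.mem_zpowers w)
  have h2 : g * w * g⁻¹ ∈ P :=
    hm.target_le (mem_cj.2 (by simp [mul_assoc]))
  have hf : ((⟨w, h1⟩ : P)⁻¹ * ⟨g * w * g⁻¹, h2⟩ : P) ∈ l.ker := by
    refine hl (Subgroup.mem_subgroupOf.2 (Subgroup.subset_closure ?_))
    exact ⟨Subgroup.zpowers w, Cfsg.conjHom (Subgroup.zpowers w) g, ⟨w, Subgroup.mem_zpowers w⟩,
      mem_blockSystem.2 ⟨g, hm, fun u => rfl⟩, rfl⟩
  rw [MonoidHom.mem_ker, map_mul, map_inv, inv_mul_eq_one] at hf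
  rw [show lext l w = (l ⟨w, h1⟩ : ℂ) from dif_pos h1,
    show lext l (g * w * g⁻¹) = (l ⟨_, h2⟩ : ℂ) from dif_pos h2, hf]

variable (hM : Cfsg.IsPModular p M) {B : Set (IrrCharacter G)} (hB : Cfsg.IsPBlock M B)
  (hmax : IsMaxPair p (⊤ : Subgroup G) (gblk M B) P eP)

include hM hB hmax

/-- The subsection below the maximal pair at an element of `P` induces the block. -/
theorem exists_sub {u : G} (hu : u ∈ P)
    [Fintype ↥(Subgroup.centralizer ({u} : Set G))] :
    (∃ k, orderOf u = p ^ k) ∧
      ∃ f : Set (IrrCharacter ↥(Subgroup.centralizer ({u} : Set G))), Cfsg.IsPBlock M f ∧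
        Cfsg.IsInducedBlock M (Subgroup.centralizer ({u} : Set G)) f B ∧
        Le p ⊤ (Subgroup.zpowers u) (sblk M (Subgroup.centralizer ({u} : Set G)) f) P eP := by
  classical
  haveI := CfsgLib.Blocks.charP_res hM
  haveI := isAlgClosed_res hM
  have hk : ∃ k, orderOf u = p ^ k := by
    obtain ⟨k, hk⟩ := hmax.1.1.2.1 ⟨u, hu⟩
    obtain ⟨i, -, hi⟩ := (Nat.dvd_prime_pow hp.out).1
      (orderOf_dvd_of_pow_eq_one (x := u) (n := p ^ k) (congrArg Subtype.val hk))
    exact ⟨i, hi⟩
  obtain ⟨e, he, hle⟩ := exists_below hmax.1.1 (Subgroup.zpowers_le.2 hu)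
  have heC := he.2.2
  rw [cent_zpowers] at heC
  obtain ⟨f, hf, rfl⟩ := exists_eq_sblk (M := M) heC
  refine ⟨hk, f, hf, ?_, hle⟩
  obtain ⟨ξ, hξ⟩ := CfsgLib.Blocks.isPBlock_nonempty hf
  rw [CfsgLib.Blocks.eq_blockOf_of_mem hf hξ]
  refine CfsgLib.Blocks.isInducedBlock_of_mem_overSet hM hk hB ?_
  have hBu := CfsgLib.Blocks.isBlockUnion_of_isPBlock hB
  have hinj := (Subgroup.centralizer ({u} : Set G)).subtype_injective
  have hbr : emb (Subgroup.centralizer ({u} : Set G)).subtype
      ((CfsgLib.Blocks.resCtr (Subgroup.centralizer ({u} : Set G)) (CfsgLib.Blocks.idemBar M B hBu) :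
        CfsgLib.Blocks.Ctr (Res M) ↥(Subgroup.centralizer ({u} : Set G))) :
          GA (Res M) ↥(Subgroup.centralizer ({u} : Set G))) =
      br (Subgroup.zpowers u) (gblk M B) := by
    have hC : Subgroup.centralizer ((Subgroup.zpowers u : Subgroup G) : Set G) =
        Subgroup.centralizer ({u} : Set G) := by rw [← cent_top, cent_zpowers]
    refine ga_ext fun g => ?_
    by_cases hg : g ∈ Subgroup.centralizer ({u} : Set G)
    · rw [br_coeff_mem _ _ (by rwa [hC]), gblk_coeff]
      have := emb_coeff_apply (k := Res M) hinj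
        ((CfsgLib.Blocks.resCtr (Subgroup.centralizer ({u} : Set G))
          (CfsgLib.Blocks.idemBar M B hBu) :
            CfsgLib.Blocks.Ctr (Res M) ↥(Subgroup.centralizer ({u} : Set G))) :
              GA (Res M) ↥(Subgroup.centralizer ({u} : Set G))) ⟨g, hg⟩
      simp only [Subgroup.coe_subtype] at this
      rw [this, CfsgLib.Blocks.coeff_resCtr, CfsgLib.Blocks.coeff_idemBar]
      exact (redC_of_mem _).symm
    · rw [br_coeff_not_mem _ _ (by rwa [hC]), emb_coeff_not_mem _ _
        (by rwa [(Subgroup.centralizer ({u} : Set G)).range_subtype])]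
  show CfsgLib.Blocks.omegaBar M ξ _ ≠ 0
  rw [← omega_blkE (φ := (Subgroup.centralizer ({u} : Set G)).subtype) hinj hf hξ, hbr]
  have hone : br (Subgroup.zpowers u) (gblk M B) * sblk M (Subgroup.centralizer ({u} : Set G)) f =
      sblk M (Subgroup.centralizer ({u} : Set G)) f :=
    (mem_blockHas_of_le (isBlock_gblk hB) hmax hle).2.2
  have hmem := br_mem_cent_block (P := Subgroup.zpowers u) (isBlock_gblk hB).mem
  rw [cent_zpowers] at hmem
  rw [omega_unique (c := (1 : Res M)) (isBlock_blkE hinj hf)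
    (by rwa [(Subgroup.centralizer ({u} : Set G)).range_subtype]) ⟨1, ?_⟩]
  · exact one_ne_zero
  · rw [show blkE M (Subgroup.centralizer ({u} : Set G)).subtype f =
      sblk M (Subgroup.centralizer ({u} : Set G)) f from rfl, pow_one, one_smul,
      hone, sub_self]

theorem regInner_secVal {u : G} [Fintype ↥(Subgroup.centralizer ({u} : Set G))]
    {f : Set (IrrCharacter ↥(Subgroup.centralizer ({u} : Set G)))} (hf : Cfsg.IsPBlock M f)
    {χ : G → ℂ} (hχ : Cfsg.IsClassFunction G χ)
    {ξ : IrrCharacter ↥(Subgroup.centralizer ({u} : Set G))} (hξ : ξ ∈ f) :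
    regInner p (BlocksCharsC.secVal u f χ) (ξ : ↥(Subgroup.centralizer ({u} : Set G)) → ℂ) =
      regInner p (fun c : ↥(Subgroup.centralizer ({u} : Set G)) => χ (u * (c : G)))
        (ξ : ↥(Subgroup.centralizer ({u} : Set G)) → ℂ) := by
  classical
  rw [← regInner_blockPart hM hf (CfsgLib.Blocks.isClassFunction_translate χ hχ u) hξ]
  congr 1
  funext y
  rw [BlocksCharsC.secVal, Cfsg.blockPart, CfsgLib.Blocks.finsum_irr_mem,
    show Fintype.ofFinite ↥(Subgroup.centralizer ({u} : Set G)) = ‹_› from Subsingleton.elim _ _,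
    ← Finset.sum_filter]
  refine Finset.sum_congr (by ext; simp) fun ξ _ => rfl

/-- A character of height zero fixed by the star forces the value one. -/
theorem eq_one_of_height_zero {l : P →* ℂˣ} (hζ : IsInvariant p P eP (lext l))
    {χ : IrrCharacter G} (hχ : χ ∈ B) (h0 : Cfsg.blockHeight p B (χ : G → ℂ) = 0)
    (hfix : star p P eP (lext l) (χ : G → ℂ) = (χ : G → ℂ)) (w : P) : l w = 1 := by
  classical
  by_contra hne
  obtain ⟨hk, f, hf, hind, hle⟩ := exists_sub hM hB hmax w.2
  refine BlocksCharsC.subContrib_unit hM hk hB hind hχ hχ h0 h0 ?_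
  rw [BlocksCharsC.subContrib, BlocksCharsC.secInner]
  unfold BlocksCharsC.secVal
  rw [BlocksCharsC.regInner_sum_right, Finset.sum_eq_zero fun ξ hξ => ?_, mul_zero]
  · exact CfsgLib.Blocks.memLocalIdeal_zero
  · refine mul_eq_zero_of_right _ ?_
    have h1 := regInner_star (ζ := lext l) hM hk hf (Characters.isClassFunction_of_isIrr χ.2)
      (Set.mem_toFinset.1 hξ) (P := P) (eP := eP)
    rw [hfix, zt_eq hζ (x := 1) (by rwa [conjA_one_left, cj_one]), one_mul, inv_one, mul_one,
      lext_coe] at h1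
    refine Eq.trans (regInner_secVal hM hB hmax hf
      (Characters.isClassFunction_of_isIrr χ.2) (Set.mem_toFinset.1 hξ)) ?_
    have h2 : ((l w : ℂ) - 1) * regInner p
        (fun c : ↥(Subgroup.centralizer ({(w : G)} : Set G)) => (χ : G → ℂ) ((w : G) * (c : G)))
        (ξ : ↥(Subgroup.centralizer ({(w : G)} : Set G)) → ℂ) = 0 := by
      rw [sub_mul, one_mul, sub_eq_zero]; exact h1.symm
    exact (mul_eq_zero.1 h2).resolve_left (sub_ne_zero.2 fun h => hne (Units.ext h))

/-- The subsection at a central element of `P` is major. -/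
theorem blockDefect_sub {u : G} (hc : P ≤ Subgroup.centralizer ({u} : Set G))
    [Fintype ↥(Subgroup.centralizer ({u} : Set G))]
    {f : Set (IrrCharacter ↥(Subgroup.centralizer ({u} : Set G)))} (hf : Cfsg.IsPBlock M f)
    (hle : Le p ⊤ (Subgroup.zpowers u) (sblk M (Subgroup.centralizer ({u} : Set G)) f) P eP) :
    Cfsg.blockDefect p f = Cfsg.blockDefect p B := by
  haveI := CfsgLib.Blocks.charP_res hM
  haveI := isAlgClosed_res hM
  have hb : IsBlock (⊤ : Subgroup G) (gblk M B) := isBlock_gblk hB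
  have hC : Subgroup.centralizer ((Subgroup.zpowers u : Subgroup G) : Set G) =
      Subgroup.centralizer ({u} : Set G) := by rw [← cent_top, cent_zpowers]
  have hQf := le_pair hmax.1.1 hle
  obtain ⟨D, hD, hPD⟩ := centralizer_part_le_defect hmax hle hQf
  have hPD' : P ≤ D := (le_inf le_rfl (hc.trans hC.ge)).trans hPD
  obtain ⟨x, -, hx⟩ := exists_conj_into hb hmax hle hQf
    (hD.1.trans (by rw [← cent_top]; exact hQf.cent_le_stab)) hD.2.1 hD.2.2.1
  rw [hC] at hD
  have hdB : Cfsg.IsDefectGroup p M B P := by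
    rw [isDefectGroup_gblk_iff hB]
    exact (IsMaxPair.isDefectGrp hb hmax).1
  have hdf : Cfsg.IsDefectGroup p M f (D.subgroupOf (Subgroup.centralizer ({u} : Set G))) :=
    (isDefectGroup_subgroupOf_iff hf hD.1).2 hD
  rw [CfsgLib.Blocks.blockDefect_eq hM hf hdf, CfsgLib.Blocks.blockDefect_eq hM hB hdB,
    Nat.card_congr (Subgroup.subgroupOfEquivOfLe hD.1).toEquiv]
  refine congrArg (fun n : ℕ => n.factorization p) (le_antisymm ?_ (Subgroup.card_le_of_le hPD'))
  exact (card_cj x D).symm.le.trans (Subgroup.card_le_of_le hx)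

/-- Any character fixed by the star forces the value one on the centre of `P`. -/
theorem eq_one_of_central {l : P →* ℂˣ} (hζ : IsInvariant p P eP (lext l))
    {χ : IrrCharacter G} (hχ : χ ∈ B)
    (hfix : star p P eP (lext l) (χ : G → ℂ) = (χ : G → ℂ)) (w : P)
    (hw : (w : G) ∈ Subgroup.centralizer (P : Set G)) : l w = 1 := by
  classical
  by_contra hne
  have hc : P ≤ Subgroup.centralizer ({(w : G)} : Set G) := fun y hy =>
    Subgroup.mem_centralizer_singleton_iff.2 (Subgroup.mem_centralizer_iff.1 hw y hy)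
  obtain ⟨hk, f, hf, hind, hle⟩ := exists_sub hM hB hmax w.2
  obtain ⟨k, hk'⟩ := id hk
  obtain ⟨ψ, hψ, hmin, -⟩ := BlockPairing.exists_minimal (p := p) hB
  have hψ0 : Cfsg.blockHeight p B (ψ : G → ℂ) = 0 := by
    rw [Cfsg.blockHeight, Nat.sub_eq_zero_iff_le]
    refine le_csInf (Set.image_nonempty.2 ⟨ψ, hψ⟩) ?_
    rintro _ ⟨η, hη, rfl⟩
    exact hmin η hη
  refine BlocksCharsC.subContrib_ne_zero hM hB hind (blockDefect_sub hM hB hmax hc hf hle) hk'
    hχ hψ hψ0 ?_
  rw [BlocksCharsC.subContrib, BlocksCharsC.secInner]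
  rw [show BlocksCharsC.secVal (w : G) f (ψ : G → ℂ) = fun y => ∑ ξ ∈ f.toFinset,
    BlocksCharsC.secCoef (w : G) (ψ : G → ℂ) ξ *
      (ξ : ↥(Subgroup.centralizer ({(w : G)} : Set G)) → ℂ) y from rfl,
    BlocksCharsC.regInner_sum_right, Finset.sum_eq_zero fun ξ hξ => ?_, mul_zero]
  refine mul_eq_zero_of_right _ ?_
  have h1 := regInner_star (ζ := lext l) hM hk hf (Characters.isClassFunction_of_isIrr χ.2)
    (Set.mem_toFinset.1 hξ) (P := P) (eP := eP)
  rw [hfix, zt_eq hζ (x := 1) (by rwa [conjA_one_left, cj_one]), one_mul, inv_one, mul_one,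
    lext_coe] at h1
  refine Eq.trans (regInner_secVal hM hB hmax hf
    (Characters.isClassFunction_of_isIrr χ.2) (Set.mem_toFinset.1 hξ)) ?_
  have h2 : ((l w : ℂ) - 1) * regInner p
      (fun c : ↥(Subgroup.centralizer ({(w : G)} : Set G)) => (χ : G → ℂ) ((w : G) * (c : G)))
      (ξ : ↥(Subgroup.centralizer ({(w : G)} : Set G)) → ℂ) = 0 := by
    rw [sub_mul, one_mul, sub_eq_zero]; exact h1.symm
  exact (mul_eq_zero.1 h2).resolve_left (sub_ne_zero.2 fun h => hne (Units.ext h))

section Action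

variable {K : Subgroup P} (hK : (blockSystem hmax.1.1).focalSubgroup.subgroupOf P ≤ K)

include hK

/-- The star of a member by a character trivial on `K` is a member of the same height. -/
theorem exists_star_irr (h : ℕ) (l : annih K)
    (χ : {χ : IrrCharacter G // χ ∈ B ∧ Cfsg.blockHeight p B (χ : G → ℂ) = h}) :
    ∃ ψ : {ψ : IrrCharacter G // ψ ∈ B ∧ Cfsg.blockHeight p B (ψ : G → ℂ) = h},
      ((ψ : IrrCharacter G) : G → ℂ) =
        star p P eP (lext (l : P →* ℂˣ)) ((χ : IrrCharacter G) : G → ℂ) := by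
  have hζ := isInvariant_lext hmax.1.1 (hK.trans l.2)
  obtain ⟨hirr, hmem⟩ := star_mem hM hB hmax hζ (isGen_lext (l : P →* ℂˣ))
    (fun w hw => lext_norm (l : P →* ℂˣ) hw) (lext_one _) χ.2.1
  refine ⟨⟨⟨_, hirr⟩, hmem, ?_⟩, rfl⟩
  have h1 : star p P eP (lext (l : P →* ℂˣ)) ((χ : IrrCharacter G) : G → ℂ) 1 =
      ((χ : IrrCharacter G) : G → ℂ) 1 := by
    rw [star_regular hM hB hmax hζ χ.2.1 (by rw [orderOf_one]; exact hp.out.not_dvd_one),
      lext_one, one_mul]
  refine Eq.trans ?_ χ.2.2
  show Cfsg.blockHeight p B (star p P eP (lext (l : P →* ℂˣ)) ((χ : IrrCharacter G) : G → ℂ)) = _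
  simp only [Cfsg.blockHeight, Cfsg.charDegree, h1]

/-- The action. -/
noncomputable abbrev starAction (h : ℕ) :
    MulAction (annih K) {χ : IrrCharacter G // χ ∈ B ∧ Cfsg.blockHeight p B (χ : G → ℂ) = h} where
  smul l χ := (exists_star_irr hM hB hmax hK h l χ).choose
  one_smul χ := by
    refine Subtype.ext (Subtype.ext ?_)
    refine (exists_star_irr hM hB hmax hK h 1 χ).choose_spec.trans ?_
    refine star_of_eq_one hM hB hmax (fun w hw => ?_)
      (isInvariant_lext hmax.1.1 (hK.trans (1 : annih K).2)) χ.2.1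
    rw [show lext ((1 : annih K) : P →* ℂˣ) w = (((1 : annih K) : P →* ℂˣ) ⟨w, hw⟩ : ℂ) from
      dif_pos hw]
    simp
  mul_smul l l' χ := by
    refine Subtype.ext (Subtype.ext ?_)
    refine (exists_star_irr hM hB hmax hK h (l * l') χ).choose_spec.trans ?_
    refine Eq.trans ?_ (exists_star_irr hM hB hmax hK h l _).choose_spec.symm
    show _ = star p P eP (lext (l : P →* ℂˣ))
      (((exists_star_irr hM hB hmax hK h l' χ).choose : IrrCharacter G) : G → ℂ)
    rw [(exists_star_irr hM hB hmax hK h l' χ).choose_spec, Subgroup.coe_mul, lext_mul,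
      star_star hM (isInvariant_lext hmax.1.1 (hK.trans l'.2))
        (Characters.isClassFunction_of_isIrr χ.1.2)]

/-- The index of `K` divides the number of members of height zero. -/
theorem index_dvd_card_height_zero :
    K.index ∣ Nat.card {χ : IrrCharacter G // χ ∈ B ∧ Cfsg.blockHeight p B (χ : G → ℂ) = 0} := by
  letI := starAction hM hB hmax hK 0
  rw [← K.relIndex_top_right]
  refine relIndex_dvd_card ((commutator_le_focal_subgroupOf _).trans hK) ⊤ fun χ l hl w _ => ?_
  refine eq_one_of_height_zero hM hB hmax (isInvariant_lext hmax.1.1 (hK.trans l.2)) χ.2.1 χ.2.2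
    ?_ w
  exact (exists_star_irr hM hB hmax hK 0 l χ).choose_spec.symm.trans
    (congrArg (fun ψ => ((ψ : IrrCharacter G) : G → ℂ)) (congrArg Subtype.val hl))

/-- The index of `K` in its product with the centre divides the number of members of each
height. -/
theorem relIndex_center_dvd_card (h : ℕ) :
    K.relIndex ((P ⊓ Subgroup.centralizer (P : Set G)).subgroupOf P) ∣
      Nat.card {χ : IrrCharacter G // χ ∈ B ∧ Cfsg.blockHeight p B (χ : G → ℂ) = h} := by
  letI := starAction hM hB hmax hK h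
  refine relIndex_dvd_card ((commutator_le_focal_subgroupOf _).trans hK) _ fun χ l hl w hw => ?_
  refine eq_one_of_central hM hB hmax (isInvariant_lext hmax.1.1 (hK.trans l.2)) χ.2.1 ?_ w
    (Subgroup.mem_subgroupOf.1 hw).2
  exact (exists_star_irr hM hB hmax hK h l χ).choose_spec.symm.trans
    (congrArg (fun ψ => ((ψ : IrrCharacter G) : G → ℂ)) (congrArg Subtype.val hl))

end Action

end Model

end CfsgLib.Star
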