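import Cfsg.Agent.Star.Major
import Cfsg.Agent.Star.Galois
import Cfsg.Agent.BlockPairing.MajorBound

/-!
# Heights and the inertial index

A character of height `h` and one of height zero have contributions divisible exactly by `p ^ h` at
every central element of the defect group; the Galois norms and the Cauchy–Schwarz inequality turn
this into `p ^ h * |Z| ≤ e * |P|`.
-/

set_option autoImplicit false
set_option linter.unusedSectionVars false
set_option linter.style.haveILetI false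

namespace CfsgLib.Star

open Cfsg CfsgLib.BlockPairs Polynomial
open CfsgLib.Blocks (Res localRing)
open CfsgLib.GaloisAverage (totatives mem_totatives card_totatives)
open scoped ComplexConjugate

universe u

/-- A rational integer in `p ^ N` times the local ring is divisible by `p ^ N`. -/
theorem pow_dvd_of_eq_mul {M : Ideal AlgInt} [M.IsPrime] {p : ℕ} [hp : Fact p.Prime]
    (hM : Cfsg.IsPModular p M) : ∀ (N : ℕ) (z : ℤ) (s : ℂ), Cfsg.MemLocalRing M s →
      (z : ℂ) = (p : ℂ) ^ N * s → (p : ℤ) ^ N ∣ z := by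
  intro N
  induction N with
  | zero => intro z _ _ _; exact ⟨z, by simp⟩
  | succ N ih =>
    intro z s hs hz
    have hpow : Cfsg.MemLocalRing M ((p : ℂ) ^ N * s) :=
      (localRing M).mul_mem (Subring.pow_mem _ (CfsgLib.Blocks.memLocalRing_natCast p) _) hs
    have hI : Cfsg.MemLocalIdeal M (z : ℂ) := by
      rw [hz, pow_succ', mul_assoc]
      exact CfsgLib.Blocks.memLocalIdeal_mul_right
        ((CfsgLib.Blocks.memLocalIdeal_natCast_iff hM p).2 dvd_rfl) hpow
    obtain ⟨z', rfl⟩ := (MajorSubsection.memLocalIdeal_intCast_iff hM z).1 hI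
    obtain ⟨t, ht⟩ := ih z' s hs (by
      have hp0 : (p : ℂ) ≠ 0 := Nat.cast_ne_zero.2 hp.out.ne_zero
      apply mul_left_cancel₀ hp0
      rw [← mul_assoc, ← pow_succ', ← hz]
      push_cast
      ring)
    exact ⟨t, by rw [ht, pow_succ']; ring⟩

variable {G : Type u} [Group G] [Fintype G] {M : Ideal AlgInt} [M.IsPrime] {p : ℕ}
  [hp : Fact p.Prime] {P : Subgroup G} {eP : GA (Res M) G} [CharP (Res M) p]
  [IsAlgClosed (Res M)] (hM : Cfsg.IsPModular p M) {B : Set (IrrCharacter G)}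
  (hB : Cfsg.IsPBlock M B) (hmax : IsMaxPair p (⊤ : Subgroup G) (gblk M B) P eP)

open Classical in
/-- The Cauchy–Schwarz inequality for contributions. -/
theorem norm_cval_sq_le (χ ψ : G → ℂ) (w : G) :
    ‖cval p P eP χ ψ w‖ ^ 2 ≤ ‖aval p P eP χ w‖ * ‖aval p P eP ψ w‖ := by
  set F := Finset.univ.filter fun s => s ∈ cent ⊤ (Subgroup.zpowers w) ∧ ¬ p ∣ orderOf s
  set b := below p P eP (Subgroup.zpowers w)
  have hself : ∀ θ : G → ℂ, ‖aval p P eP θ w‖ =
      ‖wt P w‖ * ∑ s ∈ F, ‖T M θ (w * s) b‖ ^ 2 := fun θ => by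
    rw [aval, cval, norm_mul, nsum]
    congr 1
    rw [Finset.sum_congr rfl fun s _ => (Complex.mul_conj' _), ← Finset.sum_congr rfl
      (fun s _ => Complex.ofReal_pow ‖T M θ (w * s) b‖ 2), ← Complex.ofReal_sum, Complex.norm_real,
      Real.norm_of_nonneg (Finset.sum_nonneg fun s _ => sq_nonneg _)]
  rw [hself, hself, cval, norm_mul, mul_pow, mul_mul_mul_comm, ← sq, nsum]
  refine mul_le_mul_of_nonneg_left ?_ (sq_nonneg _)
  refine le_trans (pow_le_pow_left₀ (norm_nonneg _) (norm_sum_le _ _) 2) ?_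
  simp only [norm_mul, RCLike.norm_conj]
  exact Finset.sum_mul_sq_le_sq_mul_sq _ _ _

include hM hB hmax

theorem card_inf_cent_central {w : G} (hwc : w ∈ Subgroup.centralizer (P : Set G))
    [Fintype ↥(Subgroup.centralizer ({w} : Set G))]
    {f : Set (IrrCharacter ↥(Subgroup.centralizer ({w} : Set G)))} (hf : Cfsg.IsPBlock M f)
    (hle : Le p ⊤ (Subgroup.zpowers w) (sblk M (Subgroup.centralizer ({w} : Set G)) f) P eP) :
    Nat.card ↥(P ⊓ cent ⊤ (Subgroup.zpowers w)) = p ^ Cfsg.blockDefect p f := by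
  have hd : Cfsg.IsDefectGroup p M B P := by
    rw [isDefectGroup_gblk_iff hB]
    exact (IsMaxPair.isDefectGrp (isBlock_gblk hB) hmax).1
  rw [inf_eq_left.2 (le_cent_of_central hwc), blockDefect_sub hM hB hmax
    (fun y hy => Subgroup.mem_centralizer_singleton_iff.2
      (Subgroup.mem_centralizer_iff.1 hwc y hy)) hf hle,
    CfsgLib.Blocks.card_defectGroup hM hB hd]

variable {χ φ : IrrCharacter G} (hχ : χ ∈ B) (hφ : φ ∈ B)
  (hφ0 : Cfsg.blockHeight p B (φ : G → ℂ) = 0)

include hχ hφ hφ0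

/-- The Galois norm of the contribution at a central element. -/
theorem pow_le_prod_cval {w : G} (hw : w ∈ P) (hwc : w ∈ Subgroup.centralizer (P : Set G)) :
    (p : ℝ) ^ (Cfsg.blockHeight p B (χ : G → ℂ) * (Nat.card P).totient) ≤
      ∏ k ∈ totatives (Nat.card P), ‖cval p P eP (χ : G → ℂ) (φ : G → ℂ) (w ^ k)‖ := by
  classical
  set N := Nat.card P with hN
  set h := Cfsg.blockHeight p B (χ : G → ℂ) with hh
  obtain ⟨U, hU, hle, hUe⟩ := MajorSubsection.exists_cofactor (p := p) hχ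
  have hd : Cfsg.IsDefectGroup p M B P := by
    rw [isDefectGroup_gblk_iff hB]
    exact (IsMaxPair.isDefectGrp (isBlock_gblk hB) hmax).1
  -- each value is a unit multiple of `p ^ h` in the local ring, and nonzero
  have hval : ∀ k : ℕ, cval p P eP (χ : G → ℂ) (φ : G → ℂ) (w ^ k) ≠ 0 ∧
      ∃ s : ℂ, Cfsg.MemLocalRing M s ∧
        (U : ℂ) * cval p P eP (χ : G → ℂ) (φ : G → ℂ) (w ^ k) = (p : ℂ) ^ h * s := by
    intro k
    have hvP : w ^ k ∈ P := pow_mem hw k
    have hvc : w ^ k ∈ Subgroup.centralizer (P : Set G) := pow_mem hwc k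
    haveI := Fintype.ofFinite ↥(Subgroup.centralizer ({w ^ k} : Set G))
    obtain ⟨hk, f, hf, hind, hfle⟩ := exists_sub hM hB hmax hvP
    obtain ⟨k', hk'⟩ := id hk
    have hdf := blockDefect_sub hM hB hmax (fun y hy => Subgroup.mem_centralizer_singleton_iff.2
      (Subgroup.mem_centralizer_iff.1 hvc y hy)) hf hfle
    rw [cval_eq_subContrib hM hB hmax hf hfle (card_inf_cent_central hM hB hmax hvc hf hfle)
      (Characters.isClassFunction_of_isIrr χ.2) (Characters.isClassFunction_of_isIrr φ.2)]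
    refine ⟨BlocksCharsC.subContrib_ne_zero hM hB hind hdf hk' hχ hφ hφ0,
      BlocksCharsC.secSum p (w ^ k) f (χ : G → ℂ) φ,
      BlocksCharsC.memLocalRing_secSum hM hk' χ φ, ?_⟩
    rw [BlocksCharsC.subContrib_eq hM hind hdf hk' χ φ, ← mul_assoc]
    congr 1
    have hU0 : (U : ℂ) ≠ 0 := Nat.cast_ne_zero.2 fun h0 => hU (h0 ▸ dvd_zero p)
    have hp0 : (p : ℂ) ≠ 0 := Nat.cast_ne_zero.2 hp.out.ne_zero
    have hG : (Nat.card G : ℂ) ≠ 0 := Nat.cast_ne_zero.2 Nat.card_pos.ne'
    have hχ1 := Characters.irr_one_ne_zero χ.2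
    have hsplit : (p : ℂ) ^ Cfsg.blockDefect p B =
        (p : ℂ) ^ (Cfsg.blockDefect p B - h) * (p : ℂ) ^ h := by
      rw [← pow_add, Nat.sub_add_cancel hle]
    rw [div_eq_iff hχ1] at hUe
    rw [BlocksCharsC.defScale, hUe, Nat.cast_pow, hsplit, ← hh]
    field_simp
  choose hne s hs hse using hval
  have hζ₀ := Complex.isPrimitiveRoot_exp N Nat.card_pos.ne'
  obtain ⟨Q, hQ⟩ := exists_poly hM hB hmax hw
    (fun f hf hfle => card_inf_cent_central hM hB hmax hwc hf hfle) χ φ hζ₀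
  have h1 := hQ 1 (Nat.coprime_one_left _)
  rw [pow_one (Complex.exp _)] at h1
  obtain ⟨z, hz0, hz⟩ := exists_int_prod_totatives Nat.card_pos hζ₀ Q (h1 ▸ hne 1)
  have hprod : ∏ k ∈ totatives N, cval p P eP (χ : G → ℂ) (φ : G → ℂ) (w ^ k) = (z : ℂ) := by
    rw [← hz]
    exact Finset.prod_congr rfl fun k hk => hQ k (mem_totatives.1 hk).2
  have hdvd : (p : ℤ) ^ (h * N.totient) ∣ (U : ℤ) ^ N.totient * z := by
    refine pow_dvd_of_eq_mul hM _ _ (∏ k ∈ totatives N, s k)
      ((localRing M).prod_mem fun k _ => hs k) ?_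
    push_cast
    rw [← hprod, ← card_totatives, pow_mul, ← Finset.prod_const, ← Finset.prod_const,
      ← Finset.prod_mul_distrib, ← Finset.prod_mul_distrib]
    exact Finset.prod_congr rfl fun k _ => hse k
  have hcop : IsCoprime ((p : ℤ) ^ (h * N.totient)) ((U : ℤ) ^ N.totient) := by
    refine IsCoprime.pow ?_
    exact Int.isCoprime_iff_gcd_eq_one.2 (by
      simpa [Int.gcd] using (hp.out.coprime_iff_not_dvd.2 hU).gcd_eq_one)
  have hle' := Int.le_of_dvd (abs_pos.2 hz0) ((dvd_abs _ _).2 (hcop.dvd_of_dvd_mul_left hdvd))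
  rw [← norm_prod, hprod, Complex.norm_intCast]
  exact_mod_cast hle'

open Classical in
/-- The bound on the height by the inertial index. -/
theorem pow_height_mul_le (Z : Subgroup G) (hZP : Z ≤ P)
    (hZc : Z ≤ Subgroup.centralizer (P : Set G)) :
    p ^ Cfsg.blockHeight p B (χ : G → ℂ) * Nat.card Z ≤
      (P ⊔ Subgroup.centralizer (P : Set G)).relIndex (stab ⊤ P eP) * Nat.card P := by
  set h := Cfsg.blockHeight p B (χ : G → ℂ)
  set φ' := (Nat.card P).totient
  have hφ' : φ' ≠ 0 := (Nat.totient_pos.2 Nat.card_pos).ne'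
  have hp0 : (0 : ℝ) < (p : ℝ) ^ h := pow_pos (Nat.cast_pos.2 hp.out.pos) _
  let a : IrrCharacter G → Z → ℝ := fun θ v => ‖aval p P eP (θ : G → ℂ) (v : G)‖
  let c : Z → ℝ := fun v => ‖cval p P eP (χ : G → ℂ) (φ : G → ℂ) (v : G)‖
  have hperm : ∀ k ∈ totatives (Nat.card P), ∏ v : Z, c (v ^ k) = ∏ v : Z, c v := fun k hk => by
    have hcop : (Nat.card Z).Coprime k := Nat.Coprime.coprime_dvd_left
      (Subgroup.card_dvd_of_le hZP) (mem_totatives.1 hk).2.symm
    exact Fintype.prod_equiv (powCoprime hcop) _ _ fun v => rfl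
  have hC : ((p : ℝ) ^ (h * Fintype.card Z)) ≤ ∏ v : Z, c v := by
    refine le_of_pow_le_pow_left₀ hφ' (Finset.prod_nonneg fun v _ => norm_nonneg _) ?_
    have h2 : ∏ _v : Z, (p : ℝ) ^ (h * φ') ≤
        ∏ v : Z, ∏ k ∈ totatives (Nat.card P), c (v ^ k) := by
      refine Finset.prod_le_prod (fun v _ => by positivity) fun v _ => ?_
      refine (pow_le_prod_cval hM hB hmax hχ hφ hφ0 (hZP v.2) (hZc v.2)).trans_eq ?_
      exact Finset.prod_congr rfl fun k _ => by simp only [c, SubgroupClass.coe_pow]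
    rw [Finset.prod_comm, Finset.prod_congr rfl hperm, Finset.prod_const, Finset.prod_const,
      Finset.card_univ, card_totatives] at h2
    refine le_trans (le_of_eq ?_) h2
    rw [← pow_mul, ← pow_mul]
    ring
  have hcpos : ∀ v : Z, 0 < c v := fun v => by
    refine norm_pos_iff.2 fun h0 => ?_
    have h3 : ∏ v : Z, c v = 0 := Finset.prod_eq_zero (Finset.mem_univ v) (by simp [c, h0])
    exact absurd (hC.trans_eq h3) (not_le.2 (pow_pos (Nat.cast_pos.2 hp.out.pos) _))
  have hapos : ∀ v : Z, 0 < a χ v ∧ 0 < a φ v := fun v => by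
    have h3 := (sq_pos_of_pos (hcpos v)).trans_le (norm_cval_sq_le (p := p) (P := P) (eP := eP)
      (χ : G → ℂ) (φ : G → ℂ) (v : G))
    exact ⟨lt_of_le_of_ne (norm_nonneg _) fun e => (left_ne_zero_of_mul h3.ne') e.symm,
      lt_of_le_of_ne (norm_nonneg _) fun e => (right_ne_zero_of_mul h3.ne') e.symm⟩
  have hor : (p : ℝ) ^ (h * Fintype.card Z) ≤ ∏ v, a χ v ∨
      (p : ℝ) ^ (h * Fintype.card Z) ≤ ∏ v, a φ v := by
    by_contra hnot
    push Not at hnot
    have h4 := mul_lt_mul'' hnot.1 hnot.2 (Finset.prod_nonneg fun v _ => (hapos v).1.le)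
      (Finset.prod_nonneg fun v _ => (hapos v).2.le)
    refine absurd (h4.trans_le ?_) (lt_irrefl _)
    calc (p : ℝ) ^ (h * Fintype.card Z) * (p : ℝ) ^ (h * Fintype.card Z)
        ≤ (∏ v : Z, c v) * ∏ v : Z, c v :=
          mul_le_mul hC hC (by positivity) (Finset.prod_nonneg fun v _ => norm_nonneg _)
      _ = ∏ v : Z, c v ^ 2 := by rw [← Finset.prod_mul_distrib]; simp only [sq]
      _ ≤ ∏ v : Z, a χ v * a φ v :=
          Finset.prod_le_prod (fun v _ => sq_nonneg _) fun v _ => norm_cval_sq_le _ _ _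
      _ = _ := Finset.prod_mul_distrib
  have hmain : ∀ θ : IrrCharacter G, θ ∈ B → (∀ v : Z, 0 < a θ v) →
      (p : ℝ) ^ (h * Fintype.card Z) ≤ ∏ v, a θ v →
      p ^ h * Nat.card Z ≤
        (P ⊔ Subgroup.centralizer (P : Set G)).relIndex (stab ⊤ P eP) * Nat.card P := by
    intro θ hθ hpos hle
    have h1 : 1 ≤ ∏ v : Z, a θ v / (p : ℝ) ^ h := by
      rw [Finset.prod_div_distrib, Finset.prod_const, Finset.card_univ, ← pow_mul,
        le_div_iff₀ (pow_pos (Nat.cast_pos.2 hp.out.pos) _), one_mul]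
      exact hle
    have h2 := GaloisAverage.card_le_sum_of_one_le_prod Finset.univ (fun v => a θ v / (p : ℝ) ^ h)
      (fun v _ => div_pos (hpos v) hp0) h1
    rw [← Finset.sum_div, le_div_iff₀ hp0, Finset.card_univ, ← Nat.card_eq_fintype_card,
      mul_comm] at h2
    exact_mod_cast h2.trans (sum_aval_central_le hM hB hmax hθ Z hZP hZc)
  rcases hor with hor | hor
  · exact hmain χ hχ (fun v => (hapos v).1) hor
  · exact hmain φ hφ (fun v => (hapos v).2) hor

end CfsgLib.Star
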