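import Mathlib.RingTheory.IntegralClosure.IsIntegral.Basic
import Mathlib.RingTheory.Nilpotent.Basic
import Mathlib.FieldTheory.IsAlgClosed.Basic
import Mathlib.LinearAlgebra.Matrix.ToLin
import Mathlib.LinearAlgebra.FiniteDimensional.Basic
import Mathlib.Algebra.Polynomial.Div

/-!
# Primitive idempotents of a subalgebra of a finite-dimensional algebra

Corners of primitive idempotents are local with residue map `res`.  Decompositions into primitive
idempotents exist, the number of members equivalent to a given one does not depend on the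
decomposition (`count_eq`), and neither does the functional `lam`, the trace on an isotypic part.
-/

set_option autoImplicit false
set_option linter.unusedSectionVars false

namespace CfsgLib.Star

open Polynomial

variable {k R : Type*} [Field k] [Ring R] [Algebra k R]

/-- A power of an element of a finite-dimensional algebra is stable. -/
theorem exists_stable [FiniteDimensional k R] (c : R) :
    ∃ n : ℕ, 0 < n ∧ ∃ P : k[X], c ^ n = c ^ n * (c * aeval c P) := by
  obtain ⟨F, hF, hF0⟩ := IsIntegral.of_finite k c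
  rw [← aeval_def] at hF0
  obtain ⟨Q, hQ, hQn⟩ := exists_eq_pow_rootMultiplicity_mul_and_not_dvd F hF.ne_zero 0
  simp only [map_zero, sub_zero] at hQ hQn
  rw [X_dvd_iff] at hQn
  set m := F.rootMultiplicity 0
  refine ⟨m + 1, Nat.succ_pos m, C (-(Q.coeff 0)⁻¹) * Q.divX, ?_⟩
  have h1 : c ^ m * aeval c Q = 0 := by
    rw [← hF0, hQ, map_mul, map_pow, aeval_X]
  conv at h1 => lhs; rw [← X_mul_divX_add Q, map_add, map_mul, aeval_X, aeval_C]
  have h2 : c ^ m = c ^ m * (c * aeval c (C (-(Q.coeff 0)⁻¹) * Q.divX)) := by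
    rw [map_mul, aeval_C, ← Algebra.smul_def, mul_smul_comm, mul_smul_comm]
    rw [mul_add, ← Algebra.commutes, ← Algebra.smul_def, add_eq_zero_iff_eq_neg] at h1
    rw [h1, neg_smul, smul_neg, neg_neg, inv_smul_smul₀ hQn]
  have hc := congrArg (c * ·) h2
  simpa [← mul_assoc, ← pow_succ'] using hc

/-- `x` lies in `i A i'`. -/
def InCorner (A : Subalgebra k R) (i i' x : R) : Prop := x ∈ A ∧ i * x = x ∧ x * i' = x

/-- A primitive idempotent of `A`. -/
def Prim (A : Subalgebra k R) (j : R) : Prop :=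
  j ∈ A ∧ j * j = j ∧ j ≠ 0 ∧ ∀ f ∈ A, f * f = f → j * f = f → f * j = f → f = 0 ∨ f = j

variable {A : Subalgebra k R} {i i' i'' j x y : R}

theorem InCorner.mk' (hi : i * i = i) (hi' : i' * i' = i') (hiA : i ∈ A) (hiA' : i' ∈ A)
    (hx : x ∈ A) : InCorner A i i' (i * x * i') :=
  ⟨mul_mem (mul_mem hiA hx) hiA', by rw [← mul_assoc, ← mul_assoc, hi], by rw [mul_assoc, hi']⟩

theorem InCorner.mul (hx : InCorner A i i' x) (hy : InCorner A i' i'' y) :
    InCorner A i i'' (x * y) :=
  ⟨mul_mem hx.1 hy.1, by rw [← mul_assoc, hx.2.1], by rw [mul_assoc, hy.2.2]⟩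

theorem InCorner.add (hx : InCorner A i i' x) (hy : InCorner A i i' y) :
    InCorner A i i' (x + y) :=
  ⟨add_mem hx.1 hy.1, by rw [mul_add, hx.2.1, hy.2.1], by rw [add_mul, hx.2.2, hy.2.2]⟩

theorem InCorner.sub (hx : InCorner A i i' x) (hy : InCorner A i i' y) :
    InCorner A i i' (x - y) :=
  ⟨sub_mem hx.1 hy.1, by rw [mul_sub, hx.2.1, hy.2.1], by rw [sub_mul, hx.2.2, hy.2.2]⟩

theorem InCorner.smul (hx : InCorner A i i' x) (c : k) : InCorner A i i' (c • x) :=
  ⟨A.smul_mem hx.1 c, by rw [mul_smul_comm, hx.2.1], by rw [smul_mul_assoc, hx.2.2]⟩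

theorem InCorner.zero : InCorner A i i' 0 := ⟨zero_mem A, mul_zero _, zero_mul _⟩

theorem InCorner.sum {ι : Type*} (s : Finset ι) (f : ι → R)
    (h : ∀ a ∈ s, InCorner A i i' (f a)) : InCorner A i i' (∑ a ∈ s, f a) :=
  Finset.sum_induction f (InCorner A i i') (fun _ _ => InCorner.add) InCorner.zero h

theorem Prim.inCorner (hj : Prim A j) : InCorner A j j j := ⟨hj.1, hj.2.1, hj.2.1⟩

theorem Prim.not_nilpotent (hj : Prim A j) : ¬ IsNilpotent j := by
  rintro ⟨n, hn⟩
  rcases n with _ | n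
  · rw [pow_zero] at hn
    exact hj.2.2.1 (by rw [← mul_one j, hn, mul_zero])
  · exact hj.2.2.1 (by rwa [IsIdempotentElem.pow_succ_eq n hj.2.1] at hn)

theorem Prim.not_left_inv (hj : Prim A j) (hx : InCorner A j j x) (hn : IsNilpotent x) {v : R}
    (_hv : InCorner A j j v) : v * x ≠ j := by
  intro h
  have key : ∀ m, ∃ v', v' * x ^ (m + 1) = j := by
    intro m
    induction m with
    | zero => exact ⟨v, by rw [pow_one, h]⟩
    | succ m ih =>
      obtain ⟨v', hv'⟩ := ih
      refine ⟨v' * v, ?_⟩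
      rw [pow_succ' x (m + 1), mul_assoc, ← mul_assoc v, h, pow_succ' x m, ← mul_assoc j, hx.2.1,
        ← pow_succ', hv']
  obtain ⟨m, hm⟩ := hn
  obtain ⟨v', hv'⟩ := key m
  rw [pow_succ, hm, zero_mul, mul_zero] at hv'
  exact hj.2.2.1 hv'.symm

variable [FiniteDimensional k R]

theorem Prim.nilpotent_or_inv (hj : Prim A j) (hx : InCorner A j j x) :
    IsNilpotent x ∨ ∃ w, InCorner A j j w ∧ x * w = j ∧ w * x = j := by
  obtain ⟨n, hn, P, hP⟩ := exists_stable (k := k) x
  set d := aeval x P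
  have hdA : d ∈ A := (Algebra.adjoin_le (Set.singleton_subset_iff.2 hx.1))
    (aeval_mem_adjoin_singleton _ x)
  have hcd : Commute x d := by
    have := (Polynomial.commute_X P).map (aeval x)
    rwa [aeval_X] at this
  have hst : ∀ i, x ^ n = x ^ n * (x * d) ^ i := by
    intro i
    induction i with
    | zero => simp
    | succ i ih => rw [pow_succ', ← mul_assoc, ← hP, ← ih]
  set f := (x * d) ^ n with hf
  obtain ⟨m, rfl⟩ := Nat.exists_eq_succ_of_ne_zero hn.ne'
  have hfA : f ∈ A := pow_mem (mul_mem hx.1 hdA) _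
  have hff : f * f = f := by
    conv_lhs => arg 1; rw [hf, hcd.mul_pow, (hcd.pow_pow _ _).eq]
    rw [mul_assoc, ← hst, ← (hcd.pow_pow _ _).eq, ← hcd.mul_pow]
  have hjf : j * f = f := by
    rw [hf, hcd.mul_pow, ← mul_assoc, pow_succ', ← mul_assoc, hx.2.1]
  have hfj : f * j = f := by
    rw [hf, hcd.mul_pow, (hcd.pow_pow _ _).eq, mul_assoc, pow_succ x, mul_assoc (x ^ m), hx.2.2]
  rcases hj.2.2.2 f hfA hff hjf hfj with h | h
  · exact .inl ⟨m + 1, by rw [hst (m + 1), ← hf, h, mul_zero]⟩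
  · set d' := d * (x * d) ^ m
    have hd'A : d' ∈ A := mul_mem hdA (pow_mem (mul_mem hx.1 hdA) _)
    have hcd' : Commute x d' := hcd.mul_right (((Commute.refl x).mul_right hcd).pow_right _)
    have hxd' : x * d' = j := by rw [← h, hf, pow_succ', ← mul_assoc]
    refine .inr ⟨j * d' * j, InCorner.mk' hj.2.1 hj.2.1 hj.1 hj.1 hd'A, ?_, ?_⟩
    · rw [← mul_assoc, ← mul_assoc, hx.2.2, hxd', hj.2.1]
    · rw [mul_assoc, hx.2.1, mul_assoc, ← hcd'.eq, hxd', hj.2.1]

theorem Prim.mul_nilpotent (hj : Prim A j) (hx : InCorner A j j x) (hy : InCorner A j j y)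
    (hn : IsNilpotent y) : IsNilpotent (x * y) := by
  rcases hj.nilpotent_or_inv (hx.mul hy) with h | ⟨w, hw, -, hwxy⟩
  · exact h
  · exact absurd (by rw [mul_assoc, hwxy]) (hj.not_left_inv hy hn (hw.mul hx))

theorem Prim.nilpotent_mul (hj : Prim A j) (hx : InCorner A j j x) (hy : InCorner A j j y)
    (hn : IsNilpotent x) : IsNilpotent (x * y) := by
  obtain ⟨m, hm⟩ := hj.mul_nilpotent hy hx hn
  refine ⟨m + 1, ?_⟩
  have : ∀ m : ℕ, (x * y) ^ (m + 1) = x * (y * x) ^ m * y := by
    intro m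
    induction m with
    | zero => simp
    | succ m ih => rw [pow_succ' _ (m + 1), ih, pow_succ']; simp only [mul_assoc]
  rw [this, hm, mul_zero, zero_mul]

theorem Prim.nilpotent_add (hj : Prim A j) (hx : InCorner A j j x) (hy : InCorner A j j y)
    (hnx : IsNilpotent x) (hny : IsNilpotent y) : IsNilpotent (x + y) := by
  rcases hj.nilpotent_or_inv (hx.add hy) with h | ⟨w, hw, -, h⟩
  · exact h
  rw [mul_add] at h
  have hc : Commute (w * x) (w * y) := by
    rw [eq_sub_of_add_eq h]
    refine Commute.sub_left ?_ (Commute.refl _)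
    show j * (w * y) = w * y * j
    rw [(hw.mul hy).2.1, (hw.mul hy).2.2]
  have := hc.isNilpotent_add (hj.mul_nilpotent hw hx hnx) (hj.mul_nilpotent hw hy hny)
  rw [h] at this
  exact absurd this hj.not_nilpotent

theorem Prim.not_nilpotent_smul (hj : Prim A j) {c : k} (hc : c ≠ 0) : ¬ IsNilpotent (c • j) :=
  fun h => hj.not_nilpotent (by
    have := h.smul c⁻¹
    rwa [inv_smul_smul₀ hc] at this)

variable [IsAlgClosed k]

theorem Prim.exists_scalar (hj : Prim A j) (hx : InCorner A j j x) :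
    ∃ c : k, IsNilpotent (x - c • j) := by
  by_contra hno
  simp only [not_exists] at hno
  obtain ⟨F, hF, hF0⟩ := IsIntegral.of_finite k x
  rw [← aeval_def, (IsAlgClosed.splits F).eq_prod_roots_of_monic hF] at hF0
  obtain ⟨l, hl⟩ := Quot.exists_rep F.roots
  rw [← hl] at hF0
  change aeval x ((Multiset.ofList l).map fun a => X - C a).prod = 0 at hF0
  rw [Multiset.map_coe, Multiset.prod_coe, map_list_prod, List.map_map] at hF0
  have key : ∀ l : List k, ∃ w, InCorner A j j w ∧
      w * (j * (l.map (aeval x ∘ fun a => X - C a)).prod) = j := by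
    intro l
    induction l with
    | nil => exact ⟨j, hj.inCorner, by simp [hj.2.1]⟩
    | cons a l ih =>
      obtain ⟨w, hw, hwl⟩ := ih
      obtain ⟨v, hv, -, hv1⟩ :=
        (hj.nilpotent_or_inv (hx.sub (hj.inCorner.smul a))).resolve_left (hno a)
      refine ⟨w * v, hw.mul hv, ?_⟩
      rw [List.map_cons, List.prod_cons, Function.comp_apply, map_sub, aeval_X, aeval_C]
      have h1 : j * (x - algebraMap k R a) = (x - a • j) * j := by
        rw [Algebra.algebraMap_eq_smul_one, mul_sub, mul_smul_comm, mul_one, hx.2.1, sub_mul,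
          smul_mul_assoc, hj.2.1, hx.2.2]
      rw [← mul_assoc j, h1, mul_assoc w, ← mul_assoc v, ← mul_assoc v, hv1, ← mul_assoc,
        ← mul_assoc, mul_assoc w j j, hj.2.1, mul_assoc, hwl]
  obtain ⟨w, -, hw⟩ := key l
  rw [hF0, mul_zero, mul_zero] at hw
  exact hj.2.2.1 hw.symm

open Classical in
/-- The residue of an element of a local corner. -/
noncomputable def res (k : Type*) {R : Type*} [Field k] [Ring R] [Algebra k R] (j x : R) : k :=
  if h : ∃ c : k, IsNilpotent (x - c • j) then h.choose else 0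

theorem Prim.res_spec (hj : Prim A j) (hx : InCorner A j j x) :
    IsNilpotent (x - res k j x • j) := by
  have h := hj.exists_scalar hx
  rw [res, dif_pos h]
  exact h.choose_spec

theorem Prim.res_unique (hj : Prim A j) (hx : InCorner A j j x) {c : k}
    (h : IsNilpotent (x - c • j)) : res k j x = c := by
  by_contra hne
  refine hj.not_nilpotent_smul (sub_ne_zero.2 (Ne.symm hne)) ?_
  have h1 := hj.res_spec hx
  have hxj : Commute x j := show x * j = j * x by rw [hx.2.1, hx.2.2]
  have hc : Commute (x - res k j x • j) (x - c • j) :=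
    ((Commute.refl x).sub_right (hxj.smul_right c)).sub_left
      ((hxj.symm.sub_right ((Commute.refl j).smul_right c)).smul_left _)
  have := hc.isNilpotent_sub h1 h
  rwa [sub_sub_sub_cancel_left, ← sub_smul] at this

theorem Prim.res_self (hj : Prim A j) : res k j j = 1 :=
  hj.res_unique hj.inCorner (by rw [one_smul, sub_self]; exact IsNilpotent.zero)

theorem Prim.res_zero (hj : Prim A j) : res k j 0 = 0 :=
  hj.res_unique InCorner.zero (by simp)

theorem Prim.res_eq_zero_of_nilpotent (hj : Prim A j) (hx : InCorner A j j x)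
    (h : IsNilpotent x) : res k j x = 0 := hj.res_unique hx (by simpa using h)

theorem Prim.res_add (hj : Prim A j) (hx : InCorner A j j x) (hy : InCorner A j j y) :
    res k j (x + y) = res k j x + res k j y := by
  refine hj.res_unique (hx.add hy) ?_
  rw [add_smul, add_sub_add_comm]
  exact hj.nilpotent_add (hx.sub (hj.inCorner.smul _)) (hy.sub (hj.inCorner.smul _))
    (hj.res_spec hx) (hj.res_spec hy)

theorem Prim.res_smul (hj : Prim A j) (hx : InCorner A j j x) (c : k) :
    res k j (c • x) = c * res k j x := by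
  refine hj.res_unique (hx.smul c) ?_
  rw [mul_smul, ← smul_sub]
  exact (hj.res_spec hx).smul c

theorem Prim.res_sum (hj : Prim A j) {ι : Type*} (s : Finset ι) (f : ι → R)
    (h : ∀ a ∈ s, InCorner A j j (f a)) : res k j (∑ a ∈ s, f a) = ∑ a ∈ s, res k j (f a) := by
  classical
  induction s using Finset.induction_on with
  | empty => simpa using hj.res_zero
  | insert a s has ih =>
    rw [Finset.sum_insert has, Finset.sum_insert has,
      hj.res_add (h a (Finset.mem_insert_self _ _))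
        (InCorner.sum s f fun b hb => h b (Finset.mem_insert_of_mem hb)),
      ih fun b hb => h b (Finset.mem_insert_of_mem hb)]

theorem Prim.res_mul (hj : Prim A j) (hx : InCorner A j j x) (hy : InCorner A j j y) :
    res k j (x * y) = res k j x * res k j y := by
  refine hj.res_unique (hx.mul hy) ?_
  have h : x * y - (res k j x * res k j y) • j =
      (x - res k j x • j) * y + res k j x • (y - res k j y • j) := by
    rw [sub_mul, smul_mul_assoc, hy.2.1, smul_sub, smul_smul]; abel
  rw [h]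
  exact hj.nilpotent_add ((hx.sub (hj.inCorner.smul _)).mul hy)
    ((hy.sub (hj.inCorner.smul _)).smul _)
    (hj.nilpotent_mul (hx.sub (hj.inCorner.smul _)) hy (hj.res_spec hx))
    ((hj.res_spec hy).smul _)

/-! ### Equivalence -/

/-- Equivalence of idempotents in `A`. -/
def Eqv (A : Subalgebra k R) (i i' : R) : Prop := ∃ x ∈ A, ∃ y ∈ A, x * y = i ∧ y * x = i'

omit [FiniteDimensional k R] [IsAlgClosed k] in
theorem Eqv.refl (hj : Prim A j) : Eqv A j j := ⟨j, hj.1, j, hj.1, hj.2.1, hj.2.1⟩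

omit [FiniteDimensional k R] [IsAlgClosed k] in
theorem Eqv.symm (h : Eqv A i i') : Eqv A i' i := by
  obtain ⟨x, hx, y, hy, h1, h2⟩ := h
  exact ⟨y, hy, x, hx, h2, h1⟩

omit [FiniteDimensional k R] [IsAlgClosed k] in
theorem Eqv.exists_corner (h : Eqv A i i') (hi : i * i = i) (hi' : i' * i' = i') :
    ∃ x y, InCorner A i i' x ∧ InCorner A i' i y ∧ x * y = i ∧ y * x = i' := by
  obtain ⟨x, hx, y, hy, h1, h2⟩ := h
  have hiA : i ∈ A := h1 ▸ mul_mem hx hy
  have hi'A : i' ∈ A := h2 ▸ mul_mem hy hx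
  refine ⟨i * x * i', i' * y * i, InCorner.mk' hi hi' hiA hi'A hx,
    InCorner.mk' hi' hi hi'A hiA hy, ?_, ?_⟩
  · calc i * x * i' * (i' * y * i) = i * x * (i' * i') * y * i := by simp only [mul_assoc]
      _ = i * (x * y) * (x * y) * i := by rw [hi', ← h2]; simp only [mul_assoc]
      _ = i := by rw [h1, hi, hi, hi]
  · calc i' * y * i * (i * x * i') = i' * y * (i * i) * x * i' := by simp only [mul_assoc]
      _ = i' * (y * x) * (y * x) * i' := by rw [hi, ← h1]; simp only [mul_assoc]
      _ = i' := by rw [h2, hi', hi', hi']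

omit [FiniteDimensional k R] [IsAlgClosed k] in
theorem Eqv.trans (h : Eqv A i i') (h' : Eqv A i' i'') (hi : i * i = i) (hi'' : i'' * i'' = i'') :
    Eqv A i i'' := by
  obtain ⟨x, hx, y, hy, h1, h2⟩ := h
  obtain ⟨u, hu, v, hv, h3, h4⟩ := h'
  refine ⟨x * u, mul_mem hx hu, v * y, mul_mem hv hy, ?_, ?_⟩
  · calc x * u * (v * y) = x * (u * v) * y := by simp only [mul_assoc]
      _ = (x * y) * (x * y) := by rw [h3, ← h2]; simp only [mul_assoc]
      _ = i := by rw [h1, hi]
  · calc v * y * (x * u) = v * (y * x) * u := by simp only [mul_assoc]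
      _ = (v * u) * (v * u) := by rw [h2, ← h3]; simp only [mul_assoc]
      _ = i'' := by rw [h4, hi'']

theorem eqv_of_res_ne (hi : Prim A i) (hi' : Prim A i') (hx : InCorner A i i' x)
    (hy : InCorner A i' i y) (h : res k i (x * y) ≠ 0) : Eqv A i i' := by
  obtain ⟨w, hw, -, hwxy⟩ := (hi.nilpotent_or_inv (hx.mul hy)).resolve_left
    fun hn => h (hi.res_eq_zero_of_nilpotent (hx.mul hy) hn)
  have hwx := hw.mul hx
  refine ⟨w * x, hwx.1, y, hy.1, by rw [mul_assoc, hwxy], ?_⟩
  have hidem : y * (w * x) * (y * (w * x)) = y * (w * x) := by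
    calc y * (w * x) * (y * (w * x)) = y * ((w * (x * y)) * (w * x)) := by simp only [mul_assoc]
      _ = _ := by rw [hwxy, hwx.2.1]
  refine (hi'.2.2.2 _ (hy.mul hwx).1 hidem (hy.mul hwx).2.1 (hy.mul hwx).2.2).resolve_left
    fun h0 => hi.2.2.1 ?_
  calc i = (w * (x * y)) * (w * (x * y)) := by rw [hwxy, hi.2.1]
    _ = w * x * (y * (w * x)) * y := by simp only [mul_assoc]
    _ = 0 := by rw [h0, mul_zero, zero_mul]

theorem res_comm (hi : Prim A i) (hi' : Prim A i') (hx : InCorner A i i' x)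
    (hy : InCorner A i' i y) : res k i (x * y) = res k i' (y * x) := by
  suffices key : ∀ {a b : R}, Prim A a → Prim A b → ∀ {u v : R}, InCorner A a b u →
      InCorner A b a v → res k b (v * u) ≠ 0 → res k a (u * v) = res k b (v * u) by
    by_cases h : res k i' (y * x) = 0
    · rw [h]
      by_contra h'
      exact h' ((key hi' hi hy hx h').symm.trans h)
    · exact key hi hi' hx hy h
  intro a b ha hb u v hu hv hd
  set c := res k a (u * v)
  set d := res k b (v * u) with hdd
  by_contra hne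
  have hU : InCorner A a a (u * v - d • a) := (hu.mul hv).sub (ha.inCorner.smul d)
  obtain ⟨w, hw, -, hwU⟩ := (ha.nilpotent_or_inv hU).resolve_left fun hn =>
    hne (ha.res_unique (hu.mul hv) hn)
  set n := v * u - d • b
  have hcomm : ∀ m : ℕ, (u * v - d • a) ^ m * u = u * n ^ m := by
    intro m
    induction m with
    | zero => simp
    | succ m ih =>
      have h1 : (u * v - d • a) * u = u * n := by
        simp only [n, sub_mul, mul_sub, smul_mul_assoc, mul_smul_comm, hu.2.1, hu.2.2, mul_assoc]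
      rw [pow_succ, mul_assoc, h1, ← mul_assoc, ih, mul_assoc, ← pow_succ]
  have hdesc : ∀ m : ℕ, (u * v - d • a) ^ m * u = 0 → u = 0 := by
    intro m
    induction m with
    | zero => simp
    | succ m ih =>
      intro h
      refine ih ?_
      have h2 : a * ((u * v - d • a) ^ m * u) = (u * v - d • a) ^ m * u := by
        rcases m with _ | m
        · rw [pow_zero, one_mul, hu.2.1]
        · rw [pow_succ', ← mul_assoc, ← mul_assoc, hU.2.1]
      rw [← h2]
      calc a * ((u * v - d • a) ^ m * u)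
          = w * (u * v - d • a) * ((u * v - d • a) ^ m * u) := by rw [hwU]
        _ = w * ((u * v - d • a) ^ (m + 1) * u) := by rw [pow_succ']; simp only [mul_assoc]
        _ = 0 := by rw [h, mul_zero]
  obtain ⟨m, hm⟩ := hb.res_spec (hv.mul hu)
  have hu0 : u = 0 := hdesc m (by rw [hcomm]; show u * (v * u - d • b) ^ m = 0; rw [hm, mul_zero])
  apply hd
  rw [hdd, hu0, mul_zero, hb.res_zero]

/-! ### Decompositions -/

/-- A decomposition of `j` into pairwise orthogonal primitive idempotents. -/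
def IsDecomp (A : Subalgebra k R) (j : R) (s : Finset R) : Prop :=
  (∀ i ∈ s, Prim A i) ∧ (∀ a ∈ s, ∀ b ∈ s, a ≠ b → a * b = 0) ∧ ∑ i ∈ s, i = j

omit [FiniteDimensional k R] [IsAlgClosed k] in
theorem IsDecomp.mul_mem_eq {s : Finset R} (h : IsDecomp A j s) (hi : i ∈ s) :
    j * i = i ∧ i * j = i := by
  constructor <;> rw [← h.2.2]
  · rw [Finset.sum_mul, Finset.sum_eq_single i (fun b hb hbi => h.2.1 b hb i hi hbi)
      (fun hn => absurd hi hn), (h.1 i hi).2.1]
  · rw [Finset.mul_sum, Finset.sum_eq_single i (fun b hb hbi => h.2.1 i hi b hb hbi.symm)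
      (fun hn => absurd hi hn), (h.1 i hi).2.1]

omit [IsAlgClosed k] in
theorem exists_decomp (hjA : j ∈ A) (hjj : j * j = j) : ∃ s, IsDecomp A j s := by
  classical
  induction hd : Module.finrank k (LinearMap.range
      (LinearMap.mulLeft k j ∘ₗ LinearMap.mulRight k j)) using Nat.strong_induction_on
      generalizing j with
  | _ d ih =>
    by_cases h0 : j = 0
    · exact ⟨∅, by simp, by simp, by simp [h0]⟩
    by_cases hp : Prim A j
    · exact ⟨{j}, by simp [hp], by simp, by simp⟩
    simp only [Prim, hjA, hjj, h0, ne_eq, not_false_eq_true, true_and, not_forall, not_or] at hp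
    obtain ⟨f, hf, hff, hjf, hfj, hf0, hfne⟩ := hp
    have hlt : ∀ g, g * g = g → j * g = g → g * j = g → g ≠ j → Module.finrank k (LinearMap.range
        (LinearMap.mulLeft k g ∘ₗ LinearMap.mulRight k g)) < d := by
      intro g hgg hjg hgj hgne
      rw [← hd]
      refine Submodule.finrank_lt_finrank_of_lt (lt_of_le_of_ne ?_ fun heq => hgne ?_)
      · rintro _ ⟨x, rfl⟩
        refine ⟨g * x * g, ?_⟩
        simp only [LinearMap.coe_comp, Function.comp_apply, LinearMap.mulLeft_apply,
          LinearMap.mulRight_apply]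
        rw [mul_assoc (g * x), hgj, ← mul_assoc, ← mul_assoc, hjg, mul_assoc]
      · have hmem : j ∈ LinearMap.range (LinearMap.mulLeft k g ∘ₗ LinearMap.mulRight k g) := by
          rw [heq]
          exact ⟨j, by simp [hjj]⟩
        obtain ⟨x, hx⟩ := hmem
        simp only [LinearMap.coe_comp, Function.comp_apply, LinearMap.mulLeft_apply,
          LinearMap.mulRight_apply] at hx
        rw [← hgj, ← hx, ← mul_assoc, hgg]
    have hd1 : (j - f) * (j - f) = j - f := by
      rw [mul_sub, sub_mul, sub_mul, hjj, hff, hjf, hfj]; abel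
    obtain ⟨s₁, h₁⟩ := ih _ (hlt f hff hjf hfj hfne) hf hff rfl
    obtain ⟨s₂, h₂⟩ := ih _ (hlt (j - f) hd1 (by rw [mul_sub, hjj, hjf])
      (by rw [sub_mul, hjj, hfj]) (fun h => hf0 (by simpa using h))) (sub_mem hjA hf) hd1 rfl
    have horth : ∀ a ∈ s₁, ∀ b ∈ s₂, a * b = 0 ∧ b * a = 0 := fun a ha b hb => by
      have e1 : f * (j - f) = 0 := by rw [mul_sub, hfj, hff, sub_self]
      have e2 : (j - f) * f = 0 := by rw [sub_mul, hjf, hff, sub_self]
      constructor
      · rw [← (h₁.mul_mem_eq ha).2, ← (h₂.mul_mem_eq hb).1, mul_assoc, ← mul_assoc f, e1,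
          zero_mul, mul_zero]
      · rw [← (h₂.mul_mem_eq hb).2, ← (h₁.mul_mem_eq ha).1, mul_assoc, ← mul_assoc (j - f), e2,
          zero_mul, mul_zero]
    have hdisj : Disjoint s₁ s₂ := Finset.disjoint_left.2 fun a ha hb =>
      (h₁.1 a ha).2.2.1 ((h₁.1 a ha).2.1 ▸ (horth a ha a hb).1)
    refine ⟨s₁ ∪ s₂, fun i hi => (Finset.mem_union.1 hi).elim (h₁.1 i) (h₂.1 i), ?_, ?_⟩
    · intro a ha b hb hab
      rcases Finset.mem_union.1 ha with ha | ha <;> rcases Finset.mem_union.1 hb with hb | hb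
      · exact h₁.2.1 a ha b hb hab
      · exact (horth a ha b hb).1
      · exact (horth b hb a ha).2
      · exact h₂.2.1 a ha b hb hab
    · rw [Finset.sum_union hdisj, h₁.2.2, h₂.2.2, add_sub_cancel]

theorem exists_eqv_mem {s : Finset R} (h : IsDecomp A j s) (hi : Prim A i) (hij : j * i = i) :
    ∃ a ∈ s, Eqv A i a := by
  by_contra hno
  simp only [not_exists, not_and] at hno
  have hterm : ∀ a ∈ s, InCorner A i i (i * a * (a * i)) ∧ res k i (i * a * (a * i)) = 0 := by
    intro a ha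
    have h1 : InCorner A i a (i * a) :=
      ⟨mul_mem hi.1 (h.1 a ha).1, by rw [← mul_assoc, hi.2.1], by rw [mul_assoc, (h.1 a ha).2.1]⟩
    have h2 : InCorner A a i (a * i) :=
      ⟨mul_mem (h.1 a ha).1 hi.1, by rw [← mul_assoc, (h.1 a ha).2.1], by rw [mul_assoc, hi.2.1]⟩
    exact ⟨h1.mul h2, not_not.1 fun hne => hno a ha (eqv_of_res_ne hi (h.1 a ha) h1 h2 hne)⟩
  have hsum : ∑ a ∈ s, i * a * (a * i) = i := by
    rw [Finset.sum_congr rfl fun a ha => show i * a * (a * i) = i * a * i by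
      rw [← mul_assoc, mul_assoc i a a, (h.1 a ha).2.1], ← Finset.sum_mul, ← Finset.mul_sum,
      h.2.2, mul_assoc, hij, hi.2.1]
  have := hi.res_sum s _ fun a ha => (hterm a ha).1
  rw [hsum, hi.res_self, Finset.sum_eq_zero fun a ha => (hterm a ha).2] at this
  exact one_ne_zero this

open Classical in
/-- The members of `s` equivalent to `i₀`. -/
noncomputable def part (A : Subalgebra k R) (s : Finset R) (i₀ : R) : Finset R :=
  s.filter (Eqv A i₀)

omit [FiniteDimensional k R] [IsAlgClosed k] in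
theorem mem_part {s : Finset R} {i₀ a : R} : a ∈ part A s i₀ ↔ a ∈ s ∧ Eqv A i₀ a := by
  classical
  simp [part]

omit [FiniteDimensional k R] [IsAlgClosed k] in
theorem part_subset (s : Finset R) (i₀ : R) : part A s i₀ ⊆ s := fun _ h => (mem_part.1 h).1

omit [FiniteDimensional k R] [IsAlgClosed k] in
theorem part_congr {s : Finset R} (hs : IsDecomp A j s) {i₀ i₁ : R} (h₀ : i₀ * i₀ = i₀)
    (h₁ : i₁ * i₁ = i₁) (h : Eqv A i₀ i₁) : part A s i₀ = part A s i₁ := by
  ext a
  simp only [mem_part]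
  exact and_congr_right fun ha =>
    ⟨fun h' => h.symm.trans h' h₁ (hs.1 a ha).2.1, fun h' => h.trans h' h₀ (hs.1 a ha).2.1⟩

/-- The number of members of a decomposition equivalent to `i₀` is an invariant of `j`. -/
theorem count_eq {s s' : Finset R} (h : IsDecomp A j s) (h' : IsDecomp A j s') {i₀ : R}
    (h₀ : Prim A i₀) : (part A s i₀).card = (part A s' i₀).card := by
  classical
  suffices ∀ {s s' : Finset R}, IsDecomp A j s → IsDecomp A j s' →
      (part A s' i₀).card ≤ (part A s i₀).card from le_antisymm (this h' h) (this h h')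
  intro s s' h h'
  have hu : ∀ {s : Finset R}, IsDecomp A j s → ∀ a : part A s i₀, ∃ x y,
      InCorner A i₀ a.1 x ∧ InCorner A a.1 i₀ y ∧ x * y = i₀ ∧ y * x = a.1 := fun hs a =>
    (mem_part.1 a.2).2.exists_corner h₀.2.1 (hs.1 a.1 (mem_part.1 a.2).1).2.1
  choose v u hv hu' hvu huv using hu h
  choose v' u' hv' hu'' hvu' huv' using hu h'
  let P : Matrix (part A s' i₀) (part A s i₀) k := fun l a => res k i₀ (v' l * u a)
  let Q : Matrix (part A s i₀) (part A s' i₀) k := fun a l => res k i₀ (v a * u' l)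
  have hPQ : P * Q = 1 := by
    ext l m
    rw [Matrix.mul_apply]
    have hjm : j * u' m = u' m := by
      rw [← (hu'' m).2.1, ← mul_assoc, (h'.mul_mem_eq (mem_part.1 m.2).1).1]
    have hall : ∀ b ∈ s, InCorner A i₀ i₀ (v' l * b * (b * u' m)) ∧
        (b ∉ part A s i₀ → res k i₀ (v' l * b * (b * u' m)) = 0) := by
      intro b hb
      have e1 : InCorner A i₀ b (v' l * b) :=
        ⟨mul_mem (hv' l).1 (h.1 b hb).1, by rw [← mul_assoc, (hv' l).2.1],
          by rw [mul_assoc, (h.1 b hb).2.1]⟩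
      have e2 : InCorner A b i₀ (b * u' m) :=
        ⟨mul_mem (h.1 b hb).1 (hu'' m).1, by rw [← mul_assoc, (h.1 b hb).2.1],
          by rw [mul_assoc, (hu'' m).2.2]⟩
      exact ⟨e1.mul e2, fun hn => not_not.1 fun hne =>
        hn (mem_part.2 ⟨hb, eqv_of_res_ne h₀ (h.1 b hb) e1 e2 hne⟩)⟩
    have h1 : ∀ a : part A s i₀, P l a * Q a m = res k i₀ (v' l * a.1 * (a.1 * u' m)) := by
      intro a
      have e1 : InCorner A i₀ i₀ (v' l * u a) :=
        ⟨mul_mem (hv' l).1 (hu' a).1, by rw [← mul_assoc, (hv' l).2.1],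
          by rw [mul_assoc, (hu' a).2.2]⟩
      have e2 : InCorner A i₀ i₀ (v a * u' m) :=
        ⟨mul_mem (hv a).1 (hu'' m).1, by rw [← mul_assoc, (hv a).2.1],
          by rw [mul_assoc, (hu'' m).2.2]⟩
      show res k i₀ _ * res k i₀ _ = _
      rw [← h₀.res_mul e1 e2]
      congr 1
      have ha := (h.1 a.1 (mem_part.1 a.2).1).2.1
      calc v' l * u a * (v a * u' m) = v' l * (u a * v a) * u' m := by simp only [mul_assoc]
        _ = v' l * a.1 * (a.1 * u' m) := by
            rw [huv a, mul_assoc _ a.1 (a.1 * u' m), ← mul_assoc a.1 a.1, ha, mul_assoc]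
    rw [Finset.sum_congr rfl fun a _ => h1 a,
      Finset.sum_coe_sort (part A s i₀) (fun b => res k i₀ (v' l * b * (b * u' m))),
      Finset.sum_subset (part_subset s i₀)
        (fun b hb hn => (hall b hb).2 hn), ← h₀.res_sum s _ fun b hb => (hall b hb).1,
      show ∑ b ∈ s, v' l * b * (b * u' m) = v' l * u' m by
        rw [Finset.sum_congr rfl fun b hb => show v' l * b * (b * u' m) = v' l * (b * u' m) by
          rw [mul_assoc, ← mul_assoc b b, (h.1 b hb).2.1], ← Finset.mul_sum, ← Finset.sum_mul,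
          h.2.2, hjm]]
    rw [Matrix.one_apply]
    split_ifs with hlm
    · rw [hlm, hvu' m, h₀.res_self]
    · rw [← (hv' l).2.2, ← (hu'' m).2.1, mul_assoc, ← mul_assoc l.1,
        h'.2.1 l.1 (mem_part.1 l.2).1 m.1 (mem_part.1 m.2).1 (fun e => hlm (Subtype.ext e)),
        zero_mul, mul_zero, h₀.res_zero]
  have hinj : Function.Injective (Matrix.mulVecLin Q) := fun a b hab => by
    have := congrArg P.mulVecLin hab
    simp only [Matrix.mulVecLin_apply, Matrix.mulVec_mulVec, hPQ, Matrix.one_mulVec] at this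
    exact this
  have := LinearMap.finrank_le_finrank_of_injective hinj
  simpa [Module.finrank_fintype_fun_eq_card] using this

/-- The trace on the isotypic part of `i₀`. -/
noncomputable def lam (A : Subalgebra k R) (s : Finset R) (i₀ x : R) : k :=
  ∑ a ∈ part A s i₀, res k a (a * x * a)

theorem lam_self {s : Finset R} (h : IsDecomp A j s) (i₀ : R) :
    lam A s i₀ j = ((part A s i₀).card : k) := by
  rw [lam, Finset.sum_congr rfl (g := fun _ => (1 : k)), Finset.sum_const, nsmul_one]
  intro a ha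
  have := (mem_part.1 ha).1
  rw [(h.mul_mem_eq this).2, (h.1 a this).2.1, (h.1 a this).res_self]

theorem lam_sum {s : Finset R} (h : IsDecomp A j s) (i₀ : R) {ι : Type*} (t : Finset ι)
    (f : ι → R) (hf : ∀ b ∈ t, f b ∈ A) :
    lam A s i₀ (∑ b ∈ t, f b) = ∑ b ∈ t, lam A s i₀ (f b) := by
  simp only [lam, Finset.mul_sum, Finset.sum_mul]
  rw [Finset.sum_comm]
  refine Finset.sum_congr rfl fun a ha => ?_
  have hP := h.1 a (mem_part.1 ha).1
  exact hP.res_sum t _ fun b hb => InCorner.mk' hP.2.1 hP.2.1 hP.1 hP.1 (hf b hb)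

/-- `lam` does not depend on the decomposition. -/
theorem lam_eq {s s' : Finset R} (h : IsDecomp A j s) (h' : IsDecomp A j s') {i₀ : R}
    (h₀ : Prim A i₀) (hx : InCorner A j j x) : lam A s i₀ x = lam A s' i₀ x := by
  classical
  have hp : ∀ {a}, a ∈ s → a * a = a := fun ha => (h.1 _ ha).2.1
  have hp' : ∀ {a}, a ∈ s' → a * a = a := fun ha => (h'.1 _ ha).2.1
  have hc : ∀ a ∈ s, ∀ l ∈ s', InCorner A a l (a * l) ∧ InCorner A l a (l * x * a) := fun a ha l hl =>
    ⟨⟨mul_mem (h.1 a ha).1 (h'.1 l hl).1, by rw [← mul_assoc, hp ha],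
      by rw [mul_assoc, hp' hl]⟩,
    InCorner.mk' (hp' hl) (hp ha) (h'.1 l hl).1 (h.1 a ha).1 hx.1⟩
  calc lam A s i₀ x = ∑ a ∈ part A s i₀, ∑ l ∈ s', res k a (a * l * (l * x * a)) := by
        refine Finset.sum_congr rfl fun a ha => ?_
        have haS := (mem_part.1 ha).1
        rw [← (h.1 a haS).res_sum s' _ fun l hl => (hc a haS l hl).1.mul (hc a haS l hl).2]
        congr 1
        rw [Finset.sum_congr rfl fun l hl => show a * l * (l * x * a) = a * l * (x * a) by
          rw [mul_assoc l, mul_assoc a l (l * (x * a)), ← mul_assoc l l, hp' hl, ← mul_assoc],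
          ← Finset.sum_mul, ← Finset.mul_sum, h'.2.2, ← mul_assoc, mul_assoc a j x, hx.2.1]
    _ = ∑ a ∈ part A s i₀, ∑ l ∈ part A s' i₀, res k a (a * l * (l * x * a)) := by
        refine Finset.sum_congr rfl fun a ha => (Finset.sum_subset (part_subset s' i₀)
          fun l hl hn => not_not.1 fun hne => hn (mem_part.2 ⟨hl, ?_⟩)).symm
        obtain ⟨haS, hae⟩ := mem_part.1 ha
        exact hae.trans (eqv_of_res_ne (h.1 a haS) (h'.1 l hl) (hc a haS l hl).1 (hc a haS l hl).2
          hne) h₀.2.1 (hp' hl)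
    _ = ∑ l ∈ part A s' i₀, ∑ a ∈ part A s i₀, res k l (l * x * a * (a * l)) := by
        rw [Finset.sum_comm]
        refine Finset.sum_congr rfl fun l hl => Finset.sum_congr rfl fun a ha => ?_
        have haS := (mem_part.1 ha).1
        have hlS := (mem_part.1 hl).1
        exact res_comm (h.1 a haS) (h'.1 l hlS) (hc a haS l hlS).1 (hc a haS l hlS).2
    _ = lam A s' i₀ x := by
        refine Finset.sum_congr rfl fun l hl => ?_
        obtain ⟨hlS, hle⟩ := mem_part.1 hl
        rw [Finset.sum_subset (part_subset s i₀) fun a ha hn =>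
            not_not.1 fun hne => hn (mem_part.2 ⟨ha, hle.trans (eqv_of_res_ne (h'.1 l hlS) (h.1 a ha)
              (hc a ha l hlS).2 (hc a ha l hlS).1 hne) h₀.2.1 (hp ha)⟩),
          ← (h'.1 l hlS).res_sum s _ fun a ha => (hc a ha l hlS).2.mul (hc a ha l hlS).1]
        congr 1
        rw [Finset.sum_congr rfl fun a ha => show l * x * a * (a * l) = l * x * a * l by
          rw [← mul_assoc, mul_assoc (l * x) a a, hp ha], ← Finset.sum_mul, ← Finset.mul_sum,
          h.2.2, mul_assoc l x j, hx.2.2]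

/-! ### Transport along an automorphism preserving `A` -/

variable {σ : R ≃ₐ[k] R}

omit [FiniteDimensional k R] [IsAlgClosed k] in
theorem Prim.map (hσ : ∀ x, σ x ∈ A ↔ x ∈ A) (hj : Prim A j) : Prim A (σ j) := by
  refine ⟨(hσ j).2 hj.1, by rw [← map_mul, hj.2.1], by simpa using hj.2.2.1, fun f hf hff h1 h2 => ?_⟩
  obtain ⟨g, rfl⟩ := σ.surjective f
  simp only [← map_mul, EmbeddingLike.apply_eq_iff_eq] at hff h1 h2
  rcases hj.2.2.2 g ((hσ g).1 hf) hff h1 h2 with h | h
  · exact .inl (by rw [h, map_zero])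
  · exact .inr (by rw [h])

omit [FiniteDimensional k R] [IsAlgClosed k] in
theorem eqv_map_iff (hσ : ∀ x, σ x ∈ A ↔ x ∈ A) : Eqv A (σ i) (σ i') ↔ Eqv A i i' := by
  constructor
  · rintro ⟨x, hx, y, hy, h1, h2⟩
    obtain ⟨x, rfl⟩ := σ.surjective x
    obtain ⟨y, rfl⟩ := σ.surjective y
    simp only [← map_mul, EmbeddingLike.apply_eq_iff_eq] at h1 h2
    exact ⟨x, (hσ x).1 hx, y, (hσ y).1 hy, h1, h2⟩
  · rintro ⟨x, hx, y, hy, h1, h2⟩
    exact ⟨σ x, (hσ x).2 hx, σ y, (hσ y).2 hy, by rw [← map_mul, h1], by rw [← map_mul, h2]⟩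

theorem res_map (hσ : ∀ x, σ x ∈ A ↔ x ∈ A) (hj : Prim A j) (hx : InCorner A j j x) :
    res k (σ j) (σ x) = res k j x := by
  refine (hj.map hσ).res_unique
    ⟨(hσ x).2 hx.1, by rw [← map_mul, hx.2.1], by rw [← map_mul, hx.2.2]⟩ ?_
  rw [← map_smul, ← map_sub]
  exact (hj.res_spec hx).map σ

open Classical in
omit [FiniteDimensional k R] [IsAlgClosed k] in
theorem IsDecomp.map (hσ : ∀ x, σ x ∈ A ↔ x ∈ A) {s : Finset R} (h : IsDecomp A j s) :
    IsDecomp A (σ j) (s.image σ) := by
  refine ⟨?_, ?_, ?_⟩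
  · intro i hi
    obtain ⟨a, ha, rfl⟩ := Finset.mem_image.1 hi
    exact (h.1 a ha).map hσ
  · intro a ha b hb hab
    obtain ⟨a, ha', rfl⟩ := Finset.mem_image.1 ha
    obtain ⟨b, hb', rfl⟩ := Finset.mem_image.1 hb
    rw [← map_mul, h.2.1 a ha' b hb' (fun e => hab (by rw [e])), map_zero]
  · rw [Finset.sum_image fun a _ b _ e => σ.injective e, ← map_sum, h.2.2]

open Classical in
omit [FiniteDimensional k R] [IsAlgClosed k] in
theorem part_map (hσ : ∀ x, σ x ∈ A ↔ x ∈ A) (s : Finset R) (i₀ : R) :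
    part A (s.image σ) (σ i₀) = (part A s i₀).image σ := by
  ext a
  simp only [mem_part, Finset.mem_image]
  constructor
  · rintro ⟨⟨b, hb, rfl⟩, he⟩
    exact ⟨b, ⟨hb, (eqv_map_iff hσ).1 he⟩, rfl⟩
  · rintro ⟨b, ⟨hb, he⟩, rfl⟩
    exact ⟨⟨b, hb, rfl⟩, (eqv_map_iff hσ).2 he⟩

/-- An automorphism fixing `j` permutes the multiplicities. -/
theorem count_map (hσ : ∀ x, σ x ∈ A ↔ x ∈ A) (hσj : σ j = j) {s : Finset R} (h : IsDecomp A j s)
    {i₀ : R} (h₀ : Prim A i₀) : (part A s (σ i₀)).card = (part A s i₀).card := by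
  classical
  have hs := h.map hσ
  rw [hσj] at hs
  rw [count_eq h hs (h₀.map hσ), part_map hσ, Finset.card_image_of_injective _ σ.injective]

theorem lam_map (hσ : ∀ x, σ x ∈ A ↔ x ∈ A) (hσj : σ j = j) {s : Finset R} (h : IsDecomp A j s)
    {i₀ : R} (h₀ : Prim A i₀) (hx : InCorner A j j x) :
    lam A s (σ i₀) (σ x) = lam A s i₀ x := by
  classical
  have hs := h.map hσ
  rw [hσj] at hs
  have hx' : InCorner A j j (σ x) := ⟨(hσ x).2 hx.1,
    by conv_lhs => rw [← hσj, ← map_mul, hx.2.1], by conv_lhs => rw [← hσj, ← map_mul, hx.2.2]⟩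
  rw [lam_eq h hs (h₀.map hσ) hx', lam, part_map hσ,
    Finset.sum_image fun a _ b _ e => σ.injective e]
  refine Finset.sum_congr rfl fun a ha => ?_
  rw [← map_mul, ← map_mul]
  have hP := h.1 a (mem_part.1 ha).1
  exact res_map hσ hP (InCorner.mk' hP.2.1 hP.2.1 hP.1 hP.1 hx.1)

end CfsgLib.Star
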