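import Cfsg.Agent.Star.IdemLift
import Cfsg.Agent.BlocksLocal.OverLocalRing
import Cfsg.Agent.Blocks.PPart
import Cfsg.Agent.Star.Decomp
import Cfsg.Agent.BlockPairs.Local

/-!
# The trace at an element of an idempotent of the modular group algebra

For an idempotent `j` of the group algebra over the residue field fixed by `z`, `T M f z j` is
`∑ g, E g * f (z * g)` for a lift `E` commuting with `z`.  It does not depend on the lift, is
additive on orthogonal idempotents, invariant under equivalence and conjugation, and depends only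
on the image of `j` under the Brauer map at the p-part of `z`.
-/

set_option autoImplicit false
set_option linter.unusedSectionVars false
set_option linter.style.haveILetI false
set_option maxHeartbeats 1000000

namespace CfsgLib.Star

open Cfsg MonoidAlgebra CfsgLib.BlockPairs
open CfsgLib.Blocks (localRing red Res)

universe u

variable {M : Ideal AlgInt} [M.IsPrime] {G : Type u} [Group G]

/-- The elements fixing `a` by conjugation. -/
noncomputable def fixer {k : Type*} [Field k] (a : GA k G) : Subgroup G where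
  carrier := {g | conjA k g a = a}
  one_mem' := conjA_one_left a
  mul_mem' := fun {g h} (hg : conjA k g a = a) (hh : conjA k h a = a) => by
    show conjA k (g * h) a = a
    rw [← conjA_conjA, hh, hg]
  inv_mem' := fun {g} (hg : conjA k g a = a) => by
    show conjA k g⁻¹ a = a
    conv_lhs => rw [← hg]
    rw [conjA_inv]

theorem mem_fixer {k : Type*} [Field k] {a : GA k G} {g : G} :
    g ∈ fixer a ↔ conjA k g a = a := Iff.rfl

theorem isFixed_iff_le_fixer {k : Type*} [Field k] {a : GA k G} {P : Subgroup G} :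
    IsFixed P a ↔ P ≤ fixer a := Iff.rfl

theorem isFixed_zpowers {k : Type*} [Field k] {a : GA k G} {z : G} (h : conjA k z a = a) :
    IsFixed (Subgroup.zpowers z) a := isFixed_iff_le_fixer.2 (Subgroup.zpowers_le.2 h)

theorem mem_sub_zpowers {k : Type*} [Field k] {a : GA k G} {z : G} :
    a ∈ sub ⊤ (Subgroup.zpowers z) ↔ conjA k z a = a :=
  ⟨fun h => h.2 z (Subgroup.mem_zpowers z), fun h => ⟨isSupp_top a, isFixed_zpowers h⟩⟩

variable (M) in
/-- An element commuting with `z` above `a`. -/
def Above (z : G) (A : MonoidAlgebra (localRing M) G) (a : GA (Res M) G) : Prop :=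
  Commute (single z (1 : localRing M)) A ∧ rho M G A = a

theorem Above.conjA_eq {z : G} {A : MonoidAlgebra (localRing M) G} {a : GA (Res M) G}
    (h : Above M z A a) : conjA (Res M) z a = a := by
  have h1 := congrArg (rho M G) h.1.eq
  have hs : rho M G (single z 1) = single z 1 := by simp [rho]
  rw [map_mul, map_mul, h.2, hs] at h1
  rw [BlockPairs.conjA, h1, mul_assoc, single_mul_single, mul_inv_cancel, one_mul,
    ← MonoidAlgebra.one_def, mul_one]

variable [Finite G]

/-- An element of the group algebra lifts with the same symmetries. -/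
theorem exists_above (j : GA (Res M) G) :
    ∃ A : MonoidAlgebra (localRing M) G, ∀ z, conjA (Res M) z j = j → Above M z A j := by
  classical
  cases nonempty_fintype G
  choose sec hsec using CfsgLib.Blocks.red_surjective (M := M)
  refine ⟨MonoidAlgebra.ofCoeff (Finsupp.equivFunOnFinite.symm fun g => sec (j.coeff g)),
    fun z hz => ⟨?_, ga_ext fun g => by simp [hsec]⟩⟩
  refine MonoidAlgebra.ext (Finsupp.ext fun g => ?_)
  have h1 : j.coeff (z⁻¹ * g) = j.coeff (g * z⁻¹) := by
    have := congrArg (fun a : GA (Res M) G => a.coeff (g * z⁻¹)) hz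
    simp only [conjA_coeff] at this
    simpa [mul_assoc] using this
  simp [h1]

theorem exists_lift (j : GA (Res M) G) (hj : j * j = j) :
    ∃ E : MonoidAlgebra (localRing M) G, E * E = E ∧
      ∀ z, conjA (Res M) z j = j → Above M z E j := by
  obtain ⟨A, hA⟩ := exists_above j
  have h1 := (hA 1 (conjA_one_left j)).2
  obtain ⟨P, hP, hP2⟩ := exists_idem_lift A (by rw [h1, hj])
  exact ⟨_, hP, fun z hz => ⟨commute_aeval (hA z hz).1 P, by rw [hP2, h1]⟩⟩

variable [Fintype G]

/-- The functional on the group algebra over the local ring attached to a complex function. -/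
noncomputable def tau (M : Ideal AlgInt) [M.IsPrime] (f : G → ℂ) :
    MonoidAlgebra (localRing M) G →+ ℂ :=
  (CfsgLib.BlocksLocal.coeffSum f).comp
    (MonoidAlgebra.mapRingHom G (localRing M).subtype).toAddMonoidHom

theorem tau_apply (f : G → ℂ) (a : MonoidAlgebra (localRing M) G) :
    tau M f a = ∑ g, (a.coeff g : ℂ) * f g := by
  simp [tau, CfsgLib.BlocksLocal.coeffSum_apply]

theorem tau_single_mul (f : G → ℂ) (z : G) (a : MonoidAlgebra (localRing M) G) :
    tau M f (single z 1 * a) = ∑ g, (a.coeff g : ℂ) * f (z * g) := by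
  rw [tau_apply]
  exact (Fintype.sum_equiv (Equiv.mulLeft z) _ _ fun g => by simp [mul_assoc]).symm

variable {f : G → ℂ} (hf : Cfsg.IsClassFunction G f)

include hf in
theorem tau_mul_comm (a b : MonoidAlgebra (localRing M) G) :
    tau M f (a * b) = tau M f (b * a) := by
  simp only [tau, AddMonoidHom.comp_apply, RingHom.toAddMonoidHom_eq_coe, AddMonoidHom.coe_coe,
    map_mul]
  exact CfsgLib.BlocksLocal.coeffSum_mul_comm f hf _ _

open Classical in
/-- The trace at `z` of an idempotent fixed by `z`. -/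
noncomputable def T (M : Ideal AlgInt) [M.IsPrime] (f : G → ℂ) (z : G) (j : GA (Res M) G) : ℂ :=
  if h : ∃ E, E * E = E ∧ Above M z E j then tau M f (single z 1 * h.choose) else 0

include hf in
theorem tau_eq_of_rho_eq {z : G} {E E' : MonoidAlgebra (localRing M) G} (hE : E * E = E)
    (hE' : E' * E' = E') (hz : Commute (single z 1) E) (hz' : Commute (single z 1) E')
    (h : rho M G E = rho M G E') :
    tau M f (single z 1 * E) = tau M f (single z 1 * E') := by
  set U := E * E' + (1 - E) * (1 - E') with hU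
  have hred : rho M G (U - 1) = 0 := by
    have h1 : rho M G E' * rho M G E' = rho M G E' := by rw [← map_mul, hE']
    simp only [hU, map_sub, map_add, map_mul, map_one, h, sub_mul, mul_sub, one_mul, mul_one, h1]
    abel
  obtain ⟨w, hw⟩ : IsUnit U := by
    have h := isUnit_one_add hred
    rwa [add_sub_cancel] at h
  have hzU : Commute (single z 1) U :=
    (hz.mul_right hz').add_right (((Commute.one_right _).sub_right hz).mul_right
      ((Commute.one_right _).sub_right hz'))
  have hEU : E * U = U * E' := by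
    have hA : E * (1 - E) = 0 := by rw [mul_sub, mul_one, hE, sub_self]
    have hB : (1 - E') * E' = 0 := by rw [sub_mul, one_mul, hE', sub_self]
    rw [hU, mul_add, add_mul, ← mul_assoc, hE, ← mul_assoc, hA, zero_mul, add_zero, mul_assoc, hE',
      mul_assoc, hB, mul_zero, add_zero]
  calc tau M f (single z 1 * E) = tau M f (single z 1 * E * U * ↑w⁻¹) := by
        rw [mul_assoc _ U, ← hw, Units.mul_inv, mul_one]
    _ = tau M f (↑w⁻¹ * (single z 1 * E * U)) := by
        rw [tau_mul_comm hf (single z 1 * E * U)]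
    _ = tau M f (↑w⁻¹ * U * (single z 1 * E')) := by
        rw [mul_assoc (single z 1), hEU, ← mul_assoc (single z 1), hzU.eq]
        simp only [mul_assoc]
    _ = tau M f (single z 1 * E') := by rw [← hw, Units.inv_mul, one_mul]

include hf in
theorem T_eq {z : G} {j : GA (Res M) G} {E : MonoidAlgebra (localRing M) G} (hE : E * E = E)
    (h : Above M z E j) : T M f z j = tau M f (single z 1 * E) := by
  have hex : ∃ E, E * E = E ∧ Above M z E j := ⟨E, hE, h⟩
  rw [T, dif_pos hex]
  exact tau_eq_of_rho_eq hf hex.choose_spec.1 hE hex.choose_spec.2.1 h.1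
    (hex.choose_spec.2.2.trans h.2.symm)

include hf in
theorem T_zero (z : G) : T M f z (0 : GA (Res M) G) = 0 := by
  rw [T_eq hf (E := 0) (mul_zero 0) ⟨Commute.zero_right _, map_zero _⟩, mul_zero, map_zero]

include hf in
theorem T_add {z : G} {a b : GA (Res M) G} (ha : a * a = a) (hb : b * b = b) (hab : a * b = 0)
    (hba : b * a = 0) (hza : conjA (Res M) z a = a) (hzb : conjA (Res M) z b = b) :
    T M f z (a + b) = T M f z a + T M f z b := by
  obtain ⟨E, hE, hEz⟩ := exists_lift (M := M) (a + b)
    (by rw [mul_add, add_mul, add_mul, ha, hb, hab, hba, zero_add, add_zero])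
  obtain ⟨hzE, hrE⟩ := hEz z (by rw [conjA_add, hza, hzb])
  obtain ⟨A, hA⟩ := exists_above (M := M) a
  obtain ⟨hzA, hrA⟩ := hA z hza
  set A' := E * A * E with hA'
  have hrA' : rho M G A' = a := by
    rw [hA', map_mul, map_mul, hrE, hrA, add_mul, ha, hba, add_zero, mul_add, ha, hab, add_zero]
  have hEA : Commute E A' := by
    show E * (E * A * E) = E * A * E * E
    rw [← mul_assoc, ← mul_assoc, hE, mul_assoc (E * A) E E, hE]
  obtain ⟨P, hP, hP2⟩ := exists_idem_lift A' (by rw [hrA', ha])
  set E₁ := E * Polynomial.aeval A' P with hE1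
  have hc : Commute E (Polynomial.aeval A' P) := commute_aeval hEA P
  have hzP : Commute (single z 1) (Polynomial.aeval A' P) :=
    commute_aeval ((hzE.mul_right hzA).mul_right hzE) P
  have hE11 : E₁ * E₁ = E₁ := by rw [hE1, hc.symm.mul_mul_mul_comm, hE, hP]
  have hEE1 : E * E₁ = E₁ := by rw [hE1, ← mul_assoc, hE]
  have hE1E : E₁ * E = E₁ := by rw [hE1, mul_assoc, ← hc.eq, ← mul_assoc, hE]
  have hr1 : rho M G E₁ = a := by
    rw [hE1, map_mul, hrE, hP2, hrA', add_mul, ha, hba, add_zero]
  have h2 : (E - E₁) * (E - E₁) = E - E₁ := by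
    rw [mul_sub, sub_mul, sub_mul, hE, hEE1, hE1E, hE11]
    abel
  rw [T_eq hf hE ⟨hzE, hrE⟩, T_eq hf hE11 ⟨hzE.mul_right hzP, hr1⟩,
    T_eq hf h2 ⟨hzE.sub_right (hzE.mul_right hzP), by rw [map_sub, hrE, hr1, add_sub_cancel_left]⟩,
    ← map_add, ← mul_add, add_sub_cancel]

include hf in
theorem T_sum {ι : Type*} (z : G) (s : Finset ι) (a : ι → GA (Res M) G)
    (hi : ∀ i ∈ s, a i * a i = a i) (ho : ∀ i ∈ s, ∀ j ∈ s, i ≠ j → a i * a j = 0)
    (hz : ∀ i ∈ s, conjA (Res M) z (a i) = a i) :
    T M f z (∑ i ∈ s, a i) = ∑ i ∈ s, T M f z (a i) := by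
  classical
  induction s using Finset.induction_on with
  | empty => simp [T_zero hf]
  | insert i s his ih =>
    have ih' := ih (fun j hj => hi j (Finset.mem_insert_of_mem hj))
      (fun j hj l hl => ho j (Finset.mem_insert_of_mem hj) l (Finset.mem_insert_of_mem hl))
      (fun j hj => hz j (Finset.mem_insert_of_mem hj))
    have h0 : ∀ j ∈ s, a i * a j = 0 ∧ a j * a i = 0 := fun j hj =>
      have hne : i ≠ j := fun h => his (h ▸ hj)
      ⟨ho i (Finset.mem_insert_self _ _) j (Finset.mem_insert_of_mem hj) hne,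
        ho j (Finset.mem_insert_of_mem hj) i (Finset.mem_insert_self _ _) hne.symm⟩
    rw [Finset.sum_insert his, Finset.sum_insert his, T_add hf (hi i (Finset.mem_insert_self _ _)),
      ih']
    · rw [Finset.mul_sum]
      refine Finset.sum_congr rfl fun j hj => ?_
      rw [Finset.sum_mul, Finset.sum_eq_single j (fun l hl hlj =>
        ho l (Finset.mem_insert_of_mem hl) j (Finset.mem_insert_of_mem hj) hlj)
        (fun h => absurd hj h), hi j (Finset.mem_insert_of_mem hj)]
    · rw [Finset.mul_sum]
      exact Finset.sum_eq_zero fun j hj => (h0 j hj).1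
    · rw [Finset.sum_mul]
      exact Finset.sum_eq_zero fun j hj => (h0 j hj).2
    · exact hz i (Finset.mem_insert_self _ _)
    · rw [conjA_sum]
      exact Finset.sum_congr rfl fun j hj => hz j (Finset.mem_insert_of_mem hj)

include hf in
/-- Invariance under equivalence. -/
theorem T_equiv {z : G} {x y i i' : GA (Res M) G} (hi : i * i = i) (hi' : i' * i' = i')
    (hxy : x * y = i) (hyx : y * x = i') (hzx : conjA (Res M) z x = x)
    (hzy : conjA (Res M) z y = y) : T M f z i = T M f z i' := by
  have hzi : conjA (Res M) z i = i := by rw [← hxy, conjA_mul, hzx, hzy]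
  have hzi' : conjA (Res M) z i' = i' := by rw [← hyx, conjA_mul, hzx, hzy]
  obtain ⟨E, hE, hEz⟩ := exists_lift (M := M) i hi
  obtain ⟨hzE, hrE⟩ := hEz z hzi
  obtain ⟨E', hE', hEz'⟩ := exists_lift (M := M) i' hi'
  obtain ⟨hzE', hrE'⟩ := hEz' z hzi'
  obtain ⟨X0, hX0⟩ := exists_above (M := M) x
  obtain ⟨hzX0, hrX0⟩ := hX0 z hzx
  obtain ⟨Y0, hY0⟩ := exists_above (M := M) y
  obtain ⟨hzY0, hrY0⟩ := hY0 z hzy
  set X := E * X0 * E' with hX
  set Y := E' * Y0 * E with hY
  have hEX : E * X = X := by rw [hX, ← mul_assoc, ← mul_assoc, hE]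
  have hYE : Y * E = Y := by rw [hY, mul_assoc, hE]
  have hzX : Commute (single z 1) X := (hzE.mul_right hzX0).mul_right hzE'
  have hzY : Commute (single z 1) Y := (hzE'.mul_right hzY0).mul_right hzE
  have hrXY : rho M G (X * Y) = i := by
    simp only [hX, hY, map_mul, hrE, hrE', hrX0, hrY0]
    calc i * x * i' * (i' * y * i) = i * x * (i' * i') * y * i := by simp only [mul_assoc]
      _ = i * (x * y) * (x * y) * i := by rw [hi', ← hyx]; simp only [mul_assoc]
      _ = i := by rw [hxy, hi, hi, hi]
  obtain ⟨w, hw⟩ : IsUnit (X * Y + (1 - E)) := by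
    have h0 : rho M G (X * Y + (1 - E) - 1) = 0 := by
      rw [map_sub, map_add, hrXY, map_sub, map_one, hrE]; abel
    have h := isUnit_one_add h0
    rwa [add_sub_cancel] at h
  have hXYE : X * Y * E = X * Y := by rw [mul_assoc, hYE]
  have hEXY : E * (X * Y) = X * Y := by rw [← mul_assoc, hEX]
  have hUE : (X * Y + (1 - E)) * E = X * Y := by
    rw [add_mul, hXYE, sub_mul, one_mul, hE, sub_self, add_zero]
  have hEU : E * (X * Y + (1 - E)) = X * Y := by
    rw [mul_add, hEXY, mul_sub, mul_one, hE, sub_self, add_zero]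
  have hXYw : X * Y * ↑w⁻¹ = E := by rw [← hEU, ← hw, mul_assoc, Units.mul_inv, mul_one]
  have hzw : Commute (single z 1) (↑w⁻¹ : MonoidAlgebra (localRing M) G) := by
    refine Commute.units_inv_right ?_
    rw [hw]
    exact (hzX.mul_right hzY).add_right ((Commute.one_right _).sub_right hzE)
  have hrw : rho M G ↑w⁻¹ = 1 := by
    have h1 := congrArg (rho M G) w.inv_mul
    rwa [map_mul, map_one, hw, map_add, hrXY, map_sub, map_one, hrE, add_sub_cancel, mul_one] at h1
  have hidem : Y * ↑w⁻¹ * X * (Y * ↑w⁻¹ * X) = Y * ↑w⁻¹ * X := by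
    calc Y * ↑w⁻¹ * X * (Y * ↑w⁻¹ * X) = Y * ↑w⁻¹ * ((X * Y * ↑w⁻¹) * X) := by
          simp only [mul_assoc]
      _ = _ := by rw [hXYw, hEX]
  have hr' : rho M G (Y * ↑w⁻¹ * X) = i' := by
    simp only [hX, hY, map_mul, hrE, hrE', hrX0, hrY0, hrw, mul_one]
    calc i' * y * i * (i * x * i') = i' * y * (i * i) * x * i' := by simp only [mul_assoc]
      _ = i' * (y * x) * (y * x) * i' := by rw [hi, ← hxy]; simp only [mul_assoc]
      _ = i' := by rw [hyx, hi', hi', hi']
  rw [T_eq hf hE ⟨hzE, hrE⟩, T_eq hf hidem ⟨(hzY.mul_right hzw).mul_right hzX, hr'⟩]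
  calc tau M f (single z 1 * E) = tau M f (single z 1 * X * (Y * ↑w⁻¹)) := by
        rw [← hXYw]; simp only [mul_assoc]
    _ = tau M f (Y * ↑w⁻¹ * (single z 1 * X)) := by
        rw [tau_mul_comm hf (single z 1 * X)]
    _ = tau M f (single z 1 * (Y * ↑w⁻¹ * X)) := by
        rw [← mul_assoc, ← (hzY.mul_right hzw).eq, mul_assoc]

include hf in
/-- Invariance under conjugation. -/
theorem T_conj {z t : G} {j : GA (Res M) G} (hj : j * j = j) (hz : conjA (Res M) z j = j) :
    T M f (t * z * t⁻¹) (conjA (Res M) t j) = T M f z j := by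
  obtain ⟨E, hE, hEz⟩ := exists_lift (M := M) j hj
  obtain ⟨hzE, hrE⟩ := hEz z hz
  set a : MonoidAlgebra (localRing M) G := single t 1
  set b : MonoidAlgebra (localRing M) G := single t⁻¹ 1
  have hba : b * a = 1 := by simp [a, b, MonoidAlgebra.one_def]
  have hab : a * b = 1 := by simp [a, b, MonoidAlgebra.one_def]
  have hzc : single (t * z * t⁻¹) (1 : localRing M) = a * single z 1 * b := by simp [a, b]
  have hmul : ∀ u v : MonoidAlgebra (localRing M) G, a * u * b * (a * v * b) = a * (u * v) * b := by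
    intro u v
    calc a * u * b * (a * v * b) = a * u * (b * a) * v * b := by simp only [mul_assoc]
      _ = _ := by rw [hba, mul_one]; simp only [mul_assoc]
  have hE2 : a * E * b * (a * E * b) = a * E * b := by rw [hmul, hE]
  have hab' : Above M (t * z * t⁻¹) (a * E * b) (conjA (Res M) t j) := by
    refine ⟨?_, by rw [map_mul, map_mul, hrE]; simp [a, b, rho, BlockPairs.conjA]⟩
    show _ = _
    rw [hzc, hmul, hmul, hzE.eq]
  rw [T_eq hf hE2 hab', T_eq hf hE ⟨hzE, hrE⟩, hzc, hmul, tau_mul_comm hf, ← mul_assoc, hba,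
    one_mul]

variable {p : ℕ} [hp : Fact p.Prime] (hM : Cfsg.IsPModular p M)

include hf hM in
/-- An idempotent killed by the Brauer map at the p-part of `z` has trace zero at `z`. -/
theorem T_eq_zero_of_br {z u : G} (hu : Cfsg.IsPPart p z u) {j : GA (Res M) G} (hj : j * j = j)
    (hz : conjA (Res M) z j = j) (h0 : br (Subgroup.zpowers u) j = 0) : T M f z j = 0 := by
  obtain ⟨E, hE, hEz⟩ := exists_lift (M := M) j hj
  obtain ⟨hzE, hrE⟩ := hEz z hz
  obtain ⟨y, rfl, hc, ⟨k, hk⟩, hy⟩ := hu
  rw [T_eq hf hE ⟨hzE, hrE⟩, tau_single_mul]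
  refine CfsgLib.BlocksLocal.sum_coeff_mul_eq_zero_second_main hM hk hy hc E hE hzE
    (fun g hg => ?_) f hf
  have hmem : g ∈ Subgroup.centralizer (Subgroup.zpowers u : Set G) :=
    Subgroup.mem_centralizer_iff.2 fun v ⟨i, hi⟩ => hi ▸ (hg.symm.zpow_left i).eq
  rw [← CfsgLib.Blocks.red_eq_zero_iff, ← rho_coeff, hrE]
  have := congrArg (fun a : GA (Res M) G => a.coeff g) h0
  simpa [br_coeff_mem _ _ hmem] using this

omit [Fintype G] in
theorem br_pow {P : Subgroup G} {k : Type*} [Field k] [CharP k p] (hP : IsPGroup p P) {a : GA k G}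
    (ha : IsFixed P a) (n : ℕ) : br P (a ^ n) = br P a ^ n := by
  induction n with
  | zero => simp [br_one]
  | succ n ih =>
    rw [pow_succ, pow_succ, br_mul hP ?_ ha, ih]
    exact isFixed_iff_le_fixer.2 fun g hg => by
      rw [mem_fixer, ← conjA_pow', ha g hg]

include hf hM in
/-- The trace depends only on the image under the Brauer map at the p-part. -/
theorem T_eq_of_br_eq {z u : G} (hu : Cfsg.IsPPart p z u) {j j' : GA (Res M) G} (hj : j * j = j)
    (hj' : j' * j' = j') (hz : conjA (Res M) z j = j) (hz' : conjA (Res M) z j' = j')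
    (h : br (Subgroup.zpowers u) j = br (Subgroup.zpowers u) j') : T M f z j = T M f z j' := by
  haveI := CfsgLib.Blocks.charP_res hM
  set P := Subgroup.zpowers u with hPdef
  have hP : IsPGroup p P := by
    obtain ⟨y, -, -, ⟨k, hk⟩, -⟩ := hu
    exact IsPGroup.of_card (n := k) (by rw [Nat.card_zpowers, hk])
  have hPz : P ≤ Subgroup.zpowers z :=
    Subgroup.zpowers_le.2 (CfsgLib.Blocks.isPPart_mem_zpowers hp.out hu)
  set S := sub (F := Res M) (⊤ : Subgroup G) (Subgroup.zpowers z) with hS
  have hfix : ∀ {a}, a ∈ S → IsFixed P a := fun ha => ha.2.mono hPz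
  have hjS : j ∈ S := mem_sub_zpowers.2 hz
  have hjS' : j' ∈ S := mem_sub_zpowers.2 hz'
  set x := j * j' with hx
  set y := j' * j with hy
  have hxS : x ∈ S := mul_mem hjS hjS'
  have hyS : y ∈ S := mul_mem hjS' hjS
  set c := x * y with hc
  have hcS : c ∈ S := mul_mem hxS hyS
  obtain ⟨n, hn0, P₀, hP₀⟩ := exists_stable (k := Res M) c
  set d := Polynomial.aeval c P₀
  have hdS : d ∈ S := (Algebra.adjoin_le (Set.singleton_subset_iff.2 hcS))
    (Polynomial.aeval_mem_adjoin_singleton _ c)
  have hcd : Commute c d := commute_aeval (Commute.refl c) P₀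
  have hstab : ∀ i, c ^ n = c ^ n * (c * d) ^ i := by
    intro i
    induction i with
    | zero => simp
    | succ i ih => rw [pow_succ', ← mul_assoc, ← hP₀, ← ih]
  set e := (c * d) ^ n with he
  have hce : c ^ n * e = c ^ n := (hstab n).symm
  have heS : e ∈ S := pow_mem (mul_mem hcS hdS) n
  have hee : e * e = e := by
    conv_lhs => arg 1; rw [he, hcd.mul_pow, (hcd.pow_pow n n).eq]
    rw [mul_assoc, hce, ← (hcd.pow_pow n n).eq, ← hcd.mul_pow, ← he]
  have hjc : j * c = c := by simp only [hc, hx, ← mul_assoc, hj]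
  have hcj : c * j = c := by simp only [hc, hy, mul_assoc, hj]
  have hje : j * e = e := by
    rw [he, hcd.mul_pow, ← mul_assoc]
    congr 1
    obtain ⟨m, rfl⟩ := Nat.exists_eq_succ_of_ne_zero hn0.ne'
    rw [pow_succ', ← mul_assoc, hjc]
  have hej : e * j = e := by
    rw [he, hcd.mul_pow, (hcd.pow_pow n n).eq, mul_assoc]
    congr 1
    obtain ⟨m, rfl⟩ := Nat.exists_eq_succ_of_ne_zero hn0.ne'
    rw [pow_succ, mul_assoc, hcj]
  have hbr : br P j * br P j = br P j := br_idem hP (hfix hjS) hj
  have hbx : br P x = br P j := by rw [hx, br_mul hP (hfix hjS) (hfix hjS'), ← h, hbr]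
  have hby : br P y = br P j := by rw [hy, br_mul hP (hfix hjS') (hfix hjS), ← h, hbr]
  have hbc : br P c = br P j := by rw [hc, br_mul hP (hfix hxS) (hfix hyS), hbx, hby, hbr]
  have hbcn : br P (c ^ n) = br P j := by
    rw [br_pow hP (hfix hcS), hbc, IsIdempotentElem.pow_eq hbr hn0.ne']
  have hbe : br P e = br P j := by
    have h1 := congrArg (br P) hce
    rw [br_mul hP (hfix (pow_mem hcS n)) (hfix heS), hbcn,
      ← br_mul hP (hfix hjS) (hfix heS), hje] at h1
    exact h1
  set x' := e * x with hx'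
  set y' := y * (d * e) with hy'
  have hdeS : d * e ∈ S := mul_mem hdS heS
  have hy'S : y' ∈ S := mul_mem hyS hdeS
  have hx'S : x' ∈ S := mul_mem heS hxS
  have hecd : c * d * e = e := by
    have hc' : Commute (d ^ n) (c * d) :=
      (hcd.pow_right n).symm.mul_right (Commute.pow_left (Commute.refl d) n)
    rw [he, ← pow_succ', pow_succ, hcd.mul_pow, mul_assoc, hc'.eq, ← mul_assoc, ← hP₀]
  have hxy' : x' * y' = e := by
    calc x' * y' = e * (x * y) * (d * e) := by simp only [hx', hy', mul_assoc]
      _ = e * (c * d * e) := by simp only [hc, mul_assoc]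
      _ = e := by rw [hecd, hee]
  set e' := y' * x' with he'
  have he'e' : e' * e' = e' := by
    calc y' * x' * (y' * x') = y' * ((x' * y') * x') := by simp only [mul_assoc]
      _ = y' * x' := by rw [hxy', hx', ← mul_assoc e e, hee]
  have hj'e' : j' * e' = e' := by
    simp only [he', hy', hy, ← mul_assoc, hj']
  have he'j' : e' * j' = e' := by
    simp only [he', hx', hx, mul_assoc, hj']
  have he'S : e' ∈ S := mul_mem hy'S hx'S
  have hbde : br P (d * e) * br P j = br P j := by
    have h1 := congrArg (br P) hecd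
    rw [mul_assoc, br_mul hP (hfix hcS) (hfix hdeS), hbc, hbe] at h1
    have hjde : Commute (br P j) (br P (d * e)) := by
      rw [← hbc]
      show br P c * br P (d * e) = br P (d * e) * br P c
      rw [← br_mul hP (hfix hcS) (hfix hdeS), ← br_mul hP (hfix hdeS) (hfix hcS)]
      congr 1
      exact (hcd.mul_right (show Commute c e from (((Commute.refl c).mul_right hcd).pow_right n))).eq
    rw [← hjde.eq, h1]
  have hbe' : br P e' = br P j := by
    rw [he', br_mul hP (hfix hy'S) (hfix hx'S), hy', br_mul hP (hfix hyS) (hfix hdeS), hby, hx',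
      br_mul hP (hfix heS) (hfix hxS), hbe, hbx, hbr, mul_assoc, hbde, hbr]
  have hsub : ∀ {a b : GA (Res M) G}, a * a = a → b * b = b → a * b = b → b * a = b → a ∈ S →
      b ∈ S → br P b = br P a → T M f z a = T M f z b := by
    intro a b haa hbb hab hba haS hbS hbab
    have hd : (a - b) * (a - b) = a - b := by
      rw [mul_sub, sub_mul, sub_mul, haa, hbb, hab, hba]; abel
    have hzd : conjA (Res M) z (a - b) = a - b := mem_sub_zpowers.1 (sub_mem haS hbS)
    have hadd := T_add hf (M := M) (z := z) hbb hd (by rw [mul_sub, hba, hbb, sub_self])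
      (by rw [sub_mul, hab, hbb, sub_self]) (mem_sub_zpowers.1 hbS) hzd
    rw [add_sub_cancel, T_eq_zero_of_br hf hM hu hd hzd (by rw [br_sub, hbab, sub_self]),
      add_zero] at hadd
    exact hadd
  calc T M f z j = T M f z e := hsub hj hee hje hej hjS heS hbe
    _ = T M f z e' := T_equiv hf hee he'e' hxy' rfl (mem_sub_zpowers.1 hx'S)
        (mem_sub_zpowers.1 hy'S)
    _ = T M f z j' := (hsub hj' he'e' hj'e' he'j' hjS' he'S (hbe'.trans h)).symm

end CfsgLib.Star
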