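import Cfsg.Agent.Star.Split
import Cfsg.Agent.Star.Decomp
import Cfsg.Agent.Star.Trace
import Cfsg.Agent.BlockPairs.Fusion
import Cfsg.Agent.Blocks.GroupAlgebra

/-!
# Primitive idempotents fixed by a nilpotent subgroup

Let `j` be primitive among the elements fixed by `E = Q × S`.  If the Brauer map at `Q` does not
kill `j` then its image lies in one block `g` of `C(Q)`, and for every `R ≤ Q` its image at `R`
lies in the block below `(Q, g)` (`br_mul_eq_of_le`, Alperin–Broué).  Otherwise `j` is a relative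
trace from a maximal subgroup (`exists_relTrace`).
-/

set_option autoImplicit false
set_option linter.unusedSectionVars false
set_option linter.style.haveILetI false

namespace CfsgLib.Star

open CfsgLib.BlockPairs

variable {k : Type*} [Field k] {G : Type*} [Group G]

/-- Conjugation as an algebra automorphism. -/
noncomputable def conjEquiv (t : G) : GA k G ≃ₐ[k] GA k G where
  toFun := conjA k t
  invFun := conjA k t⁻¹
  left_inv := conjA_inv t
  right_inv := conjA_inv' t
  map_mul' := conjA_mul t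
  map_add' := conjA_add t
  commutes' c := by
    rw [Algebra.algebraMap_eq_smul_one, conjA_smul, conjA_one]

@[simp] theorem conjEquiv_apply (t : G) (a : GA k G) : conjEquiv t a = conjA k t a := rfl

theorem conjA_mem_sub_iff {N : Subgroup G} {t : G}
    (ht : t ∈ Subgroup.normalizer (N : Set G)) {a : GA k G} :
    conjA k t a ∈ sub ⊤ N ↔ a ∈ sub ⊤ N := by
  have key : ∀ {t : G}, t ∈ Subgroup.normalizer (N : Set G) → ∀ {a : GA k G}, a ∈ sub ⊤ N →
      conjA k t a ∈ sub ⊤ N := fun {t} ht {a} ha => ⟨isSupp_top _, by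
    have := ha.2.conjA t
    rwa [cj_eq_self ht] at this⟩
  refine ⟨fun h => ?_, key ht⟩
  have := key (inv_mem ht) h
  rwa [conjA_inv] at this

variable [Finite G] {p : ℕ} [hp : Fact p.Prime] [CharP k p]

theorem isNilpotent_br {P : Subgroup G} (hP : IsPGroup p P) {a : GA k G} (ha : IsFixed P a)
    (h : IsNilpotent a) : IsNilpotent (br P a) := by
  obtain ⟨n, hn⟩ := h
  exact ⟨n, by rw [← br_pow hP ha, hn, br_zero]⟩

theorem eq_zero_of_idem_nilpotent {a : GA k G} (h : a * a = a) (hn : IsNilpotent a) : a = 0 := by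
  obtain ⟨n, hn⟩ := hn
  rcases n with _ | n
  · rw [pow_zero] at hn
    rw [← mul_one a, hn, mul_zero]
  · rwa [IsIdempotentElem.pow_succ_eq n h] at hn

variable [IsAlgClosed k] {E Q S : Subgroup G}

/-- The image at `Q` of a primitive idempotent lies in one block of the centralizer. -/
theorem exists_pair_of_br_ne_zero (h : Split p E Q S) {j : GA k G}
    (hj : Prim (sub (⊤ : Subgroup G) E) j) (hne : br Q j ≠ 0) :
    ∃ g, IsPair p ⊤ Q g ∧ IsFixed E g ∧ br Q j * g = br Q j := by
  classical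
  have hbr : br Q j * br Q j = br Q j :=
    br_idem h.isP (hj.1.2.mono h.hQE) hj.2.1
  have hsum : br Q j * ∑ g ∈ blocks k (cent ⊤ Q), g = br Q j := by
    rw [sum_blocks_eq_one, mul_one]
  rw [Finset.mul_sum] at hsum
  obtain ⟨g, hg, hgne⟩ := Finset.exists_ne_zero_of_sum_ne_zero (hsum.trans_ne hne)
  have hgb := mem_blocks.1 hg
  have hgQ : IsFixed Q g := fun q hq => by
    refine ga_ext fun x => ?_
    rw [conjA_coeff]
    by_cases hx : g.coeff x = 0
    · rw [hx]
      by_contra hne'
      have h2 := (hgb.supp _ hne').2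
      have : q * (q⁻¹ * x * q) * q⁻¹ = q⁻¹ * x * q := by
        rw [Subgroup.mem_centralizer_iff.1 h2 q hq, mul_inv_cancel_right]
      exact hne' (by rw [← this]; simpa [mul_assoc] using hx)
    · have h2 := (hgb.supp _ hx).2
      rw [mul_assoc, ← Subgroup.mem_centralizer_iff.1 h2 q hq, inv_mul_cancel_left]
  have hgE : IsFixed E g := fun e he => by
    obtain ⟨q, hq, s, hs, rfl⟩ := h.gen e he
    rw [← conjA_conjA, hgb.fixed s ⟨trivial, h.le_centralizer hs⟩, hgQ q hq]
  refine ⟨g, ⟨le_top, h.isP, hgb⟩, hgE, ?_⟩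
  have hgA : g ∈ sub (⊤ : Subgroup G) E := ⟨isSupp_top g, hgE⟩
  have hx : InCorner (sub (⊤ : Subgroup G) E) j j (j * g * j) :=
    InCorner.mk' hj.2.1 hj.2.1 hj.1 hj.1 hgA
  have hbrg : br Q g = g := br_eq_self (hgb.supp.mono inf_le_right)
  have hcomm : br Q j * g = g * br Q j :=
    (mul_comm_of_fixed_supp (P := cent ⊤ Q) hgb.fixed
      ((isSupp_br Q j).mono (le_inf le_top le_rfl))).symm
  have hbx : br Q (j * g * j) = br Q j * g := by
    rw [br_mul h.isP ((mul_mem hj.1 hgA).2.mono h.hQE) (hj.1.2.mono h.hQE),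
      br_mul h.isP (hj.1.2.mono h.hQE) (hgE.mono h.hQE), hbrg, mul_assoc, ← hcomm, ← mul_assoc, hbr]
  have hn := isNilpotent_br h.isP (((hx.sub (hj.inCorner.smul _)).1).2.mono h.hQE) (hj.res_spec hx)
  rw [br_sub, br_smul, hbx] at hn
  set a := br Q j * g
  set c := res k j (j * g * j)
  have haa : a * a = a := by
    show br Q j * g * (br Q j * g) = br Q j * g
    rw [mul_assoc, ← mul_assoc g, ← hcomm, mul_assoc, hgb.idem, ← mul_assoc, hbr]
  have hja : br Q j * a = a := by rw [← mul_assoc, hbr]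
  have haj : a * br Q j = a := by rw [mul_assoc, ← hcomm, ← mul_assoc, hbr]
  by_cases hc : c = 0
  · rw [hc, zero_smul, sub_zero] at hn
    exact absurd (eq_zero_of_idem_nilpotent haa hn) hgne
  · -- the complementary idempotent is nilpotent
    have hca : Commute (br Q j - a) (a - c • br Q j) := by
      have h1 : Commute (br Q j) a := by show _ = _; rw [hja, haj]
      exact (h1.sub_right ((Commute.refl _).smul_right c)).sub_left
        ((Commute.refl a).sub_right (h1.symm.smul_right c))
    have hd : (br Q j - a) * (br Q j - a) = br Q j - a := by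
      rw [mul_sub, sub_mul, sub_mul, hbr, hja, haj, haa]; abel
    have h1 := hca.isNilpotent_mul_left hn
    rw [sub_mul, mul_sub, mul_sub, mul_smul_comm, mul_smul_comm, hbr, hja, haj, haa,
      show a - c • br Q j - (a - c • a) = (-c) • (br Q j - a) by
        rw [smul_sub, neg_smul, neg_smul]; abel] at h1
    have h2 := h1.smul (-c)⁻¹
    rw [inv_smul_smul₀ (neg_ne_zero.2 hc)] at h2
    exact (sub_eq_zero.1 (eq_zero_of_idem_nilpotent hd h2)).symm

/-- Alperin and Broué: the images at the subgroups of `Q` lie in the blocks below. -/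
theorem br_mul_eq_of_le (h : Split p E Q S) {j : GA k G}
    (hj : Prim (sub (⊤ : Subgroup G) E) j) {g : GA k G} (hg : IsPair p ⊤ Q g) (hgE : IsFixed E g)
    (hjg : br Q j * g = br Q j) (hne : br Q j ≠ 0) {R : Subgroup G} {e : GA k G} (hR : R ≤ Q)
    (hle : Le p ⊤ R e Q g) : br R j * e = br R j := by
  classical
  induction hd : Nat.card Q - Nat.card R using Nat.strong_induction_on generalizing R e with
  | _ d ih =>
    rcases eq_or_lt_of_le hR with rfl | hlt
    · rw [le_unique hle Le.refl', hjg]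
    have hRp : IsPGroup p R := h.isP.to_le hR
    have heb := (le_pair hg hle).2.2
    set T := E ⊓ Subgroup.normalizer (R : Set G) with hT
    have hefix : IsFixed T e := fun t ht => by
      have := hle.conjA (x := t) trivial
      rw [cj_eq_self ht.2, cj_eq_self (h.le_normalizer ht.1), hgE t ht.1] at this
      exact le_unique this hle
    have hjfix : IsFixed T (br R j) := isFixed_br inf_le_right (hj.1.2.mono inf_le_left)
    have hjR : IsFixed R j := hj.1.2.mono (hR.trans h.hQE)
    have hcomm : br R j * e = e * br R j :=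
      (mul_comm_of_fixed_supp (P := cent ⊤ R) heb.fixed
        ((isSupp_br R j).mono (le_inf le_top le_rfl))).symm
    have hbrj : br R j * br R j = br R j := br_idem hRp hjR hj.2.1
    set x := br R j - br R j * e with hx
    have hxx : x * x = x := by
      have h2 : br R j * e * br R j = br R j * e := by
        rw [mul_assoc, ← hcomm, ← mul_assoc, hbrj]
      simp only [hx, mul_sub, sub_mul]
      rw [hbrj, ← mul_assoc, hbrj, h2, ← mul_assoc (br R j * e), h2, mul_assoc, heb.idem]
      abel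
    have hxT : IsFixed T x := fun t ht => by
      rw [hx, conjA_sub, conjA_mul, hjfix t ht, hefix t ht]
    have hxC : IsSupp (Subgroup.centralizer (R : Set G)) x := fun u hu => by
      by_contra hnot
      apply hu
      have h3 : IsSupp (Subgroup.centralizer (R : Set G)) (br R j * e) :=
        isSupp_mul (isSupp_br R j) (heb.supp.mono inf_le_right)
      rw [hx, MonoidAlgebra.coeff_sub, Finsupp.sub_apply, br_coeff_not_mem R _ hnot,
        h3.coeff_eq_zero hnot, sub_zero]
    -- the p-part of the stabilizer of a point of the support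
    have hstab : ∀ u, x.coeff u ≠ 0 → Q ⊓ Subgroup.centralizer ({u} : Set G) = R := by
      intro u hu
      set W := Q ⊓ Subgroup.centralizer ({u} : Set G) with hW
      have hRW : R ≤ W := le_inf hR fun r hr => Subgroup.mem_centralizer_singleton_iff.2
        (Subgroup.mem_centralizer_iff.1 (hxC u hu) r hr)
      refine (eq_of_le_of_not_lt hRW fun hltW => hu ?_).symm
      set T' := Subgroup.normalizer (R : Set G) ⊓ W
      have hRT' : R < T' := lt_normalizer_inf (h.isP.to_le inf_le_left) hltW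
      have hT'Q : T' ≤ Q := inf_le_right.trans inf_le_left
      obtain ⟨g', hs, hl⟩ := step_of_le hle hg hRT'.le hT'Q inf_le_left
      have hT'p : IsPGroup p T' := h.isP.to_le hT'Q
      have hT'T : T' ≤ T := le_inf (hT'Q.trans h.hQE) inf_le_left
      have hcard : Nat.card Q - Nat.card T' < d := by
        have h1 : Nat.card R < Nat.card T' := by
          refine lt_of_le_of_ne (Subgroup.card_le_of_le hRT'.le) fun hc => hRT'.ne ?_
          exact Subgroup.eq_of_le_of_card_ge hRT'.le hc.ge
        have h2 : Nat.card T' ≤ Nat.card Q := Subgroup.card_le_of_le hT'Q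
        omega
      have hIH := ih _ hcard hT'Q hl rfl
      have hbrT : br T' (br R j * e) = br T' j := by
        rw [br_mul hT'p (hjfix.mono hT'T) (hefix.mono hT'T), br_br_of_le hRT'.le, ← hIH, mul_assoc]
        congr 1
        have h6 : br T' e * g' = g' := hs.2.2.2.2.2
        rw [mul_comm_of_fixed_supp (P := cent ⊤ T') hs.2.1.2.2.fixed
          ((isSupp_br T' e).mono (le_inf le_top le_rfl)), h6]
      have hbx : br T' x = 0 := by rw [hx, br_sub, br_br_of_le hRT'.le, hbrT, sub_self]
      have humem : u ∈ Subgroup.centralizer (T' : Set G) := Subgroup.mem_centralizer_iff.2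
        fun w hw => Subgroup.mem_centralizer_singleton_iff.1 hw.2.2
      have := congrArg (fun a : GA k G => a.coeff u) hbx
      simpa [br_coeff_mem _ _ humem] using this
    -- spread `x` along the orbits of `E`
    let P₀ : G → Prop := fun v => ∃ u, ∃ a ∈ E, x.coeff u ≠ 0 ∧ v = a * u * a⁻¹
    have hwd : ∀ {u u' a : G}, a ∈ E → x.coeff u ≠ 0 → x.coeff u' ≠ 0 → u' = a * u * a⁻¹ →
        x.coeff u' = x.coeff u := by
      intro u u' a ha hu hu' he
      have haN : a ∈ Subgroup.normalizer (R : Set G) := by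
        refine mem_normalizer_of_cj_eq ?_
        conv_rhs => rw [← hstab u' hu']
        rw [← hstab u hu]
        ext w
        rw [mem_cj]
        simp only [Subgroup.mem_inf, Subgroup.mem_centralizer_singleton_iff]
        refine and_congr ?_ ?_
        · have := Subgroup.mem_normalizer_iff.1 (h.le_normalizer ha)
          constructor
          · intro h1
            simpa [mul_assoc] using (this _).1 h1
          · intro h1
            exact (this _).2 (by simpa [mul_assoc] using h1)
        · subst he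
          constructor
          · intro h1
            calc w * (a * u * a⁻¹) = a * (a⁻¹ * w * a * u) * a⁻¹ := by group
              _ = _ := by rw [h1]; group
          · intro h1
            calc a⁻¹ * w * a * u = a⁻¹ * (w * (a * u * a⁻¹)) * a := by group
              _ = _ := by rw [h1]; group
      rw [he]
      exact hxT.coeff' ⟨ha, haN⟩ u
    let zf : G → k := fun v => if hv : P₀ v then x.coeff hv.choose else 0
    have hzf : ∀ {v u a : G}, a ∈ E → x.coeff u ≠ 0 → v = a * u * a⁻¹ → zf v = x.coeff u := by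
      intro v u a ha hu he
      have hv : P₀ v := ⟨u, a, ha, hu, he⟩
      obtain ⟨b, hb, hu', hb'⟩ := hv.choose_spec
      simp only [zf, dif_pos hv]
      refine hwd (mul_mem (inv_mem hb) ha) hu hu' ?_
      calc hv.choose = b⁻¹ * (b * hv.choose * b⁻¹) * b := by group
        _ = b⁻¹ * v * b := by rw [← hb']
        _ = _ := by rw [he]; group
    let z : GA k G := CfsgLib.Blocks.ofFun zf
    have hzc : ∀ v, z.coeff v = zf v := fun v => CfsgLib.Blocks.coeff_ofFun zf v
    have hzE : IsFixed E z := fun a ha => ga_ext fun v => by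
      rw [conjA_coeff, hzc, hzc]
      by_cases hv : P₀ v
      · obtain ⟨u, b, hb, hu, rfl⟩ := hv
        rw [hzf hb hu rfl, hzf (mul_mem (inv_mem ha) hb) hu (by group)]
      · have hv' : ¬ P₀ (a⁻¹ * v * a) := fun ⟨u, b, hb, hu, he⟩ => hv ⟨u, a * b, mul_mem ha hb, hu, by
          calc v = a * (a⁻¹ * v * a) * a⁻¹ := by group
            _ = _ := by rw [he]; group⟩
        simp only [zf, dif_neg hv, dif_neg hv']
    have hcjE : ∀ a ∈ E, ∀ u, x.coeff u ≠ 0 →
        Q ⊓ Subgroup.centralizer ({a * u * a⁻¹} : Set G) = cj a R := by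
      intro a ha u hu
      rw [← hstab u hu]
      ext w
      rw [mem_cj]
      simp only [Subgroup.mem_inf, Subgroup.mem_centralizer_singleton_iff]
      have := Subgroup.mem_normalizer_iff.1 (h.le_normalizer ha) (a⁻¹ * w * a)
      rw [show a * (a⁻¹ * w * a) * a⁻¹ = w by group] at this
      refine and_congr this.symm ⟨fun h1 => ?_, fun h1 => ?_⟩
      · calc a⁻¹ * w * a * u = a⁻¹ * (w * (a * u * a⁻¹)) * a := by group
          _ = _ := by rw [h1]; group
      · calc w * (a * u * a⁻¹) = a * (a⁻¹ * w * a * u) * a⁻¹ := by group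
          _ = _ := by rw [h1]; group
    have hbz : br R z = x := ga_ext fun v => by
      by_cases hvC : v ∈ Subgroup.centralizer (R : Set G)
      swap
      · rw [br_coeff_not_mem R _ hvC, hxC.coeff_eq_zero hvC]
      rw [br_coeff_mem R _ hvC, hzc]
      by_cases hv : P₀ v
      · obtain ⟨u, a, ha, hu, rfl⟩ := hv
        have haN : a ∈ Subgroup.normalizer (R : Set G) := by
          refine mem_normalizer_of_cj_eq (Subgroup.eq_of_le_of_card_ge ?_ (by rw [card_cj])).symm
          rw [← hcjE a ha u hu]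
          exact le_inf hR fun r hr => Subgroup.mem_centralizer_singleton_iff.2
            (Subgroup.mem_centralizer_iff.1 hvC r hr)
        rw [hzf ha hu rfl, hxT.coeff' ⟨ha, haN⟩ u]
      · simp only [zf, dif_neg hv]
        exact (not_not.1 fun hxv => hv ⟨v, 1, E.one_mem, hxv, by group⟩).symm
    have hbzQ : br Q z = 0 := ga_ext fun v => by
      by_cases hvC : v ∈ Subgroup.centralizer (Q : Set G)
      swap
      · rw [br_coeff_not_mem Q _ hvC]; simp
      rw [br_coeff_mem Q _ hvC, hzc]
      by_cases hv : P₀ v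
      · obtain ⟨u, a, ha, hu, rfl⟩ := hv
        exfalso
        apply hlt.ne
        refine Subgroup.eq_of_le_of_card_ge hR ?_
        have h1 : Q ≤ cj a R := by
          rw [← hcjE a ha u hu]
          exact le_inf le_rfl fun r hr => Subgroup.mem_centralizer_singleton_iff.2
            (Subgroup.mem_centralizer_iff.1 hvC r hr)
        have := Subgroup.card_le_of_le h1
        rwa [card_cj] at this
      · simp [zf, dif_neg hv]
    have hzA : z ∈ sub (⊤ : Subgroup G) E := ⟨isSupp_top z, hzE⟩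
    have hw : InCorner (sub (⊤ : Subgroup G) E) j j (j * z * j) :=
      InCorner.mk' hj.2.1 hj.2.1 hj.1 hj.1 hzA
    have hfj : ∀ {P : Subgroup G}, P ≤ E → IsFixed P (j * z) :=
      fun hP => (mul_mem hj.1 hzA).2.mono hP
    have hbwQ : br Q (j * z * j) = 0 := by
      rw [br_mul h.isP (hfj h.hQE) (hj.1.2.mono h.hQE), br_mul h.isP (hj.1.2.mono h.hQE)
        (hzE.mono h.hQE), hbzQ, mul_zero, zero_mul]
    have hc : res k j (j * z * j) = 0 := by
      by_contra hc0
      have hn := isNilpotent_br h.isP (((hw.sub (hj.inCorner.smul _)).1).2.mono h.hQE)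
        (hj.res_spec hw)
      rw [br_sub, br_smul, hbwQ, zero_sub, ← neg_smul] at hn
      have h2 := hn.smul (-res k j (j * z * j))⁻¹
      rw [inv_smul_smul₀ (neg_ne_zero.2 hc0)] at h2
      exact hne (eq_zero_of_idem_nilpotent (br_idem h.isP (hj.1.2.mono h.hQE) hj.2.1) h2)
    have hn := hj.res_spec hw
    rw [hc, zero_smul, sub_zero] at hn
    have hbw : br R (j * z * j) = x := by
      rw [br_mul hRp (hfj (hR.trans h.hQE)) hjR, br_mul hRp hjR (hzE.mono (hR.trans h.hQE)), hbz,
        hx, mul_sub, ← mul_assoc, hbrj, sub_mul, hbrj, mul_assoc, ← hcomm, ← mul_assoc, hbrj]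
    have hx0 : x = 0 := eq_zero_of_idem_nilpotent hxx
      (hbw ▸ isNilpotent_br hRp (hw.1.2.mono (hR.trans h.hQE)) hn)
    exact (sub_eq_zero.1 hx0).symm

omit [IsAlgClosed k] [CharP k p] in
/-- A point not centralized by `Q` has its stabilizer in a subgroup of index `p`. -/
theorem exists_index_p (h : Split p E Q S) {u : G}
    (hu : u ∉ Subgroup.centralizer (Q : Set G)) :
    ∃ R ≤ Q, R < Q ∧ Q ≤ Subgroup.normalizer (R : Set G) ∧ R.relIndex Q = p ∧
      ∀ a ∈ E, a ∈ Subgroup.centralizer ({u} : Set G) → pPart p a ∈ R := by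
  have hne : (Subgroup.centralizer ({u} : Set G)).subgroupOf Q ≠ ⊤ := fun h0 =>
    hu (Subgroup.mem_centralizer_iff.2 fun q hq =>
      Subgroup.mem_centralizer_singleton_iff.1 (Subgroup.subgroupOf_eq_top.1 h0 hq))
  obtain ⟨R', hR', hn, hidx⟩ := CfsgLib.ConjFunctor.exists_normal_index_eq h.isP hne
  have hlt : R'.map Q.subtype < Q := by
    refine lt_of_le_of_ne (Subgroup.map_subtype_le R') fun he => ?_
    have h1 : R' = ⊤ := Subgroup.map_injective Q.subtype_injective
      (by rw [he, ← MonoidHom.range_eq_map, Subgroup.range_subtype])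
    rw [h1, Subgroup.index_top] at hidx
    exact hp.out.one_lt.ne hidx
  refine ⟨R'.map Q.subtype, Subgroup.map_subtype_le R', hlt, fun q hq => ?_, ?_, fun a ha hac => ?_⟩
  · refine mem_normalizer_of_cj_eq (Subgroup.ext fun w => ?_)
    rw [mem_cj]
    constructor
    · rintro ⟨r, hr, he⟩
      refine ⟨⟨q, hq⟩ * r * ⟨q, hq⟩⁻¹, hn.conj_mem r hr _, ?_⟩
      rw [Subgroup.coe_subtype] at he
      show q * (r : G) * q⁻¹ = w
      rw [he]; group
    · rintro ⟨r, hr, rfl⟩
      refine ⟨⟨q, hq⟩⁻¹ * r * ⟨q, hq⟩, by simpa using hn.conj_mem r hr ⟨q, hq⟩⁻¹, rfl⟩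
  · rw [Subgroup.relIndex, Subgroup.subgroupOf,
      Subgroup.comap_map_eq_self_of_injective Q.subtype_injective, hidx]
  · refine ⟨⟨pPart p a, h.pPart_mem ha⟩, hR' ?_, rfl⟩
    show pPart p a ∈ Subgroup.centralizer ({u} : Set G)
    exact (Subgroup.zpowers_le.2 hac) (pPart_mem_zpowers a)

omit [IsAlgClosed k] [CharP k p] in
theorem le_normalizer_prodSub (h : Split p E Q S) {R : Subgroup G} (hR : R ≤ Q)
    (hN : Q ≤ Subgroup.normalizer (R : Set G)) :
    E ≤ Subgroup.normalizer ((h.prodSub hR : Subgroup G) : Set G) := by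
  have key : ∀ a ∈ E, ∀ w ∈ h.prodSub hR, a * w * a⁻¹ ∈ h.prodSub hR := by
    intro a ha w hw
    have hwE := h.prodSub_le hR hw
    rw [h.mem_prodSub_iff hR (mul_mem (mul_mem ha hwE) (inv_mem ha)), pPart_conj]
    obtain ⟨q, hq, s, hs, rfl⟩ := h.gen a ha
    have hwR := (h.mem_prodSub_iff hR hwE).1 hw
    have h1 : s * pPart p w * s⁻¹ = pPart p w := by
      rw [← (h.comm _ (hR hwR) s hs).eq, mul_inv_cancel_right]
    have h2 : q * s * pPart p w * (q * s)⁻¹ = q * (s * pPart p w * s⁻¹) * q⁻¹ := by group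
    rw [h2, h1]
    exact ((Subgroup.mem_normalizer_iff).1 (hN hq) _).1 hwR
  refine fun a ha => Subgroup.mem_normalizer_iff.2 fun w => ⟨key a ha w, fun hw => ?_⟩
  have := key a⁻¹ (inv_mem ha) _ hw
  simpa [mul_assoc] using this

omit [IsAlgClosed k] [CharP k p] in
theorem relIndex_prodSub (h : Split p E Q S) {R : Subgroup G} (hR : R ≤ Q) :
    (h.prodSub hR).relIndex E = R.relIndex Q := by
  have heq : (h.prodSub hR).subgroupOf E = (R.subgroupOf Q).comap h.proj := by
    ext a
    rw [Subgroup.mem_subgroupOf, Subgroup.mem_comap, Subgroup.mem_subgroupOf,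
      h.mem_prodSub_iff hR a.2]
    rfl
  rw [Subgroup.relIndex, heq, Subgroup.index_comap_of_surjective _ fun q =>
    ⟨⟨q, h.hQE q.2⟩, Subtype.ext (pPart_of_pElement (p := p) (h.exists_orderOf q.2))⟩]
  rfl

/-- A primitive idempotent killed at `Q` is a relative trace from a subgroup of index `p`. -/
theorem exists_relTrace (h : Split p E Q S) {j : GA k G}
    (hj : Prim (sub (⊤ : Subgroup G) E) j) (h0 : br Q j = 0) :
    ∃ (R : Subgroup G) (hR : R ≤ Q) (t : G) (a₀ : GA k G),
      R < Q ∧ Q ≤ Subgroup.normalizer (R : Set G) ∧ t ∈ Q ∧ t ∉ h.prodSub hR ∧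
      (h.prodSub hR).relIndex E = p ∧
      InCorner (sub (⊤ : Subgroup G) (h.prodSub hR)) j j a₀ ∧
      j = ∑ i ∈ Finset.range p, conjA k (t ^ i) a₀ ∧
      ∀ u ∈ Q, u ∉ R → br (Subgroup.zpowers u) j = 0 := by
  classical
  cases nonempty_fintype G
  let cand : G → Set (Subgroup G) := fun u => {R | R ≤ Q ∧ R < Q ∧
    Q ≤ Subgroup.normalizer (R : Set G) ∧ R.relIndex Q = p ∧
    ∀ a ∈ E, a ∈ Subgroup.centralizer ({u} : Set G) → pPart p a ∈ R}
  have hcand : ∀ b ∈ E, ∀ u, cand (b * u * b⁻¹) = cand u := by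
    have key : ∀ b ∈ E, ∀ u, cand u ⊆ cand (b * u * b⁻¹) := by
      rintro b hb u R ⟨hR, hlt, hN, hidx, hst⟩
      refine ⟨hR, hlt, hN, hidx, fun a ha hac => ?_⟩
      have h1 := hst (b⁻¹ * a * b) (mul_mem (mul_mem (inv_mem hb) ha) hb)
        (Subgroup.mem_centralizer_singleton_iff.2 (by
          calc b⁻¹ * a * b * u = b⁻¹ * (a * (b * u * b⁻¹)) * b := by group
            _ = _ := by rw [Subgroup.mem_centralizer_singleton_iff.1 hac]; group))
      obtain ⟨q, hq, s, hs, rfl⟩ := h.gen b hb
      have hmem := h1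
      rw [show (q * s)⁻¹ * a * (q * s) = (q * s)⁻¹ * a * (q * s)⁻¹⁻¹ by rw [inv_inv],
        pPart_conj, inv_inv] at hmem
      have hb' : q * s ∈ Subgroup.normalizer (R : Set G) := Subgroup.mul_mem _ (hN hq)
        (Subgroup.centralizer_le_normalizer _ (Subgroup.mem_centralizer_iff.2
          fun x hx => (h.comm x (hR hx) s hs).eq))
      have := ((Subgroup.mem_normalizer_iff).1 hb' _).1 hmem
      simpa [mul_assoc] using this
    intro b hb u
    refine le_antisymm ?_ (key b hb u)
    have := key b⁻¹ (inv_mem hb) (b * u * b⁻¹)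
    simpa [mul_assoc] using this
  let pick : Set (Subgroup G) → Subgroup G := fun C => if hC : C.Nonempty then hC.some else ⊥
  let Rf : G → Subgroup G := fun u => pick (cand u)
  have hRf : ∀ u, j.coeff u ≠ 0 → Rf u ∈ cand u := by
    intro u hu
    have hne : (cand u).Nonempty := by
      obtain ⟨R, hR, h1, h2, h3, h4⟩ := exists_index_p h (u := u) fun hc => hu (by
        rw [← br_coeff_mem Q j hc, h0]; simp)
      exact ⟨R, hR, h1, h2, h3, h4⟩
    simp only [Rf, pick, dif_pos hne]
    exact hne.some_mem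
  have hRfE : ∀ b ∈ E, ∀ u, Rf (b * u * b⁻¹) = Rf u := fun b hb u =>
    congrArg pick (hcand b hb u)
  have hjE : ∀ b ∈ E, ∀ u, j.coeff (b * u * b⁻¹) = j.coeff u := fun b hb u => hj.1.2.coeff' hb u
  let τ : Subgroup G → GA k G := fun R =>
    CfsgLib.Blocks.ofFun fun u => if Rf u = R then j.coeff u else 0
  have hτc : ∀ R u, (τ R).coeff u = if Rf u = R then j.coeff u else 0 := fun R u =>
    CfsgLib.Blocks.coeff_ofFun _ u
  have hτE : ∀ R, τ R ∈ sub (⊤ : Subgroup G) E := fun R => ⟨isSupp_top _, fun b hb => ga_ext fun u => by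
    rw [conjA_coeff, hτc, hτc, show b⁻¹ * u * b = b⁻¹ * u * b⁻¹⁻¹ by rw [inv_inv],
      hRfE _ (inv_mem hb), hjE _ (inv_mem hb)]⟩
  have hsum : ∑ R ∈ Finset.univ.image Rf, τ R = j := ga_ext fun u => by
    rw [MonoidAlgebra.coeff_sum, Finsupp.finsetSum_apply]
    simp only [hτc]
    rw [Finset.sum_ite_eq, if_pos (Finset.mem_image.2 ⟨u, Finset.mem_univ _, rfl⟩)]
  have hcor : ∀ R, InCorner (sub (⊤ : Subgroup G) E) j j (j * τ R * j) := fun R =>
    InCorner.mk' hj.2.1 hj.2.1 hj.1 hj.1 (hτE R)
  obtain ⟨R, -, hRne⟩ : ∃ R ∈ Finset.univ.image Rf, res k j (j * τ R * j) ≠ 0 := by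
    refine Finset.exists_ne_zero_of_sum_ne_zero ?_
    rw [← hj.res_sum _ _ fun R _ => hcor R, ← Finset.sum_mul, ← Finset.mul_sum, hsum, hj.2.1,
      hj.2.1, hj.res_self]
    exact one_ne_zero
  obtain ⟨w, hw, hw1, -⟩ := (hj.nilpotent_or_inv (hcor R)).resolve_left
    fun hn => hRne (hj.res_eq_zero_of_nilpotent (hcor R) hn)
  rw [mul_assoc (j * τ R), hw.2.1] at hw1
  -- `R` occurs
  obtain ⟨u₀, hu₀⟩ : ∃ u, (τ R).coeff u ≠ 0 := by
    by_contra hno
    simp only [not_exists, not_not] at hno
    have hz : τ R = 0 := ga_ext fun u => by rw [hno u]; simp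
    rw [hz, mul_zero, zero_mul] at hw1
    exact hj.2.2.1 hw1.symm
  have hmem : ∀ u, (τ R).coeff u ≠ 0 → Rf u = R ∧ R ∈ cand u := by
    intro u hu
    rw [hτc] at hu
    split_ifs at hu with heq
    · exact ⟨heq, heq ▸ hRf u hu⟩
    · exact absurd rfl hu
  obtain ⟨-, hR, hlt, hN, hidx, -⟩ := hmem u₀ hu₀
  obtain ⟨t, htQ, htR⟩ := SetLike.exists_of_lt hlt
  set N := h.prodSub hR with hNdef
  have htE : t ∈ E := h.hQE htQ
  have htN : t ∉ N := fun hc => htR (by
    have := (h.mem_prodSub_iff hR htE).1 hc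
    rwa [pPart_of_pElement (p := p) (h.exists_orderOf htQ)] at this)
  have hNE := le_normalizer_prodSub h hR hN
  have hidxN : N.relIndex E = p := (relIndex_prodSub h hR).trans hidx
  -- representatives of the orbits of `E`
  let St : Setoid G :=
    { r := fun u v => ∃ b ∈ E, v = b * u * b⁻¹
      iseqv := ⟨fun u => ⟨1, E.one_mem, by simp⟩,
        fun {u v} ⟨b, hb, hbv⟩ => ⟨b⁻¹, inv_mem hb, by rw [hbv]; group⟩,
        fun {u v w} ⟨b, hb, hbv⟩ ⟨c, hc, hcw⟩ => ⟨c * b, mul_mem hc hb, by
          rw [hcw, hbv]; group⟩⟩ }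
  let rep : G → G := fun u => (Quotient.mk St u).out
  have hrep : ∀ u, ∃ b ∈ E, u = b * rep u * b⁻¹ := fun u => Quotient.mk_out (s := St) u
  have hrep' : ∀ b ∈ E, ∀ u, rep (b * u * b⁻¹) = rep u := fun b hb u =>
    congrArg Quotient.out ((Quotient.sound ⟨b, hb, rfl⟩ :
      Quotient.mk St u = Quotient.mk St (b * u * b⁻¹)).symm)
  let a' : GA k G := CfsgLib.Blocks.ofFun fun u =>
    if ∃ n ∈ N, u = n * rep u * n⁻¹ then (τ R).coeff u else 0
  have ha'c : ∀ u, a'.coeff u = if ∃ n ∈ N, u = n * rep u * n⁻¹ then (τ R).coeff u else 0 :=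
    fun u => CfsgLib.Blocks.coeff_ofFun _ u
  have ha'N : a' ∈ sub (⊤ : Subgroup G) N := ⟨isSupp_top _, fun n hn => ga_ext fun u => by
    have hnE := h.prodSub_le hR hn
    rw [conjA_coeff, ha'c, ha'c]
    have hr : rep (n⁻¹ * u * n) = rep u := by simpa using hrep' n⁻¹ (inv_mem hnE) u
    have hτn : (τ R).coeff (n⁻¹ * u * n) = (τ R).coeff u := by
      simpa using (hτE R).2.coeff' (inv_mem hnE) u
    rw [hr, hτn]
    refine if_congr ⟨fun ⟨m, hm, he⟩ => ⟨n * m, mul_mem hn hm, ?_⟩,
      fun ⟨m, hm, he⟩ => ⟨n⁻¹ * m, mul_mem (inv_mem hn) hm, ?_⟩⟩ rfl rfl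
    · calc u = n * (n⁻¹ * u * n) * n⁻¹ := by group
        _ = _ := by rw [he]; group
    · conv_lhs => rw [he]
      group⟩
  have hsum' : ∑ i ∈ Finset.range p, conjA k (t ^ i) a' = τ R := ga_ext fun v => by
    rw [MonoidAlgebra.coeff_sum, Finsupp.finsetSum_apply]
    simp only [conjA_coeff, ha'c]
    have hτt : ∀ i : ℕ, (τ R).coeff ((t ^ i)⁻¹ * v * t ^ i) = (τ R).coeff v := fun i => by
      simpa using (hτE R).2.coeff' (inv_mem (pow_mem htE i)) v
    have hrt : ∀ i : ℕ, rep ((t ^ i)⁻¹ * v * t ^ i) = rep v := fun i => by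
      simpa using hrep' _ (inv_mem (pow_mem htE i)) v
    simp only [hτt, hrt]
    by_cases hv : (τ R).coeff v = 0
    · rw [hv]; simp
    obtain ⟨b, hb, hbv⟩ := hrep v
    obtain ⟨i₀, ⟨hi₀, hi₀N⟩, huniq⟩ := exists_unique_pow (p := p) htE htN hNE hidxN hb
    rw [Finset.sum_eq_single i₀, if_pos]
    · exact ⟨_, hi₀N, by conv_lhs => rw [hbv]
                         group⟩
    · intro i hi hne
      refine if_neg ?_
      rintro ⟨n, hn, he⟩
      apply hne
      refine huniq i ⟨Finset.mem_range.1 hi, ?_⟩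
      set r := rep v
      have hst : (n⁻¹ * ((t ^ i)⁻¹ * b)) ∈ Subgroup.centralizer ({r} : Set G) := by
        rw [Subgroup.mem_centralizer_singleton_iff]
        calc n⁻¹ * ((t ^ i)⁻¹ * b) * r
            = n⁻¹ * ((t ^ i)⁻¹ * (b * r * b⁻¹) * t ^ i) * ((t ^ i)⁻¹ * b) := by group
          _ = _ := by rw [← hbv, he]; group
      have hnE := h.prodSub_le hR hn
      have hgE : n⁻¹ * ((t ^ i)⁻¹ * b) ∈ E :=
        mul_mem (inv_mem hnE) (mul_mem (inv_mem (pow_mem htE i)) hb)
      have hRr : R ∈ cand r := by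
        have h1 := (hmem v hv).2
        rwa [hbv, hcand b hb] at h1
      have h2 := (h.mem_prodSub_iff hR hgE).2 (hRr.2.2.2.2 _ hgE hst)
      simpa using mul_mem hn h2
    · exact fun hn => absurd (Finset.mem_range.2 hi₀) hn
  refine ⟨R, hR, t, j * a' * w, hlt, hN, htQ, htN, hidxN, ⟨?_, ?_, ?_⟩, ?_, ?_⟩
  · have hsubE := sub_mono (F := k) (le_refl (⊤ : Subgroup G)) (h.prodSub_le hR)
    exact mul_mem (mul_mem (hsubE hj.1) ha'N) (hsubE hw.1)
  · rw [← mul_assoc, ← mul_assoc, hj.2.1]
  · rw [mul_assoc, hw.2.2]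
  · have hfix : ∀ i : ℕ, conjA k (t ^ i) (j * a' * w) = j * conjA k (t ^ i) a' * w := fun i => by
      rw [conjA_mul, conjA_mul, hj.1.2 _ (pow_mem htE i), hw.1.2 _ (pow_mem htE i)]
    simp only [hfix]
    rw [← Finset.sum_mul, ← Finset.mul_sum, hsum', hw1]
  · intro u hu huR
    have hP : IsPGroup p (Subgroup.zpowers u) := by
      obtain ⟨m, hm⟩ := h.exists_orderOf hu
      exact IsPGroup.of_card (n := m) (by rw [Nat.card_zpowers, hm])
    have hPE : Subgroup.zpowers u ≤ E := Subgroup.zpowers_le.2 (h.hQE hu)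
    have hτ0 : br (Subgroup.zpowers u) (τ R) = 0 := ga_ext fun v => by
      by_cases hvC : v ∈ Subgroup.centralizer (Subgroup.zpowers u : Set G)
      swap
      · rw [br_coeff_not_mem _ _ hvC]; simp
      rw [br_coeff_mem _ _ hvC]
      by_contra hv
      apply huR
      have h1 := (hmem v (by simpa using hv)).2.2.2.2.2 u (h.hQE hu)
        (Subgroup.mem_centralizer_singleton_iff.2
          (Subgroup.mem_centralizer_iff.1 hvC u (Subgroup.mem_zpowers u)))
      rwa [pPart_of_pElement (p := p) (h.exists_orderOf hu)] at h1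
    rw [← hw1, br_mul hP ((mul_mem hj.1 (hτE R)).2.mono hPE) (hw.1.2.mono hPE),
      br_mul hP (hj.1.2.mono hPE) ((hτE R).2.mono hPE), hτ0, mul_zero, zero_mul]

end CfsgLib.Star
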