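import Cfsg.Agent.Star.IdemLift
import Cfsg.Agent.PrincipalBlock.Basic
import Cfsg.Agent.Perm.Module
import Mathlib.Algebra.CharP.Lemmas

/-!
# Principal blocks and `p`-length one

If every member of the principal block stays irreducible on the normalizer of a Sylow
`p`-subgroup `P`, then the principal block idempotent is fixed by every `p`-regular element of
the normal closure of `P` (`mem_setKer`).  The proof uses only the permutation module on the
cosets of `P` and fixed points of `p`-groups.
-/

set_option autoImplicit false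
set_option linter.unusedSectionVars false
set_option linter.style.haveILetI false

namespace CfsgLib.Star.PLen

open Cfsg CfsgLib.Blocks CfsgLib.PrincipalBlock

universe u

variable {G : Type u} [Group G]

section Algebra

variable {k : Type*} [Field k] [Fintype G]

theorem sum_single_coeff (y : MonoidAlgebra k G) :
    y = ∑ g : G, MonoidAlgebra.single g (y.coeff g) := by
  classical
  ext g
  rw [MonoidAlgebra.coeff_sum, Finsupp.finsetSum_apply, Finset.sum_eq_single g]
  · simp
  · intro b _ hb; simp [hb]
  · simp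

/-- An element whose coset sums vanish sends a vector fixed modulo a left ideal into that ideal. -/
theorem mul_mem_of_sums (P : Subgroup G) [Fintype P] (Y : Submodule k (MonoidAlgebra k G))
    (hY : ∀ (g : G), ∀ y ∈ Y, MonoidAlgebra.single g (1 : k) * y ∈ Y) {a : MonoidAlgebra k G}
    (ha : ∀ s ∈ P, MonoidAlgebra.single s (1 : k) * a - a ∈ Y) {d : MonoidAlgebra k G}
    (hd : ∀ x : G, ∑ s : P, d.coeff (x * s) = 0) : d * a ∈ Y := by
  classical
  let π : G → G ⧸ P := QuotientGroup.mk
  have h1 : d * a = ∑ g : G, d.coeff g • (MonoidAlgebra.single g (1 : k) * a) := by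
    conv_lhs => rw [sum_single_coeff d]
    rw [Finset.sum_mul]
    refine Finset.sum_congr rfl fun g _ => ?_
    rw [← smul_mul_assoc, MonoidAlgebra.smul_single, smul_eq_mul, mul_one]
  rw [h1, ← Finset.sum_fiberwise Finset.univ π]
  refine Submodule.sum_mem _ fun q _ => ?_
  obtain ⟨x, rfl⟩ := QuotientGroup.mk_surjective q
  have hfib : ∀ (F : G → MonoidAlgebra k G),
      ∑ g ∈ Finset.univ.filter (fun g => π g = π x), F g = ∑ s : P, F (x * s) := by
    intro F
    symm
    refine Finset.sum_bij' (fun s _ => x * (s : G))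
      (fun g hg => (⟨x⁻¹ * g, QuotientGroup.eq.1 (Finset.mem_filter.1 hg).2.symm⟩ : P))
      (fun s _ => Finset.mem_filter.2 ⟨Finset.mem_univ _, QuotientGroup.eq.2 (by simp)⟩)
      (fun g _ => Finset.mem_univ _) (fun s _ => Subtype.ext (by simp)) (fun g _ => by simp)
      (fun s _ => rfl)
  rw [hfib]
  have h2 : ∑ s : P, d.coeff (x * s) • (MonoidAlgebra.single (x * (s : G)) (1 : k) * a) =
      ∑ s : P, d.coeff (x * s) •
        (MonoidAlgebra.single x (1 : k) * (MonoidAlgebra.single (s : G) (1 : k) * a - a)) := by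
    simp only [mul_sub, smul_sub, Finset.sum_sub_distrib]
    rw [← Finset.sum_smul, hd, zero_smul, sub_zero]
    refine Finset.sum_congr rfl fun s _ => ?_
    rw [← mul_assoc, MonoidAlgebra.single_mul_single, mul_one]
  rw [h2]
  exact Submodule.sum_mem _ fun s _ => Y.smul_mem _ (hY x _ (ha s s.2))

/-- A central idempotent `e` such that the coset sums modulo `P` of `(l - 1) e` vanish for `l` in
a normal subgroup is fixed by the elements of that subgroup of order prime to `p`. -/
theorem single_mul_eq {p : ℕ} [Fact p.Prime] [CharP k p] (L P : Subgroup G) [L.Normal]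
    (hP : IsPGroup p P) [Fintype P] {e : MonoidAlgebra k G} (hc : ∀ b, b * e = e * b)
    (he : e * e = e)
    (hsum : ∀ l ∈ L, ∀ y : G, ∑ s : P, e.coeff (l⁻¹ * y * s) = ∑ s : P, e.coeff (y * s))
    {x : G} (hx : x ∈ L) (hxp : (orderOf x).Coprime p) :
    MonoidAlgebra.single x (1 : k) * e = e := by
  classical
  set X : MonoidAlgebra k G := MonoidAlgebra.single x 1 with hX
  set u := (X - 1) * e with hu
  let T : MonoidAlgebra k G →ₗ[k] MonoidAlgebra k G := LinearMap.mulLeft k u
  haveI : Module.Finite k (MonoidAlgebra k G) := inferInstance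
  obtain ⟨n, hn⟩ := monotone_stabilizes_iff_noetherian.mpr
    (inferInstance : IsNoetherian k (MonoidAlgebra k G)) (LinearMap.iterateKer T)
  have hstab : ∀ v : MonoidAlgebra k G, u ^ (n + 1) * v = 0 → u ^ n * v = 0 := by
    intro v hv
    have h1 : v ∈ LinearMap.ker (T ^ (n + 1)) := by
      rw [LinearMap.mem_ker]
      simpa [T, LinearMap.pow_mulLeft] using hv
    have h2 : LinearMap.ker (T ^ n) = LinearMap.ker (T ^ (n + 1)) := hn (n + 1) (by omega)
    rw [← h2, LinearMap.mem_ker] at h1
    simpa [T, LinearMap.pow_mulLeft] using h1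
  -- the largest left ideal killed by a power of `u`
  let Y : Submodule k (MonoidAlgebra k G) :=
    { carrier := {a | ∀ y, u ^ n * y * a = 0}
      zero_mem' := fun y => mul_zero _
      add_mem' := fun {a b} ha hb y => by rw [mul_add, ha, hb, add_zero]
      smul_mem' := fun c a ha y => by rw [mul_smul_comm, ha, smul_zero] }
  have hYl : ∀ (g : G), ∀ a ∈ Y, MonoidAlgebra.single g (1 : k) * a ∈ Y := by
    intro g a ha y
    rw [← mul_assoc, mul_assoc (u ^ n)]
    exact ha _
  have hYtop : Y = ⊤ := by
    by_contra hne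
    haveI : Nontrivial (MonoidAlgebra k G ⧸ Y) :=
      Submodule.Quotient.nontrivial_iff.2 hne
    let ρ : Representation k P (MonoidAlgebra k G ⧸ Y) :=
      { toFun := fun s => Y.mapQ Y (LinearMap.mulLeft k (MonoidAlgebra.single (s : G) (1 : k)))
          (fun a ha => hYl s a ha)
        map_one' := by
          refine Submodule.linearMap_qext _ (LinearMap.ext fun a => ?_)
          simp [← MonoidAlgebra.one_def]
        map_mul' := fun s t => by
          refine Submodule.linearMap_qext _ (LinearMap.ext fun a => ?_)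
          show Submodule.Quotient.mk (MonoidAlgebra.single ((s : G) * t) (1 : k) * a) =
            Submodule.Quotient.mk (MonoidAlgebra.single (s : G) (1 : k) *
              (MonoidAlgebra.single (t : G) (1 : k) * a))
          rw [← mul_assoc, MonoidAlgebra.single_mul_single, mul_one] }
    obtain ⟨v, -, hv0, hvfix⟩ := CfsgLib.Perm.Module.exists_fixed_vector (p := p) hP ρ ⊤
      (fun _ _ _ => Submodule.mem_top) top_ne_bot
    obtain ⟨a, rfl⟩ := Submodule.Quotient.mk_surjective Y v
    have ha : ∀ s ∈ P, MonoidAlgebra.single s (1 : k) * a - a ∈ Y := fun s hs =>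
      (Submodule.Quotient.eq Y).1 (hvfix ⟨s, hs⟩)
    have hd : ∀ l ∈ L, (MonoidAlgebra.single l (1 : k) - 1) * e * a ∈ Y := by
      intro l hl
      refine mul_mem_of_sums P Y hYl ha fun y => ?_
      simp only [sub_mul, one_mul, MonoidAlgebra.coeff_sub, Finsupp.sub_apply,
        MonoidAlgebra.coeff_single_mul_apply, one_mul, Finset.sum_sub_distrib, ← mul_assoc]
      rw [hsum l hl, sub_self]
    apply hv0
    rw [Submodule.Quotient.mk_eq_zero]
    intro y
    have huy : u * y * a ∈ Y := by
      rw [sum_single_coeff y, Finset.mul_sum, Finset.sum_mul]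
      refine Submodule.sum_mem _ fun g _ => ?_
      have e1 : u * MonoidAlgebra.single g (y.coeff g) * a = y.coeff g •
          (MonoidAlgebra.single g (1 : k) *
            ((MonoidAlgebra.single (g⁻¹ * x * g) (1 : k) - 1) * e * a)) := by
        have e2 : MonoidAlgebra.single g (y.coeff g) = y.coeff g • MonoidAlgebra.single g (1 : k) := by
          rw [MonoidAlgebra.smul_single, smul_eq_mul, mul_one]
        have e3 : X * MonoidAlgebra.single g (1 : k) =
            MonoidAlgebra.single g (1 : k) * MonoidAlgebra.single (g⁻¹ * x * g) (1 : k) := by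
          rw [hX, MonoidAlgebra.single_mul_single, MonoidAlgebra.single_mul_single]
          simp [← mul_assoc]
        rw [e2, mul_smul_comm, smul_mul_assoc]
        congr 1
        rw [hu, mul_assoc (X - 1) e, ← hc (MonoidAlgebra.single g 1), ← mul_assoc (X - 1),
          sub_mul X, e3, one_mul, ← mul_assoc, ← mul_assoc, mul_sub, mul_one]
      rw [e1]
      exact Y.smul_mem _ (hYl g _ (hd _ (Subgroup.Normal.conj_mem' ‹L.Normal› x hx g)))
    have h3 := huy 1
    rw [mul_one, ← mul_assoc, ← mul_assoc, ← pow_succ, mul_assoc] at h3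
    have h4 := hstab _ h3
    rwa [← mul_assoc] at h4
  have hnil : u ^ n = 0 := by
    have : (1 : MonoidAlgebra k G) ∈ Y := hYtop ▸ Submodule.mem_top
    simpa using this 1
  -- remove the nilpotence
  have hfix : MonoidAlgebra.single (x ^ p ^ (n + 1)) (1 : k) * e = e := by
    haveI : CharP (MonoidAlgebra k G) p :=
      charP_of_injective_algebraMap (algebraMap k (MonoidAlgebra k G)).injective p
    have hn1 : n ≤ p ^ (n + 1) :=
      ((Nat.lt_pow_self (Fact.out : p.Prime).one_lt).le.trans' (Nat.le_succ n))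
    have h1 : u ^ p ^ (n + 1) = 0 := pow_eq_zero_of_le hn1 hnil
    have hcomm : Commute (X - 1) e := hc (X - 1)
    rw [hu, hcomm.mul_pow, sub_pow_char_pow_of_commute p (n + 1) (Commute.one_right X), one_pow,
      IsIdempotentElem.pow_eq he (pow_ne_zero _ (Fact.out : p.Prime).ne_zero), sub_mul, one_mul,
      sub_eq_zero, hX, MonoidAlgebra.single_pow, one_pow] at h1
    exact h1
  obtain ⟨m, hm⟩ := exists_pow_eq_self_of_coprime (x := x)
    (Nat.Coprime.pow_left (n + 1) hxp.symm)
  have hall : ∀ i : ℕ, MonoidAlgebra.single ((x ^ p ^ (n + 1)) ^ i) (1 : k) * e = e := by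
    intro i
    induction i with
    | zero => simp [← MonoidAlgebra.one_def]
    | succ i ih =>
      rw [pow_succ, show MonoidAlgebra.single ((x ^ p ^ (n + 1)) ^ i * x ^ p ^ (n + 1)) (1 : k) =
          MonoidAlgebra.single ((x ^ p ^ (n + 1)) ^ i) (1 : k) *
            MonoidAlgebra.single (x ^ p ^ (n + 1)) (1 : k) by
          rw [MonoidAlgebra.single_mul_single, mul_one], mul_assoc, hfix, ih]
  have h5 := hall m
  rwa [hm] at h5

end Algebra

section Lift

variable {M : Ideal AlgInt} [M.IsPrime] [Finite G]

/-- An element of order prime to `p` fixing the reduction of a central idempotent fixes it. -/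
theorem single_mul_eq_lift {p : ℕ} (hM : Cfsg.IsPModular p M)
    {F : MonoidAlgebra (localRing M) G} (hc : ∀ b, b * F = F * b) (hF : F * F = F) {x : G}
    (hxp : (orderOf x).Coprime p)
    (hx : MonoidAlgebra.single x (1 : Res M) * rho M G F = rho M G F) :
    MonoidAlgebra.single x (1 : localRing M) * F = F := by
  classical
  set X : MonoidAlgebra (localRing M) G := MonoidAlgebra.single x 1 with hX
  set m := orderOf x with hm
  set S := ∑ i ∈ Finset.range m, X ^ i with hS
  set D := (X - 1) * F with hD
  have hpm : ¬ p ∣ m := (hM.1.coprime_iff_not_dvd).1 hxp.symm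
  have hrX : rho M G X = MonoidAlgebra.single x (1 : Res M) := by
    simp [rho, hX]
  have hXF : ∀ i : ℕ, rho M G (X ^ i * F) = rho M G F := by
    intro i
    induction i with
    | zero => simp
    | succ i ih => rw [pow_succ, mul_assoc, map_mul, map_mul, hrX, hx, ← map_mul, ih]
  have hDS : D * S = 0 := by
    rw [hD, mul_assoc, ← hc S, ← mul_assoc, hS, mul_geom_sum, hX, MonoidAlgebra.single_pow,
      one_pow, hm, pow_orderOf_eq_one, ← MonoidAlgebra.one_def, sub_self, zero_mul]
  have hDF : D * F = D := by rw [hD, mul_assoc, hF]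
  obtain ⟨c, hcm⟩ := (isUnit_natCast hM hpm).exists_left_inv
  set w : MonoidAlgebra (localRing M) G :=
    1 + c • ((S - (m : MonoidAlgebra (localRing M) G)) * F) with hw
  have hwu : IsUnit w := by
    refine isUnit_one_add ?_
    rw [Algebra.smul_def, map_mul]
    have h0 : rho M G ((S - (m : MonoidAlgebra (localRing M) G)) * F) = 0 := by
      rw [sub_mul, map_sub, hS, Finset.sum_mul, map_sum, Finset.sum_congr rfl (fun i _ => hXF i),
        Finset.sum_const, Finset.card_range, map_mul, map_natCast, nsmul_eq_mul, sub_self]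
    rw [h0, mul_zero]
  have hDw : D * w = 0 := by
    rw [hw, mul_add, mul_one, mul_smul_comm, sub_mul, mul_sub, ← mul_assoc, hDS, zero_mul,
      zero_sub, ← mul_assoc, (Nat.cast_commute m D).symm.eq, mul_assoc, hDF, smul_neg,
      ← nsmul_eq_mul, ← Nat.cast_smul_eq_nsmul (localRing M), smul_smul, hcm, one_smul,
      add_neg_cancel]
  have h0 : D = 0 := (hwu.mul_left_eq_zero).1 hDw
  rwa [hD, sub_mul, one_mul, sub_eq_zero] at h0

end Lift

section Principal

variable [Fintype G] {M : Ideal AlgInt} [M.IsPrime] {p : ℕ}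

theorem char_coset_sum (P : Subgroup G) [Fintype P] (χ : IrrCharacter G)
    (hN : Cfsg.IsIrrCharacter ↥(Subgroup.normalizer (P : Set G))
      (fun n : ↥(Subgroup.normalizer (P : Set G)) => (χ : G → ℂ) n)) {l : G}
    (hl : l ∈ Subgroup.normalClosure (P : Set G)) (x : G) :
    ∑ s : P, (χ : G → ℂ) (l * (x * s)) = ∑ s : P, (χ : G → ℂ) (x * s) := by
  classical
  set N := Subgroup.normalizer (P : Set G)
  by_cases hP : P ≤ charKer χ
  · have hL : Subgroup.normalClosure (P : Set G) ≤ charKer χ :=
      Subgroup.normalClosure_le_normal hP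
    refine Finset.sum_congr rfl fun s _ => ?_
    have h1 : x * s * ((x * s)⁻¹ * l * (x * s)) = l * (x * s) := by group
    rw [← h1]
    exact apply_mul_of_eq_one χ (mem_charKer.1
      (Subgroup.Normal.conj_mem' inferInstance l (hL hl) (x * s))) _
  letI := Fintype.ofFinite N
  haveI : (P.subgroupOf N).Normal := Subgroup.normal_in_normalizer
  set χN : IrrCharacter N := ⟨_, hN⟩ with hχN
  have hne : ¬ P.subgroupOf N ≤ charKer χN := fun h => hP fun s hs => by
    have := mem_charKer.1 (h (show (⟨s, Subgroup.le_normalizer hs⟩ : N) ∈ P.subgroupOf N from hs))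
    exact mem_charKer.2 this
  have h0 : ∑ s : P, (χ : G → ℂ) s = 0 := by
    rw [← sum_normal_eq_zero _ χN hne, ← Finset.sum_filter]
    refine Finset.sum_bij' (fun s _ => (⟨(s : G), Subgroup.le_normalizer s.2⟩ : N))
      (fun n hn => (⟨(n : G), (Finset.mem_filter.1 hn).2⟩ : P))
      (fun s _ => Finset.mem_filter.2 ⟨Finset.mem_univ _, s.2⟩) (fun n _ => Finset.mem_univ _)
      (fun s _ => rfl) (fun n _ => rfl) (fun s _ => rfl)
  obtain ⟨d, ρ, -, hρ⟩ := χ.2
  set S : Module.End ℂ (Fin d → ℂ) := ∑ s : P, ρ (s : G) with hS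
  have hcard : (Fintype.card P : ℂ) ≠ 0 := Nat.cast_ne_zero.2 Fintype.card_ne_zero
  have hSS : S * S = (Fintype.card P : ℂ) • S := by
    rw [hS, Finset.sum_mul, Finset.sum_congr rfl (g := fun _ => S), Finset.sum_const,
      Finset.card_univ, Nat.cast_smul_eq_nsmul]
    intro t _
    rw [Finset.mul_sum, hS]
    exact Fintype.sum_equiv (Equiv.mulLeft t) _ _ fun s => (map_mul ρ _ _).symm
  have hE : IsIdempotentElem ((Fintype.card P : ℂ)⁻¹ • S) := by
    rw [IsIdempotentElem, smul_mul_assoc, mul_smul_comm, hSS, smul_smul, smul_smul]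
    congr 1
    field_simp
  have htr : LinearMap.trace ℂ (Fin d → ℂ) S = 0 := by
    rw [hS, map_sum, ← h0]
    exact Finset.sum_congr rfl fun s _ => congrFun hρ s
  have hS0 : S = 0 := by
    have := LinearMap.IsIdempotentElem.eq_zero_of_trace_eq_zero hE
      (by rw [map_smul, htr, smul_zero])
    exact (smul_eq_zero.1 this).resolve_left (inv_ne_zero hcard)
  have hz : ∀ y : G, ∑ s : P, (χ : G → ℂ) (y * s) = 0 := by
    intro y
    have h1 : ∑ s : P, (χ : G → ℂ) (y * s) = LinearMap.trace ℂ (Fin d → ℂ) (ρ y * S) := by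
      rw [hS, Finset.mul_sum, map_sum]
      refine Finset.sum_congr rfl fun s _ => ?_
      rw [← hρ, ← map_mul]
      rfl
    rw [h1, hS0, mul_zero, map_zero]
  rw [hz, ← hz (l * x)]
  exact Finset.sum_congr rfl fun s _ => by rw [mul_assoc]

/-- The coset sums of the principal block idempotent are invariant under the normal closure. -/
theorem blockCoeff_coset_sum (P : Subgroup G) [Fintype P]
    (hN : ∀ χ ∈ Cfsg.principalBlock M G, Cfsg.IsIrrCharacter ↥(Subgroup.normalizer (P : Set G))
      (fun n : ↥(Subgroup.normalizer (P : Set G)) => (χ : G → ℂ) n)) {l : G}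
    (hl : l ∈ Subgroup.normalClosure (P : Set G)) (x : G) :
    ∑ s : P, Cfsg.blockCoeff (Cfsg.principalBlock M G) (l * (x * s)) =
      ∑ s : P, Cfsg.blockCoeff (Cfsg.principalBlock M G) (x * s) := by
  classical
  simp only [blockCoeff_eq_sum, ← Finset.mul_sum]
  congr 1
  rw [Finset.sum_comm, Finset.sum_comm (γ := P)]
  refine Finset.sum_congr rfl fun χ _ => ?_
  split_ifs with hχ
  · rw [← Finset.mul_sum, ← Finset.mul_sum, ← map_sum, ← map_sum,
      char_coset_sum P χ (hN χ hχ) hl x]
  · rfl

/-- Elements of order prime to `p` in the normal closure of `P` lie in the block kernel. -/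
theorem mem_setKer (hM : Cfsg.IsPModular p M) (P : Subgroup G) [Fintype P] (hP : IsPGroup p P)
    (hN : ∀ χ ∈ Cfsg.principalBlock M G, Cfsg.IsIrrCharacter ↥(Subgroup.normalizer (P : Set G))
      (fun n : ↥(Subgroup.normalizer (P : Set G)) => (χ : G → ℂ) n)) {x : G}
    (hx : x ∈ Subgroup.normalClosure (P : Set G)) (hxp : (orderOf x).Coprime p) :
    x ∈ setKer (Cfsg.principalBlock M G) := by
  classical
  haveI : Fact p.Prime := ⟨hM.1⟩
  haveI := charP_res hM
  set B := Cfsg.principalBlock M G
  obtain ⟨f, hf⟩ := exists_idem (isBlockUnion_of_isPBlock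
    (CfsgLib.PrincipalBlock.isPBlock_principalBlock (M := M) (G := G)))
  have hC := toC_idem hf
  have hco : ∀ g : G, (((f : MonoidAlgebra (localRing M) G).coeff g : localRing M) : ℂ) =
      Cfsg.blockCoeff B g := by
    intro g
    have := congrArg (fun z : Ctr ℂ G => (z : MonoidAlgebra ℂ G).coeff g) hC
    simpa [toC] using this
  have hff : f * f = f := ctr_ext_omegaO fun ψ => by
    rw [map_mul, hf]; split_ifs <;> simp
  set F : MonoidAlgebra (localRing M) G := (f : MonoidAlgebra (localRing M) G) with hFdef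
  have hFc : ∀ b, b * F = F * b := fun b => Subring.mem_center_iff.1 f.2 b
  have hFF : F * F = F := congrArg Subtype.val hff
  have hrc : ∀ b, b * rho M G F = rho M G F * b := fun b => by
    obtain ⟨c, rfl⟩ := rho_surjective (M := M) b
    rw [← map_mul, ← map_mul, hFc]
  have hsum : ∀ l ∈ Subgroup.normalClosure (P : Set G), ∀ y : G,
      ∑ s : P, (rho M G F).coeff (l⁻¹ * y * s) = ∑ s : P, (rho M G F).coeff (y * s) := by
    intro l hl y
    simp only [rho_coeff, ← map_sum]
    congr 1
    refine Subtype.ext ?_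
    simp only [AddSubmonoidClass.coe_finsetSum, hco, mul_assoc]
    exact blockCoeff_coset_sum P hN (inv_mem hl) y
  have h1 := single_mul_eq_lift hM hFc hFF hxp
    (single_mul_eq (Subgroup.normalClosure (P : Set G)) P hP hrc
      (by rw [← map_mul, hFF]) hsum hx hxp)
  have h2 : ∀ g : G, Cfsg.blockCoeff B (x⁻¹ * g) = Cfsg.blockCoeff B g := by
    intro g
    have := congrArg (fun a : MonoidAlgebra (localRing M) G => ((a.coeff g : localRing M) : ℂ)) h1
    simpa [MonoidAlgebra.coeff_single_mul_apply, hco] using this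
  have h3 : (setIdemC B : MonoidAlgebra ℂ G) * MonoidAlgebra.single x (1 : ℂ) =
      (setIdemC B : MonoidAlgebra ℂ G) := by
    rw [← Subring.mem_center_iff.1 (setIdemC B).2 (MonoidAlgebra.single x (1 : ℂ))]
    refine CfsgLib.BlockPairs.ga_ext fun g => ?_
    simp [MonoidAlgebra.coeff_single_mul_apply, h2]
  rw [CfsgLib.PrincipalBlock.mem_setKer]
  intro χ hχ
  have h4 := evalFun_central_mul χ (setIdemC B) (MonoidAlgebra.single x (1 : ℂ))
  have h5 := evalFun_central_mul χ (setIdemC B) 1
  rw [mul_one] at h5
  rw [h3, h5, omega_setIdemC, if_pos hχ, one_mul, one_mul, evalFun_one] at h4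
  rw [h4, evalFun, Finset.sum_eq_single x]
  · simp
  · intro b _ hb; simp [hb]
  · simp

end Principal

end CfsgLib.Star.PLen
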