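import Cfsg.Agent.Blocks.LocalRing
import Cfsg.Agent.BlockPairs.Model
import Mathlib.Analysis.Complex.Polynomial.Basic
import Mathlib.RingTheory.IntegralClosure.IsIntegral.Basic
import Mathlib.RingTheory.Polynomial.ScaleRoots
import Mathlib.RingTheory.Coprime.Lemmas
import Mathlib.LinearAlgebra.Determinant
import Mathlib.LinearAlgebra.Matrix.ToLinearEquiv

/-!
# Lifting idempotents to the group algebra over the local ring

The local ring at `M` contains the complex roots of its monic polynomials.  So an element of the
group algebra over it whose reduction is idempotent has a polynomial in it which is an idempotent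
with the same reduction (`exists_idem_lift`).  An element with trivial reduction plus one is a
unit (`isUnit_one_add`).
-/

set_option autoImplicit false
set_option linter.unusedSectionVars false

namespace CfsgLib.Star

open Cfsg Polynomial
open CfsgLib.Blocks (localRing red Res)

universe u

variable {M : Ideal AlgInt} [M.IsPrime]

/-- Finitely many local integers have a common denominator outside `M`. -/
theorem exists_common_den {ι : Type*} (s : Finset ι) (f : ι → localRing M) :
    ∃ b : AlgInt, b ∉ M ∧ ∀ i ∈ s, ∃ a : AlgInt, f i * CfsgLib.Blocks.ofAlgInt M b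
      = CfsgLib.Blocks.ofAlgInt M a := by
  classical
  induction s using Finset.induction_on with
  | empty => exact ⟨1, ‹M.IsPrime›.one_notMem, by simp⟩
  | insert i s hi ih =>
    obtain ⟨b, hb, hs⟩ := ih
    obtain ⟨a, c, hc, hac⟩ := CfsgLib.Blocks.exists_mul_ofAlgInt (f i)
    refine ⟨c * b, ‹M.IsPrime›.mul_notMem hc hb, fun j hj => ?_⟩
    rcases Finset.mem_insert.1 hj with rfl | hj
    · exact ⟨a * b, by rw [map_mul, map_mul, ← mul_assoc, hac]⟩
    · obtain ⟨a', ha'⟩ := hs j hj
      exact ⟨a' * c, by rw [map_mul, map_mul, mul_comm (CfsgLib.Blocks.ofAlgInt M c), ← mul_assoc,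
        ha']⟩

/-- The local ring is integrally closed in `ℂ`. -/
theorem memLocalRing_of_root {f : (localRing M)[X]} (hf : f.Monic) {r : ℂ}
    (hr : eval₂ (localRing M).subtype r f = 0) : Cfsg.MemLocalRing M r := by
  classical
  obtain ⟨b, hb, hs⟩ := exists_common_den (Finset.range f.natDegree) f.coeff
  set P := (f.map (localRing M).subtype).scaleRoots (b : ℂ) with hP
  have hPm : P.Monic := (monic_scaleRoots_iff _).2 (hf.map _)
  have hn : (f.map (localRing M).subtype).natDegree = f.natDegree := hf.natDegree_map _
  have hlift : P ∈ lifts (algebraMap AlgInt ℂ) := by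
    rw [lifts_iff_coeff_lifts]
    intro i
    rw [hP, coeff_scaleRoots, coeff_map, hn]
    rcases lt_trichotomy i f.natDegree with hi | rfl | hi
    · obtain ⟨a, ha⟩ := hs i (Finset.mem_range.2 hi)
      obtain ⟨m, hm⟩ := Nat.exists_eq_succ_of_ne_zero (Nat.sub_ne_zero_of_lt hi)
      refine ⟨a * b ^ m, ?_⟩
      have := congrArg Subtype.val ha
      simp only [Subring.coe_mul, CfsgLib.Blocks.coe_ofAlgInt] at this
      rw [hm, pow_succ', map_mul, map_pow, Subring.subtype_apply, ← mul_assoc, this]
      rfl
    · exact ⟨1, by simp [hf.coeff_natDegree]⟩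
    · exact ⟨0, by simp [coeff_eq_zero_of_natDegree_lt hi]⟩
  obtain ⟨Q, hQ, -, hQm⟩ := lifts_and_degree_eq_and_monic hlift hPm
  have h0 : eval₂ (algebraMap AlgInt ℂ) ((b : ℂ) * r) Q = 0 := by
    rw [eval₂_eq_eval_map, hQ, hP]
    have := scaleRoots_eval₂_eq_zero (RingHom.id ℂ) (s := (b : ℂ))
      (p := f.map (localRing M).subtype) (r := r) (by rw [eval₂_map, RingHom.id_comp, hr])
    simpa [eval₂_id] using this
  have hint : IsIntegral ℤ ((b : ℂ) * r) :=
    isIntegral_trans (R := ℤ) (A := AlgInt) _ ⟨Q, hQm, h0⟩
  refine ⟨⟨_, hint⟩, b, hb, ?_⟩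
  show (b : ℂ) * r / (b : ℂ) = r
  field_simp [CfsgLib.Blocks.coe_ne_zero hb]

/-- A monic polynomial over the local ring splits. -/
theorem exists_roots {f : (localRing M)[X]} (hf : f.Monic) :
    ∃ s : Multiset (localRing M), f = (s.map fun r => X - C r).prod := by
  set ι := (localRing M).subtype
  have hinj : Function.Injective ι := Subtype.val_injective
  have h1 := (IsAlgClosed.splits (f.map ι)).eq_prod_roots_of_monic (hf.map _)
  have hmem : ∀ r ∈ (f.map ι).roots, r ∈ localRing M := fun r hr =>
    memLocalRing_of_root hf (by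
      rw [eval₂_eq_eval_map]
      exact (mem_roots (hf.map _).ne_zero).1 hr)
  obtain ⟨s, hs⟩ : ∃ s : Multiset (localRing M), s.map ι = (f.map ι).roots :=
    ⟨(f.map ι).roots.pmap (fun r h => (⟨r, h⟩ : localRing M)) hmem, by
      rw [Multiset.map_pmap]
      simp [ι, Multiset.pmap_eq_map, Multiset.map_id']⟩
  refine ⟨s, map_injective ι hinj ?_⟩
  conv_lhs => rw [h1, ← hs]
  rw [Polynomial.map_multiset_prod, Multiset.map_map, Multiset.map_map]
  simp

theorem isCoprime_roots {s t : Multiset (localRing M)}
    (h : ∀ r ∈ s, ∀ r' ∈ t, IsUnit (r - r')) :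
    IsCoprime (s.map fun r => X - C r).prod (t.map fun r => X - C r).prod := by
  induction s using Multiset.induction_on with
  | empty => simpa using isCoprime_one_left
  | cons r s ih =>
    rw [Multiset.map_cons, Multiset.prod_cons]
    refine IsCoprime.mul_left ?_ (ih fun a ha => h a (Multiset.mem_cons_of_mem ha))
    clear ih
    induction t using Multiset.induction_on with
    | empty => simpa using isCoprime_one_right
    | cons r' t ih =>
      rw [Multiset.map_cons, Multiset.prod_cons]
      exact (Polynomial.isCoprime_X_sub_C_of_isUnit_sub (h r (Multiset.mem_cons_self _ _) r'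
        (Multiset.mem_cons_self _ _))).mul_right
        (ih fun a ha b hb => h a ha b (Multiset.mem_cons_of_mem hb))

theorem eval₂_idem {k A : Type*} [CommRing k] [Ring A] [Algebra k A] {a : A} (ha : a * a = a)
    (P : k[X]) : aeval a P = P.eval 0 • (1 - a) + P.eval 1 • a := by
  induction P using Polynomial.induction_on' with
  | add P Q hP hQ => rw [map_add, eval_add, eval_add, hP, hQ, add_smul, add_smul]; abel
  | monomial n c =>
    rw [aeval_monomial, eval_monomial, eval_monomial, ← Algebra.smul_def, one_pow, mul_one]
    rcases n with _ | n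
    · simp [← smul_add]
    · rw [IsIdempotentElem.pow_succ_eq n ha]
      simp

/-- Reduction of the group algebra over the local ring. -/
noncomputable def rho (M : Ideal AlgInt) [M.IsPrime] (G : Type u) [Group G] :
    MonoidAlgebra (localRing M) G →+* MonoidAlgebra (Res M) G :=
  MonoidAlgebra.mapRingHom G (red M)

variable {G : Type u} [Group G]

@[simp] theorem rho_coeff (a : MonoidAlgebra (localRing M) G) (g : G) :
    (rho M G a).coeff g = red M (a.coeff g) := by
  simp [rho]

theorem rho_aeval (a : MonoidAlgebra (localRing M) G) (P : (localRing M)[X]) :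
    rho M G (aeval a P) = aeval (rho M G a) (P.map (red M)) := by
  rw [aeval_def, hom_eval₂, aeval_def, eval₂_map]
  congr 1
  refine RingHom.ext fun c => ?_
  simp [rho, MonoidAlgebra.coe_algebraMap]

theorem rho_surjective [Finite G] : Function.Surjective (rho M G) := by
  intro b
  choose f hf using fun g => CfsgLib.Blocks.red_surjective (M := M) (b.coeff g)
  refine ⟨MonoidAlgebra.ofCoeff (Finsupp.equivFunOnFinite.symm f),
    CfsgLib.BlockPairs.ga_ext fun g => ?_⟩
  simp [hf]

/-- Idempotents lift, as polynomials in any lift. -/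
theorem exists_idem_lift [Finite G] (a : MonoidAlgebra (localRing M) G)
    (ha : rho M G a * rho M G a = rho M G a) :
    ∃ P : (localRing M)[X], aeval a P * aeval a P = aeval a P ∧ rho M G (aeval a P) = rho M G a := by
  classical
  have : Module.Finite (localRing M) (MonoidAlgebra (localRing M) G) :=
    Module.Finite.equiv (MonoidAlgebra.coeffLinearEquiv (localRing M)
      (S := localRing M) (M := G)).symm
  obtain ⟨f, hf, hfa⟩ := IsIntegral.of_finite (localRing M) a
  rw [← aeval_def] at hfa
  obtain ⟨s, rfl⟩ := exists_roots hf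
  set s1 := s.filter (fun r => red M r ≠ 0) with hs1
  set s0 := s.filter (fun r => red M r = 0) with hs0
  set g := (s1.map fun r => X - C r).prod with hg
  set h := (s0.map fun r => X - C r).prod with hh
  have hgh : (s.map fun r => X - C r).prod = g * h := by
    rw [hg, hh, ← Multiset.prod_add, ← Multiset.map_add, hs1, hs0]
    congr 2
    conv_lhs => rw [← Multiset.filter_add_not (fun r => red M r ≠ 0) s]
    simp
  obtain ⟨u, v, huv⟩ : IsCoprime g h := by
    refine isCoprime_roots fun r hr r' hr' => ?_
    rw [← CfsgLib.Blocks.red_ne_zero_iff, map_sub, (Multiset.mem_filter.1 hr').2, sub_zero]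
    exact (Multiset.mem_filter.1 hr).2
  have hgha : aeval a (g * h) = 0 := by rw [← hgh]; exact hfa
  have hab : aeval a (v * h) * aeval a (u * g) = 0 := by
    rw [← map_mul, show v * h * (u * g) = (v * u) * (g * h) by ring, map_mul, hgha, mul_zero]
  have hsum : aeval a (v * h) + aeval a (u * g) = 1 := by
    rw [← map_add, add_comm, huv, map_one]
  refine ⟨v * h, ?_, ?_⟩
  · conv_rhs => rw [← mul_one (aeval a (v * h)), ← hsum, mul_add, hab, add_zero]
  set e := rho M G a
  have hg0 : (g.map (red M)).eval 0 ≠ 0 := by
    rw [eval_map, ← map_zero (red M), eval₂_at_apply, hg, eval_multiset_prod, map_multiset_prod,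
      Multiset.map_map, Multiset.map_map]
    refine Multiset.prod_ne_zero fun hz => ?_
    obtain ⟨r, hr, hr0⟩ := Multiset.mem_map.1 hz
    simp only [Function.comp_apply, eval_sub, eval_X, eval_C, zero_sub, map_neg, neg_eq_zero]
      at hr0
    exact (Multiset.mem_filter.1 hr).2 hr0
  have hhX : h.map (red M) = X ^ Multiset.card s0 := by
    rw [hh, Polynomial.map_multiset_prod, Multiset.map_map]
    have : s0.map (Polynomial.map (red M) ∘ fun r => X - C r) = s0.map (fun _ => (X : (Res M)[X])) :=
      Multiset.map_congr rfl fun r hr => by simp [(Multiset.mem_filter.1 hr).2]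
    rw [this, Multiset.map_const', Multiset.prod_replicate]
  have hh1 : (h.map (red M)).eval 1 = 1 := by rw [hhX]; simp
  have h3 := rho_aeval a (g * h)
  rw [hgha, map_zero, Polynomial.map_mul, eval₂_idem ha] at h3
  simp only [eval_mul, hh1, mul_one] at h3
  rw [rho_aeval, eval₂_idem ha, Polynomial.map_mul, eval_mul, eval_mul, hh1, mul_one]
  have h4 := congrArg (· * e) h3
  simp only [zero_mul, add_mul, smul_mul_assoc, sub_mul, one_mul, e] at h4
  rw [ha, sub_self, smul_zero, zero_add] at h4
  have h5 : ((v.map (red M)).eval 0 * (h.map (red M)).eval 0) • (1 - e) = 0 := by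
    by_cases hm : Multiset.card s0 = 0
    · have : h.map (red M) = 1 := by rw [hhX, hm, pow_zero]
      rw [this, eval_one, mul_one, ← h4, add_zero] at h3
      rw [show (1 : MonoidAlgebra (Res M) G) - e = 0 from
        (smul_eq_zero.1 h3.symm).resolve_left hg0, smul_zero]
    · rw [hhX, eval_pow, eval_X, zero_pow hm, mul_zero, zero_smul]
  rw [h5, zero_add]
  rcases smul_eq_zero.1 h4.symm with hz | hz
  · have h6 := congrArg (fun P : (localRing M)[X] => (P.map (red M)).eval 1) huv
    simp only [Polynomial.map_add, Polynomial.map_mul, eval_add, eval_mul, Polynomial.map_one,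
      eval_one, hz, mul_zero, zero_add, hh1, mul_one] at h6
    rw [h6, one_smul]
  · rw [hz, smul_zero]

theorem commute_aeval {R A : Type*} [CommRing R] [Ring A] [Algebra R A] {a w : A}
    (h : Commute w a) (P : R[X]) : Commute w (aeval a P) := by
  induction P using Polynomial.induction_on' with
  | add P Q hP hQ => rw [map_add]; exact hP.add_right hQ
  | monomial n c =>
    rw [aeval_monomial]
    exact (Algebra.commute_algebraMap_right c w).mul_right (h.pow_right n)

/-- An element congruent to one is a unit. -/
theorem isUnit_one_add [Finite G] {d : MonoidAlgebra (localRing M) G} (hd : rho M G d = 0) :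
    IsUnit (1 + d) := by
  classical
  cases nonempty_fintype G
  set b : Module.Basis G (localRing M) (MonoidAlgebra (localRing M) G) :=
    Module.Basis.ofRepr (MonoidAlgebra.coeffLinearEquiv (localRing M) (S := localRing M) (M := G))
      with hb
  set L := LinearMap.mulLeft (localRing M) (1 + d) with hL
  have hd0 : ∀ g, red M (d.coeff g) = 0 := fun g => by rw [← rho_coeff, hd]; simp
  have hdet : IsUnit (LinearMap.toMatrix b b L).det := by
    rw [← CfsgLib.Blocks.red_ne_zero_iff, RingHom.map_det]
    have : (red M).mapMatrix (LinearMap.toMatrix b b L) = 1 := by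
      ext i j
      have hbj : b j = MonoidAlgebra.single j 1 := by
        apply b.repr.injective
        rw [b.repr_self]
        simp [hb]
      rw [RingHom.mapMatrix_apply, Matrix.map_apply, LinearMap.toMatrix_apply, hbj, hL,
        LinearMap.mulLeft_apply, add_mul, one_mul, map_add]
      have h1 : ∀ x : MonoidAlgebra (localRing M) G, b.repr x i = x.coeff i := fun x => by simp [hb]
      rw [Finsupp.add_apply, h1, h1, map_add, MonoidAlgebra.coeff_mul_single_apply, mul_one, hd0,
        add_zero, MonoidAlgebra.coeff_single, Finsupp.single_apply, Matrix.one_apply]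
      by_cases hij : i = j
      · rw [if_pos hij.symm, if_pos hij, map_one]
      · rw [if_neg (Ne.symm hij), if_neg hij, map_zero]
    rw [this, Matrix.det_one]
    exact one_ne_zero
  have hLb : IsUnit L := by
    have h : IsUnit (LinearMap.toMatrixAlgEquiv b L) :=
      (Matrix.isUnit_iff_isUnit_det _).2 hdet
    simpa using h.map (LinearMap.toMatrixAlgEquiv b).symm
  have hbij : Function.Bijective L := (Module.End.isUnit_iff L).1 hLb
  obtain ⟨y, hy⟩ := hbij.2 1
  simp only [hL, LinearMap.mulLeft_apply] at hy
  refine ⟨⟨1 + d, y, hy, hbij.1 ?_⟩, rfl⟩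
  simp only [hL, LinearMap.mulLeft_apply]
  rw [← mul_assoc, hy, one_mul, mul_one]

end CfsgLib.Star
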