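import Cfsg.Agent.Star.Theta
import Cfsg.Agent.BlockPairs.ResField
import Cfsg.Agent.Characters.Generalized
import Cfsg.Agent.OddOrderChar.Induced

/-!
# Integrality of the local functions on nilpotent subgroups

For a nilpotent subgroup `E` and an idempotent `j` fixed by `E`, the function `theta … j` is a
generalized character of `E` (`isGen_theta`): this is the local form of the theorem of Broué and
Puig.
-/

set_option autoImplicit false
set_option linter.unusedSectionVars false
set_option linter.style.haveILetI false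

namespace CfsgLib.Star

open Cfsg CfsgLib.BlockPairs
open CfsgLib.Blocks (localRing red Res)
open CfsgLib.Characters (isGen_comp isGen_mul isGen_sum isGen_zsmul isGen_indFun)

universe u

variable {G : Type u} [Group G] [Fintype G] {M : Ideal AlgInt} [M.IsPrime] {p : ℕ}
  [hp : Fact p.Prime]

/-- The trace of a lifted idempotent commuting with `E` is a generalized character of `E`. -/
theorem isGen_trace {χ : G → ℂ} (hχ : Cfsg.IsCharacter G χ) {E : Subgroup G}
    (Ê : MonoidAlgebra (localRing M) G) (hidem : Ê * Ê = Ê)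
    (hcomm : ∀ e ∈ E, Commute (MonoidAlgebra.single e (1 : localRing M)) Ê) :
    Cfsg.IsGeneralizedCharacter E fun e : E =>
      tau M χ (MonoidAlgebra.single (e : G) 1 * Ê) := by
  classical
  obtain ⟨n, ρ, rfl⟩ := hχ
  set m := MonoidAlgebra.mapRingHom G (localRing M).subtype with hm
  set φ := ρ.asAlgebraHom with hφ
  set pr₀ : (Fin n → ℂ) →ₗ[ℂ] (Fin n → ℂ) := φ (m Ê) with hpr
  have hpr2 : pr₀ * pr₀ = pr₀ := by rw [hpr, ← map_mul, ← map_mul, hidem]
  have hprc : ∀ e : E, Commute (ρ (e : G)) pr₀ := fun e => by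
    have h1 := ((hcomm e e.2).map m).map φ
    simpa [hm, hφ, hpr, Representation.asAlgebraHom_single] using h1
  let σ : Representation ℂ E (Fin n → ℂ) :=
    { toFun := fun e => ρ (e : G) * pr₀ + (1 - pr₀)
      map_one' := by simp
      map_mul' := fun a b => by
        have h1 : pr₀ * (1 - pr₀) = 0 := by rw [mul_sub, mul_one, hpr2, sub_self]
        have h2 : (1 - pr₀) * (1 - pr₀) = 1 - pr₀ := by rw [sub_mul, one_mul, h1, sub_zero]
        have h3 : (1 - pr₀) * (ρ (b : G) * pr₀) = 0 := by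
          rw [(hprc b).eq, ← mul_assoc, sub_mul, one_mul, hpr2, sub_self, zero_mul]
        have h4 : ρ (a : G) * pr₀ * (1 - pr₀) = 0 := by rw [mul_assoc, h1, mul_zero]
        rw [Subgroup.coe_mul, map_mul, add_mul, mul_add, mul_add, h3, h4, h2, add_zero, zero_add]
        congr 1
        rw [mul_assoc (ρ (a : G)) pr₀, ← mul_assoc pr₀, ← (hprc b).eq, mul_assoc (ρ (b : G)), hpr2,
          mul_assoc] }
  have hproj : LinearMap.IsProj (LinearMap.range (1 - pr₀)) (1 - pr₀) :=
    ⟨fun x => LinearMap.mem_range_self _ x, fun x ⟨y, hy⟩ => by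
      rw [← hy, ← Module.End.mul_apply]
      congr 1
      rw [sub_mul, one_mul, mul_sub, mul_one, hpr2, sub_self, sub_zero]⟩
  set d := Module.finrank ℂ (LinearMap.range (1 - pr₀))
  have hval : (fun e : E => tau M ρ.character (MonoidAlgebra.single (e : G) 1 * Ê)) =
      σ.character - ((d : ℤ) : ℂ) • fun _ : E => (1 : ℂ) := by
    funext e
    have key : tau M ρ.character (MonoidAlgebra.single (e : G) 1 * Ê) =
        LinearMap.trace ℂ _ (ρ (e : G) * pr₀) := by
      rw [tau_apply]
      have h1 : ρ (e : G) * pr₀ = φ (m (MonoidAlgebra.single (e : G) 1 * Ê)) := by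
        simp [hm, hφ, hpr, Representation.asAlgebraHom_single]
      rw [h1]
      conv_rhs => rw [CfsgLib.BlocksLocal.eq_sum_single (m (MonoidAlgebra.single (e : G) 1 * Ê)),
        map_sum, map_sum]
      refine Finset.sum_congr rfl fun g _ => ?_
      rw [hφ, Representation.asAlgebraHom_single, map_smul, smul_eq_mul]
      simp [hm, Representation.character]
    have h2 : σ.character e = LinearMap.trace ℂ _ (ρ (e : G) * pr₀) + (d : ℂ) := by
      show LinearMap.trace ℂ _ (ρ (e : G) * pr₀ + (1 - pr₀)) = _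
      rw [map_add, hproj.trace]
    simp [key, h2]
  rw [hval]
  exact Characters.isGen_sub (Characters.isGen_of_isCharacter (Characters.isCharacter_character σ))
    (isGen_zsmul Characters.isGen_one _)

variable {P : Subgroup G} {b eP : GA (Res M) G} {ζ : G → ℂ} (hM : Cfsg.IsPModular p M)
  (hb : IsBlock (⊤ : Subgroup G) b) (hmax : IsMaxPair p ⊤ b P eP)
  (hζi : IsInvariant p P eP ζ) (hζ : Cfsg.IsGeneralizedCharacter P fun w : P => ζ w)
  {χ : G → ℂ} (hχ : Cfsg.IsCharacter G χ)

include hM hb hmax hζi hζ hχ in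
theorem isGen_theta_of_br_ne_zero {E Q S : Subgroup G} (h : Split p E Q S) {j : GA (Res M) G}
    (hj : Prim (sub (⊤ : Subgroup G) E) j) (hne : br Q j ≠ 0) :
    Cfsg.IsGeneralizedCharacter E fun z : E => theta p P eP ζ χ j z := by
  classical
  haveI := CfsgLib.Blocks.charP_res hM
  haveI := isAlgClosed_res hM
  have hf := Characters.isClassFunction_of_isCharacter hχ
  obtain ⟨g, hg, hgE, hjg⟩ := exists_pair_of_br_ne_zero h hj hne
  have hbelow : ∀ z : E, ∃ e, Le p ⊤ (Subgroup.zpowers (pPart p (z : G))) e Q g ∧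
      theta p P eP ζ χ j z = zt p P eP ζ (pPart p (z : G)) e * T M χ (z : G) j := fun z => by
    have hU : Subgroup.zpowers (pPart p (z : G)) ≤ Q := Subgroup.zpowers_le.2 (h.pPart_mem z.2)
    obtain ⟨e, he, hle⟩ := exists_below hg hU
    exact ⟨e, hle, theta_eq_single hf hM hj.2.1 (hj.1.2 _ z.2) (mem_blocks.2 he.2.2)
      (br_mul_eq_of_le h hj hg hgE hjg hne hU hle)⟩
  obtain ⟨Ê, hÊ, hÊz⟩ := exists_lift (M := M) j hj.2.1
  have hT : Cfsg.IsGeneralizedCharacter E fun z : E => T M χ (z : G) j := by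
    have h1 := isGen_trace (M := M) hχ (E := E) Ê hÊ fun e he => (hÊz e (hj.1.2 e he)).1
    convert! h1 using 1
    funext z
    exact T_eq hf hÊ (hÊz _ (hj.1.2 _ z.2))
  by_cases hB : ∃ x, Le p ⊤ (cj x Q) (conjA (Res M) x g) P eP
  · obtain ⟨x, hx⟩ := hB
    let ψ : E →* P :=
      { toFun := fun z => ⟨x * pPart p (z : G) * x⁻¹, hx.subgroup_le
          (mem_cj.2 (by simpa [mul_assoc] using h.pPart_mem z.2))⟩
        map_one' := Subtype.ext (by
          have h1 := congrArg Subtype.val (map_one h.proj)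
          show x * pPart p ((1 : E) : G) * x⁻¹ = 1
          rw [show pPart p ((1 : E) : G) = 1 from h1]
          group)
        map_mul' := fun a c => Subtype.ext (by
          have h1 := congrArg Subtype.val (map_mul h.proj a c)
          show x * pPart p ((a * c : E) : G) * x⁻¹ = _
          rw [show pPart p ((a * c : E) : G) = pPart p (a : G) * pPart p (c : G) from h1]
          show _ = x * pPart p (a : G) * x⁻¹ * (x * pPart p (c : G) * x⁻¹)
          group) }
    have heq : (fun z : E => theta p P eP ζ χ j z) =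
        (fun z : E => ζ (ψ z : G)) * fun z : E => T M χ (z : G) j := by
      funext z
      obtain ⟨e, hle, hth⟩ := hbelow z
      rw [hth, zt_eq hζi ((hle.conjA (x := x) trivial).trans' hx)]
      rfl
    rw [heq]
    exact isGen_mul (isGen_comp ψ hζ) hT
  · have heq : (fun z : E => theta p P eP ζ χ j z) = 0 := by
      funext z
      obtain ⟨e, hle, hth⟩ := hbelow z
      rw [hth, zt_eq_zero, zero_mul]
      · rfl
      intro x hx
      apply hB
      have hpair := le_pair hg hle
      have h1 := (blockHas_iff_of_le hb hx (hpair.conjA trivial)).2 hmax.1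
      have h2 := h1.conjA hb.fixed (x := x⁻¹) trivial
      rw [cj_inv_cj, conjA_inv] at h2
      obtain ⟨y, -, hy⟩ := exists_conj_le hb hmax ((blockHas_iff_of_le hb hle hpair).1 h2)
      exact ⟨y, hy⟩
    rw [heq]
    exact Characters.isGen_zero

open Classical in
/-- Restriction to a normal subgroup of index `p` of a function induced from it. -/
theorem indFun_apply_pow {E N : Subgroup G} (_hNE : N ≤ E) {t : G} (ht : t ∈ E) (htN : t ∉ N)
    (hnorm : E ≤ Subgroup.normalizer (N : Set G)) (hidx : N.relIndex E = p) (F : G → ℂ)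
    (hF : ∀ n ∈ N, ∀ w ∈ N, F (n * w * n⁻¹) = F w) (z : E) :
    Cfsg.indFun (N.subgroupOf E) (fun w => F ((w : E) : G)) z =
      if (z : G) ∈ N then ∑ i ∈ Finset.range p, F ((t ^ i)⁻¹ * (z : G) * t ^ i) else 0 := by
  classical
  haveI hn : (N.subgroupOf E).Normal := ⟨fun w hw g => by
    rw [Subgroup.mem_subgroupOf] at hw ⊢
    exact ((Subgroup.mem_normalizer_iff).1 (hnorm g.2) _).1 hw⟩
  by_cases hz : (z : G) ∈ N
  swap
  · rw [if_neg hz]
    exact CfsgLib.OddOrderChar.indFun_normal_eq_zero _ _ (fun hc => hz hc)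
  rw [if_pos hz]
  let e : Fin p × N.subgroupOf E → E := fun w => (w.2 : E)⁻¹ * (⟨t, ht⟩ : E)⁻¹ ^ (w.1 : ℕ)
  have hbij : Function.Bijective e := by
    constructor
    · rintro ⟨i, n⟩ ⟨i', n'⟩ he
      have h1 : ((e (i, n) : E) : G)⁻¹ = ((e (i', n') : E) : G)⁻¹ := by rw [he]
      simp only [e, Subgroup.coe_mul, Subgroup.coe_inv, Subgroup.coe_pow, mul_inv_rev, inv_inv,
        inv_pow] at h1
      obtain ⟨i₀, -, huniq⟩ := exists_unique_pow (p := p) ht htN hnorm hidx
        (mul_mem (pow_mem ht (i : ℕ)) (n : E).2)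
      have hii : i = i' := Fin.ext ((huniq i ⟨i.2, by rw [inv_mul_cancel_left]; exact n.2⟩).trans
        (huniq i' ⟨i'.2, by rw [h1, inv_mul_cancel_left]; exact n'.2⟩).symm)
      subst hii
      rw [mul_right_inj] at h1
      exact Prod.ext rfl (Subtype.ext (Subtype.ext h1))
    · intro g
      obtain ⟨i, ⟨hi, hiN⟩, -⟩ := exists_unique_pow (p := p) ht htN hnorm hidx (inv_mem g.2)
      refine ⟨(⟨i, hi⟩, ⟨⟨(t ^ i)⁻¹ * (g : G)⁻¹, mul_mem (inv_mem (pow_mem ht i))
        (inv_mem g.2)⟩, hiN⟩), Subtype.ext ?_⟩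
      simp [e, inv_pow, mul_assoc]
  rw [show z = ((⟨z, hz⟩ : N.subgroupOf E) : E) from rfl, CfsgLib.OddOrderChar.indFun_normal_apply,
    ← Equiv.sum_comp (Equiv.ofBijective e hbij), Fintype.sum_prod_type,
    ← Fin.sum_univ_eq_sum_range, Finset.mul_sum]
  refine Finset.sum_congr rfl fun i _ => ?_
  rw [Finset.sum_congr rfl (g := fun _ => F ((t ^ (i : ℕ))⁻¹ * (z : G) * t ^ (i : ℕ))),
    Finset.sum_const, Finset.card_univ, ← Nat.card_eq_fintype_card, nsmul_eq_mul, ← mul_assoc,
    inv_mul_cancel₀ (Nat.cast_ne_zero.2 Nat.card_pos.ne'), one_mul]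
  intro n _
  have hmem : (t ^ (i : ℕ))⁻¹ * (z : G) * t ^ (i : ℕ) ∈ N := by
    have h1 := ((Subgroup.mem_normalizer_iff).1 (hnorm (inv_mem (pow_mem ht (i : ℕ)))) (z : G)).1 hz
    simpa using h1
  rw [Equiv.ofBijective_apply, CfsgLib.OddOrderChar.conjBy_apply]
  simp only [e, Subgroup.coe_mul, Subgroup.coe_inv, Subgroup.coe_pow, inv_pow, mul_inv_rev, inv_inv]
  rw [show ((n : E) : G)⁻¹ * (t ^ (i : ℕ))⁻¹ * (z : G) * (t ^ (i : ℕ) * ((n : E) : G)) =
    ((n : E) : G)⁻¹ * ((t ^ (i : ℕ))⁻¹ * (z : G) * t ^ (i : ℕ)) * ((n : E) : G)⁻¹⁻¹ by group]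
  exact hF _ (inv_mem n.2) _ hmem

include hM hζi hχ in
/-- The orbit of a class contributes a function induced from `N`. -/
theorem exists_coeff_orbit {E N : Subgroup G} (hNE : N ≤ E) {t : G} (ht : t ∈ E) (htN : t ∉ N)
    (hnorm : E ≤ Subgroup.normalizer (N : Set G)) (hidx : N.relIndex E = p)
    {j a₀ : GA (Res M) G} (hj : j * j = j) (hjt : conjA (Res M) t j = j)
    (ha₀ : InCorner (sub (⊤ : Subgroup G) N) j j a₀)
    (hja : j = ∑ i ∈ Finset.range p, conjA (Res M) (t ^ i) a₀) {s : Finset (GA (Res M) G)}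
    (hs : IsDecomp (sub (⊤ : Subgroup G) N) j s) :
    ∃ c : GA (Res M) G → ℕ, ∀ z ∈ N, theta p P eP ζ χ j z =
      ∑ i ∈ Finset.range p,
        ∑ a ∈ s, (c a : ℂ) * theta p P eP ζ χ a ((t ^ i)⁻¹ * z * t ^ i) := by
  classical
  haveI := CfsgLib.Blocks.charP_res hM
  haveI := isAlgClosed_res hM
  have hf := Characters.isClassFunction_of_isCharacter hχ
  set A := sub (F := Res M) (⊤ : Subgroup G) N
  have hti : ∀ i : ℕ, t ^ i ∈ E := fun i => pow_mem ht i
  have hσ : ∀ i : ℕ, ∀ x, conjEquiv (k := Res M) (t ^ i) x ∈ A ↔ x ∈ A := fun i x =>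
    conjA_mem_sub_iff (hnorm (hti i))
  have hjp : ∀ i : ℕ, conjEquiv (k := Res M) (t ^ i) j = j := fun i =>
    Subgroup.pow_mem (fixer j) (show t ∈ fixer j from hjt) i
  have htp : t ^ p ∈ N := by
    haveI hn : (N.subgroupOf E).Normal := ⟨fun w hw g => by
      rw [Subgroup.mem_subgroupOf] at hw ⊢
      exact ((Subgroup.mem_normalizer_iff).1 (hnorm g.2) _).1 hw⟩
    have hcard : Nat.card (E ⧸ N.subgroupOf E) = p := hidx
    have h1 : (QuotientGroup.mk (⟨t, ht⟩ : E) : E ⧸ N.subgroupOf E) ^ p = 1 := by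
      have h2 := pow_card_eq_one' (x := (QuotientGroup.mk (⟨t, ht⟩ : E) : E ⧸ N.subgroupOf E))
      rwa [hcard] at h2
    rw [← QuotientGroup.mk_pow, QuotientGroup.eq_one_iff] at h1
    exact h1
  -- the orbit relation
  let rel : GA (Res M) G → GA (Res M) G → Prop := fun a x =>
    ∃ i : ℕ, Eqv A (conjA (Res M) (t ^ i) a) x
  have hpow : ∀ {a}, a ∈ A → ∀ i q : ℕ, conjA (Res M) (t ^ (i + q * p)) a = conjA (Res M) (t ^ i) a := by
    intro a ha i q
    rw [pow_add, ← conjA_conjA]
    congr 1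
    refine ha.2 _ ?_
    rw [mul_comm, pow_mul]
    exact pow_mem htp q
  have hrefl : ∀ a ∈ s, rel a a := fun a ha => ⟨0, by
    rw [pow_zero, conjA_one_left]; exact Eqv.refl (hs.1 a ha)⟩
  have htrans : ∀ a ∈ s, ∀ x ∈ s, ∀ y ∈ s, rel a x → rel x y → rel a y := by
    rintro a ha x hx y hy ⟨i, hi⟩ ⟨l, hl⟩
    refine ⟨l + i, ?_⟩
    rw [pow_add, ← conjA_conjA]
    refine ((eqv_map_iff (σ := conjEquiv (t ^ l)) (hσ l)).2 hi).trans hl ?_ (hs.1 y hy).2.1
    simp only [conjEquiv_apply]
    rw [← conjA_mul, ← conjA_mul, (hs.1 a ha).2.1]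
  have hsymm : ∀ a ∈ s, ∀ x ∈ s, rel a x → rel x a := by
    rintro a ha x hx ⟨i, hi⟩
    obtain ⟨l, hl⟩ : ∃ l, l + i = i * p := ⟨i * p - i, by
      have := Nat.le_mul_of_pos_right i hp.out.pos; omega⟩
    refine ⟨l, ?_⟩
    have h1 := (eqv_map_iff (σ := conjEquiv (t ^ l)) (hσ l)).2 hi
    simp only [conjEquiv_apply] at h1
    rw [conjA_conjA, ← pow_add, hl, ← zero_add (i * p), hpow (hs.1 a ha).1, pow_zero,
      conjA_one_left] at h1
    exact h1.symm
  let O : GA (Res M) G → Finset (GA (Res M) G) := fun a => s.filter (rel a)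
  have hOeq : ∀ a ∈ s, ∀ x ∈ s, (O x = O a ↔ x ∈ O a) := by
    intro a ha x hx
    constructor
    · intro h
      rw [← h]
      exact Finset.mem_filter.2 ⟨hx, hrefl x hx⟩
    · intro h
      have hax := (Finset.mem_filter.1 h).2
      ext y
      simp only [O, Finset.mem_filter]
      exact and_congr_right fun hy => ⟨fun h' => htrans a ha x hx y hy hax h',
        fun h' => htrans x hx a ha y hy (hsymm a ha x hx hax) h'⟩
  have heqv : ∀ {a x : GA (Res M) G}, a ∈ A → x ∈ A → a * a = a → x * x = x → Eqv A a x →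
      ∀ z ∈ N, theta p P eP ζ χ a z = theta p P eP ζ χ x z := by
    rintro a x haA hxA ha hx ⟨u, hu, v, hv, h1, h2⟩ z hz
    exact theta_equiv hf hM ha hx h1 h2 (hu.2 z hz) (hv.2 z hz)
  have hmove : ∀ a ∈ s, ∀ i : ℕ, ∀ z ∈ N, theta p P eP ζ χ (conjA (Res M) (t ^ i) a) z =
      theta p P eP ζ χ a ((t ^ i)⁻¹ * z * t ^ i) := by
    intro a ha i z hz
    have hz' : (t ^ i)⁻¹ * z * t ^ i ∈ N := by
      have h1 := ((Subgroup.mem_normalizer_iff).1 (hnorm (inv_mem (hti i))) z).1 hz
      simpa using h1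
    have h1 := theta_conj hf hM hζi (t := t ^ i) (hs.1 a ha).2.1 ((hs.1 a ha).1.2 _ hz')
    rwa [show t ^ i * ((t ^ i)⁻¹ * z * t ^ i) * (t ^ i)⁻¹ = z by group] at h1
  -- one orbit
  have horb : ∀ a ∈ s, ∃ c : ℕ, ∀ z ∈ N, ∑ x ∈ O a, theta p P eP ζ χ x z =
      ∑ i ∈ Finset.range p, (c : ℂ) * theta p P eP ζ χ a ((t ^ i)⁻¹ * z * t ^ i) := by
    intro a ha
    have hPa : ∀ i : ℕ, Prim A (conjA (Res M) (t ^ i) a) := fun i =>
      (hs.1 a ha).map (σ := conjEquiv (t ^ i)) (hσ i)
    have hcount : ∀ i : ℕ, (part A s (conjA (Res M) (t ^ i) a)).card = (part A s a).card := fun i =>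
      count_map (σ := conjEquiv (t ^ i)) (hσ i) (hjp i) hs (hs.1 a ha)
    have hOmem : ∀ x, x ∈ O a ↔ ∃ i ∈ Finset.range p, x ∈ part A s (conjA (Res M) (t ^ i) a) := by
      intro x
      simp only [O, rel, Finset.mem_filter, mem_part]
      constructor
      · rintro ⟨hx, i, hi⟩
        refine ⟨i % p, Finset.mem_range.2 (Nat.mod_lt _ hp.out.pos), hx, ?_⟩
        rwa [← hpow (hs.1 a ha).1 (i % p) (i / p), Nat.mod_add_div' i p]
      · rintro ⟨i, -, hx, hi⟩
        exact ⟨hx, i, hi⟩
    have hval : ∀ i : ℕ, ∀ x ∈ part A s (conjA (Res M) (t ^ i) a), ∀ z ∈ N,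
        theta p P eP ζ χ x z = theta p P eP ζ χ a ((t ^ i)⁻¹ * z * t ^ i) := by
      intro i x hx z hz
      obtain ⟨hxs, hxe⟩ := mem_part.1 hx
      rw [← heqv (hPa i).1 (hs.1 x hxs).1 (hPa i).2.1 (hs.1 x hxs).2.1 hxe z hz, hmove a ha i z hz]
    by_cases hfix : Eqv A (conjA (Res M) t a) a
    · -- a fixed class: its multiplicity is divisible by `p`
      have hall : ∀ i : ℕ, Eqv A (conjA (Res M) (t ^ i) a) a := by
        intro i
        induction i with
        | zero => rw [pow_zero, conjA_one_left]; exact Eqv.refl (hs.1 a ha)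
        | succ i ih =>
          rw [pow_succ, ← conjA_conjA]
          refine ((eqv_map_iff (σ := conjEquiv (t ^ i)) (hσ i)).2 hfix).trans ih ?_ (hs.1 a ha).2.1
          simp only [conjEquiv_apply]
          rw [← conjA_mul, ← conjA_mul, (hs.1 a ha).2.1]
      have hpart : ∀ i : ℕ, part A s (conjA (Res M) (t ^ i) a) = part A s a := fun i =>
        part_congr hs (hPa i).2.1 (hs.1 a ha).2.1 (hall i)
      have hO : O a = part A s a := by
        ext x
        rw [hOmem]
        exact ⟨fun ⟨i, _, hi⟩ => hpart i ▸ hi,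
          fun hx => ⟨0, Finset.mem_range.2 hp.out.pos, by rw [hpart 0]; exact hx⟩⟩
      obtain ⟨c, hc⟩ : p ∣ (part A s a).card := by
        rw [← CharP.cast_eq_zero_iff (Res M) p, ← lam_self hs, hja,
          lam_sum hs a _ (fun i => conjA (Res M) (t ^ i) a₀) fun i _ => (hσ i a₀).2 ha₀.1]
        have hterm : ∀ i : ℕ, lam A s a (conjA (Res M) (t ^ i) a₀) = lam A s a a₀ := fun i => by
          have h1 := lam_map (σ := conjEquiv (t ^ i)) (hσ i) (hjp i) hs (hs.1 a ha) ha₀
          simp only [conjEquiv_apply, lam, hpart i] at h1 ⊢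
          exact h1
        rw [Finset.sum_congr rfl fun i _ => hterm i, Finset.sum_const, Finset.card_range,
          nsmul_eq_mul, CharP.cast_eq_zero, zero_mul]
      refine ⟨c, fun z hz => ?_⟩
      have hconst : ∀ x ∈ part A s a, theta p P eP ζ χ x z = theta p P eP ζ χ a z := fun x hx => by
        have := hval 0 x (by rw [hpart 0]; exact hx) z hz
        simpa using this
      have hconst' : ∀ i : ℕ, theta p P eP ζ χ a ((t ^ i)⁻¹ * z * t ^ i) = theta p P eP ζ χ a z :=
        fun i => by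
          rw [← hmove a ha i z hz]
          exact heqv (hPa i).1 (hs.1 a ha).1 (hPa i).2.1 (hs.1 a ha).2.1 (hall i) z hz
      rw [hO, Finset.sum_congr rfl hconst, Finset.sum_const, hc,
        Finset.sum_congr rfl fun i _ => congrArg _ (hconst' i), Finset.sum_const, Finset.card_range]
      simp only [nsmul_eq_mul, Nat.cast_mul]
      ring
    · -- a free orbit
      have hdisj : ∀ i ∈ Finset.range p, ∀ l ∈ Finset.range p, i ≠ l →
          Disjoint (part A s (conjA (Res M) (t ^ i) a)) (part A s (conjA (Res M) (t ^ l) a)) := by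
        intro i hi l hl hne
        rw [Finset.disjoint_left]
        intro x hxi hxl
        apply hfix
        obtain ⟨hxs, he1⟩ := mem_part.1 hxi
        obtain ⟨-, he2⟩ := mem_part.1 hxl
        have hil : Eqv A (conjA (Res M) (t ^ i) a) (conjA (Res M) (t ^ l) a) :=
          he1.trans he2.symm (hPa i).2.1 (hPa l).2.1
        -- shift `i` to zero
        obtain ⟨m, hm⟩ : ∃ m, m + i = p := ⟨p - i, by
          have := Finset.mem_range.1 hi; omega⟩
        have h1 := (eqv_map_iff (σ := conjEquiv (t ^ m)) (hσ m)).2 hil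
        simp only [conjEquiv_apply] at h1
        rw [conjA_conjA, conjA_conjA, ← pow_add, ← pow_add, hm,
          show p = 0 + 1 * p by ring, hpow (hs.1 a ha).1, pow_zero, conjA_one_left] at h1
        set d := m + l
        -- every multiple of `d` fixes the class
        have hmul : ∀ q : ℕ, Eqv A (conjA (Res M) (t ^ (q * d)) a) a := by
          intro q
          induction q with
          | zero => rw [Nat.zero_mul, pow_zero, conjA_one_left]; exact Eqv.refl (hs.1 a ha)
          | succ q ih =>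
            rw [Nat.succ_mul, pow_add, ← conjA_conjA]
            refine ((eqv_map_iff (σ := conjEquiv (t ^ (q * d))) (hσ _)).2 h1.symm).trans ih ?_
              (hs.1 a ha).2.1
            simp only [conjEquiv_apply]
            rw [← conjA_mul, ← conjA_mul, (hs.1 a ha).2.1]
        have hd : ¬ p ∣ d := by
          rintro ⟨q, hq⟩
          have h2 := Finset.mem_range.1 hi
          have h3 := Finset.mem_range.1 hl
          rcases q with _ | _ | q
          · omega
          · exact hne (by omega)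
          · rw [Nat.mul_succ, Nat.mul_succ] at hq; omega
        obtain ⟨q, hq⟩ := Nat.exists_mul_mod_eq_one_of_coprime
          ((Nat.Prime.coprime_iff_not_dvd hp.out).2 hd).symm hp.out.one_lt
        have h4 := hmul q
        rw [← Nat.mod_add_div' (q * d) p, show q * d % p = 1 by rw [mul_comm]; exact hq.2,
          hpow (hs.1 a ha).1, pow_one] at h4
        exact h4
      have hO : O a = (Finset.range p).biUnion fun i => part A s (conjA (Res M) (t ^ i) a) := by
        ext x
        rw [hOmem, Finset.mem_biUnion]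
      refine ⟨(part A s a).card, fun z hz => ?_⟩
      rw [hO, Finset.sum_biUnion hdisj]
      refine Finset.sum_congr rfl fun i _ => ?_
      rw [Finset.sum_congr rfl fun x hx => hval i x hx z hz, Finset.sum_const, hcount,
        nsmul_eq_mul]
  choose cf hcf using horb
  -- representatives of the orbits
  have hne : ∀ Ω ∈ s.image O, ∃ a ∈ s, O a = Ω := fun Ω hΩ => Finset.mem_image.1 hΩ
  choose rp hrp hrpO using hne
  refine ⟨fun a => if h : a ∈ s then
    (if rp (O a) (Finset.mem_image_of_mem O h) = a then cf a h else 0) else 0, fun z hz => ?_⟩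
  conv_lhs => rw [← hs.2.2]
  rw [theta_sum hf hM z s (fun a => a) (fun a ha => (hs.1 a ha).2.1) hs.2.1
      (fun a ha => (hs.1 a ha).1.2 z hz),
    ← Finset.sum_fiberwise_of_maps_to (g := O) (fun a ha => Finset.mem_image_of_mem O ha)
      (fun a => theta p P eP ζ χ a z), Finset.sum_comm,
    ← Finset.sum_fiberwise_of_maps_to (g := O) (fun a ha => Finset.mem_image_of_mem O ha)
      (fun a => ∑ i ∈ Finset.range p, _)]
  refine Finset.sum_congr rfl fun Ω hΩ => ?_
  have hr := hrp Ω hΩ
  have hfib : s.filter (fun x => O x = Ω) = O (rp Ω hΩ) := by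
    ext x
    rw [Finset.mem_filter]
    constructor
    · rintro ⟨hx, hxΩ⟩
      exact (hOeq _ hr x hx).1 (hxΩ.trans (hrpO Ω hΩ).symm)
    · intro hx
      have hxs := (Finset.mem_filter.1 hx).1
      exact ⟨hxs, ((hOeq _ hr x hxs).2 hx).trans (hrpO Ω hΩ)⟩
  rw [hfib, hcf _ hr z hz, Finset.sum_eq_single (rp Ω hΩ)]
  · refine Finset.sum_congr rfl fun i _ => ?_
    beta_reduce
    rw [dif_pos hr]
    simp only [hrpO]
    simp
  · intro x hx hne
    have hxs := (Finset.mem_filter.1 hx).1
    have hxO : O x = Ω := ((hOeq _ hr x hxs).2 hx).trans (hrpO Ω hΩ)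
    refine Finset.sum_eq_zero fun i _ => ?_
    beta_reduce
    rw [dif_pos hxs]
    simp only [hxO]
    rw [if_neg (Ne.symm hne), Nat.cast_zero, zero_mul]
  · exact fun hn => absurd (Finset.mem_filter.2 ⟨hr, hrefl _ hr⟩) hn

include hM hb hmax hζi hζ hχ in
/-- The local theorem of Broué and Puig. -/
theorem isGen_theta {E Q S : Subgroup G} (h : Split p E Q S) {j : GA (Res M) G}
    (hjE : j ∈ sub (⊤ : Subgroup G) E) (hj : j * j = j) :
    Cfsg.IsGeneralizedCharacter E fun z : E => theta p P eP ζ χ j z := by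
  classical
  haveI := CfsgLib.Blocks.charP_res hM
  haveI := isAlgClosed_res hM
  have hf := Characters.isClassFunction_of_isCharacter hχ
  induction hn : Nat.card E using Nat.strong_induction_on generalizing E Q S j with
  | _ n ih =>
    obtain ⟨s, hs⟩ := exists_decomp hjE hj
    have heq : (fun z : E => theta p P eP ζ χ j z) =
        ∑ i ∈ s, fun z : E => theta p P eP ζ χ i z := by
      funext z
      conv_lhs => rw [← hs.2.2]
      rw [theta_sum hf hM (z : G) s (fun a => a) (fun a ha => (hs.1 a ha).2.1) hs.2.1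
        (fun a ha => (hs.1 a ha).1.2 _ z.2), Finset.sum_apply]
    rw [heq]
    refine isGen_sum _ _ fun i hi => ?_
    have hP := hs.1 i hi
    by_cases h0 : br Q i = 0
    swap
    · exact isGen_theta_of_br_ne_zero hM hb hmax hζi hζ hχ h hP h0
    obtain ⟨R, hR, t, a₀, hlt, hN, htQ, htN, hidx, ha₀, hsum, hvan⟩ := exists_relTrace h hP h0
    set N := h.prodSub hR with hNdef
    have hNE : N ≤ E := h.prodSub_le hR
    have htE : t ∈ E := h.hQE htQ
    have hnorm := le_normalizer_prodSub h hR hN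
    have hcardN : Nat.card N < n := by
      rw [← hn]
      refine lt_of_le_of_ne (Subgroup.card_le_of_le hNE) fun hc => htN ?_
      rw [Subgroup.eq_of_le_of_card_ge hNE hc.ge]
      exact htE
    have hiN : i ∈ sub (⊤ : Subgroup G) N := sub_mono (le_refl (⊤ : Subgroup G)) hNE hP.1
    obtain ⟨s', hs'⟩ := exists_decomp hiN hP.2.1
    obtain ⟨c, hc⟩ := exists_coeff_orbit (P := P) (eP := eP) hM hζi hχ hNE htE htN hnorm hidx
      hP.2.1 (hP.1.2 t htE) ha₀ hsum hs'
    let F : G → ℂ := fun w => ∑ a ∈ s', (c a : ℂ) * theta p P eP ζ χ a w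
    have hgenN : Cfsg.IsGeneralizedCharacter N fun w : N => F w := by
      have h1 : (fun w : N => F w) = ∑ a ∈ s', ((c a : ℤ) : ℂ) • fun w : N => theta p P eP ζ χ a w := by
        funext w
        simp [F, Finset.sum_apply]
      rw [h1]
      exact isGen_sum _ _ fun a ha => isGen_zsmul
        (ih _ hcardN (h.split_prodSub hR) (hs'.1 a ha).1 (hs'.1 a ha).2.1 rfl) _
    have hFcl : ∀ m ∈ N, ∀ w ∈ N, F (m * w * m⁻¹) = F w := fun m hm w hw => by
      have := Characters.isClassFunction_of_isGen hgenN ⟨w, hw⟩ ⟨m, hm⟩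
      exact this
    have hind : (fun z : E => theta p P eP ζ χ i z) =
        Cfsg.indFun (N.subgroupOf E) fun w => F ((w : E) : G) := by
      funext z
      rw [indFun_apply_pow hNE htE htN hnorm hidx F hFcl z]
      split_ifs with hz
      · exact hc _ hz
      · refine theta_eq_zero hf (hvan _ (h.pPart_mem z.2) fun hzR => hz ?_)
        exact (h.mem_prodSub_iff hR z.2).2 hzR
    rw [hind]
    exact isGen_indFun _ (isGen_comp (Subgroup.subgroupOfEquivOfLe hNE).toMonoidHom hgenN)

end CfsgLib.Star
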