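import Cfsg.Agent.Star.Contr

/-!
# The subsections at central elements of the defect group

Two of them are conjugate only through the stabilizer of the maximal pair, so the norms of a
member at them add up to at most the inertial index times the order of the defect group.
-/

set_option autoImplicit false
set_option linter.unusedSectionVars false
set_option linter.style.haveILetI false

namespace CfsgLib.Star

open Cfsg CfsgLib.BlockPairs
open CfsgLib.Blocks (Res)
open scoped ComplexConjugate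

universe u

variable {G : Type u} [Group G] [Fintype G] {M : Ideal AlgInt} [M.IsPrime] {p : ℕ}
  [hp : Fact p.Prime] {P : Subgroup G} {eP : GA (Res M) G} [CharP (Res M) p]
  [IsAlgClosed (Res M)] (hM : Cfsg.IsPModular p M) {B : Set (IrrCharacter G)}
  (hB : Cfsg.IsPBlock M B) (hmax : IsMaxPair p (⊤ : Subgroup G) (gblk M B) P eP)

theorem cent_zpowers_mem {w c : G} :
    c ∈ cent ⊤ (Subgroup.zpowers w) ↔ c * w = w * c := by
  rw [cent_zpowers, Subgroup.mem_centralizer_singleton_iff]

theorem le_cent_of_central {w : G} (hw : w ∈ Subgroup.centralizer (P : Set G)) :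
    P ≤ cent ⊤ (Subgroup.zpowers w) := fun y hy =>
  cent_zpowers_mem.2 (Subgroup.mem_centralizer_iff.1 hw y hy)

include hB hmax

/-- At a central element the group of the maximal pair gives a maximal pair of the local block. -/
theorem isMaxPair_central {w : G} (hw : w ∈ P) (hwc : w ∈ Subgroup.centralizer (P : Set G)) :
    IsMaxPair p (cent ⊤ (Subgroup.zpowers w)) (below p P eP (Subgroup.zpowers w)) P eP := by
  have hb := isBlock_gblk (M := M) hB
  have hle := le_below hmax hw
  have hQf := le_pair hmax.1.1 hle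
  have hPC := le_cent_of_central hwc
  obtain ⟨g, hs, hg⟩ := step_of_le hle hmax.1.1 (Subgroup.zpowers_le.2 hw) le_rfl
    (hPC.trans cent_le_normalizer)
  rw [le_unique hg Le.refl'] at hs
  have hblk := hQf.2.2
  have hd : IsDefectGrp p (cent ⊤ (Subgroup.zpowers w)) (below p P eP (Subgroup.zpowers w)) P := by
    refine isDefectGrp_of_card hblk hPC hmax.1.1.2.1 hs.br_ne_zero fun S hS hSp hne => ?_
    obtain ⟨z, -, hzS⟩ := exists_conj_into hb hmax hle hQf (hS.trans hQf.cent_le_stab) hSp hne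
    exact (card_cj z S).symm.le.trans (Subgroup.card_le_of_le hzS)
  refine isMaxPair_of_defect hd ⟨hmax.1.1.of_top hPC ?_, hs.2.2.2.2.2⟩
  rw [cent_top]
  exact Subgroup.centralizer_le (SetLike.coe_subset_coe.2 (Subgroup.zpowers_le.2 hw))

/-- Conjugate central subsections are conjugate through the stabilizer of the maximal pair. -/
theorem exists_stab_of_central {w w₀ h : G} (hw : w ∈ P)
    (hwc : w ∈ Subgroup.centralizer (P : Set G)) (hw₀ : w₀ ∈ P)
    (hw₀c : w₀ ∈ Subgroup.centralizer (P : Set G)) (hh : h * w * h⁻¹ = w₀)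
    (hb' : conjA (Res M) h (below p P eP (Subgroup.zpowers w)) =
      below p P eP (Subgroup.zpowers w₀)) :
    ∃ t ∈ stab ⊤ P eP, t * w * t⁻¹ = w₀ := by
  have h1 := isMaxPair_central hB hmax hw₀ hw₀c
  have h2 := isMaxPair_central hB hmax hw hwc
  have hC : cj h (cent ⊤ (Subgroup.zpowers w)) = cent ⊤ (Subgroup.zpowers w₀) := by
    rw [cj_cent_top, cj_zpowers, hh]
  have hblk : IsBlock (cent ⊤ (Subgroup.zpowers w₀)) (below p P eP (Subgroup.zpowers w₀)) :=
    mem_blocks.1 (below_mem_blocks hmax hw₀)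
  have hd : IsDefectGrp p (cent ⊤ (Subgroup.zpowers w₀)) (below p P eP (Subgroup.zpowers w₀))
      (cj h P) := by
    have := (IsMaxPair.isDefectGrp (mem_blocks.1 (below_mem_blocks hmax hw)) h2).1.conjA h
    rwa [hC, hb'] at this
  have hpair : IsMaxPair p (cent ⊤ (Subgroup.zpowers w₀)) (below p P eP (Subgroup.zpowers w₀))
      (cj h P) (conjA (Res M) h eP) := by
    refine isMaxPair_of_defect hd ⟨(hmax.1.1.conjA trivial).of_top hd.1 ?_, ?_⟩
    · have hsub : cj h (Subgroup.zpowers w) ≤ cj h P := cj_mono h (Subgroup.zpowers_le.2 hw)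
      rw [cj_zpowers, hh] at hsub
      rw [cent_top]
      exact Subgroup.centralizer_le (SetLike.coe_subset_coe.2 hsub)
    · rw [← hb', ← conjA_br, ← conjA_mul, h2.1.2]
  obtain ⟨c, hc, hcP, hce⟩ := maxPairs_conj hblk h1 hpair
  rw [cj_cj] at hcP
  rw [conjA_conjA] at hce
  refine ⟨c * h, ⟨⟨trivial, mem_normalizer_of_cj_eq hcP⟩, hce⟩, ?_⟩
  calc c * h * w * (c * h)⁻¹ = c * (h * w * h⁻¹) * c⁻¹ := by group
    _ = w₀ := by rw [hh, cent_zpowers_mem.1 hc, mul_inv_cancel_right]

include hM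

open Classical in
/-- The norms at the central elements add up to at most the inertial index times the order. -/
theorem sum_aval_central_le {χ : IrrCharacter G} (hχ : χ ∈ B) (Z : Subgroup G) (hZP : Z ≤ P)
    (hZc : Z ≤ Subgroup.centralizer (P : Set G)) :
    ∑ w : Z, ‖aval p P eP (χ : G → ℂ) (w : G)‖ ≤
      (((P ⊔ Subgroup.centralizer (P : Set G)).relIndex (stab ⊤ P eP) : ℕ) : ℝ) *
        (Nat.card P : ℝ) := by
  have hf := Characters.isClassFunction_of_isIrr χ.2
  set E := (P ⊔ Subgroup.centralizer (P : Set G)).relIndex (stab ⊤ P eP) with hE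
  let N : (Σ _ : G, GA (Res M) G) → ℝ := fun σ =>
    ‖nsum p (χ : G → ℂ) (χ : G → ℂ) (cent ⊤ (Subgroup.zpowers σ.1)) σ.1 σ.2‖
  let z1 : (Σ _ : G, GA (Res M) G) → ℝ := fun σ =>
    if ∃ x, Le p ⊤ (cj x (Subgroup.zpowers σ.1)) (conjA (Res M) x σ.2) P eP then 1 else 0
  let S : Finset (Σ _ : G, GA (Res M) G) :=
    (Finset.univ.filter fun x : G => ∃ k, orderOf x = p ^ k).sigma
      fun x => blocks (Res M) (cent ⊤ (Subgroup.zpowers x))
  have hN : ∀ σ : Σ _ : G, GA (Res M) G,
      nsum p (χ : G → ℂ) (χ : G → ℂ) (cent ⊤ (Subgroup.zpowers σ.1)) σ.1 σ.2 = (N σ : ℂ) := by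
    intro σ
    have h : ∃ r : ℝ, 0 ≤ r ∧
        nsum p (χ : G → ℂ) (χ : G → ℂ) (cent ⊤ (Subgroup.zpowers σ.1)) σ.1 σ.2 = (r : ℂ) := by
      refine ⟨∑ s ∈ Finset.univ.filter
          (fun s => s ∈ cent ⊤ (Subgroup.zpowers σ.1) ∧ ¬ p ∣ orderOf s),
          Complex.normSq (T M (χ : G → ℂ) (σ.1 * s) σ.2),
        Finset.sum_nonneg fun s _ => Complex.normSq_nonneg _, ?_⟩
      push_cast [nsum]
      exact Finset.sum_congr rfl fun s _ => Complex.mul_conj _
    obtain ⟨r, hr, he⟩ := h
    simp only [N]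
    rw [he, Complex.norm_real, Real.norm_of_nonneg hr]
  -- the section formula
  have hG : ∑ σ ∈ S, z1 σ * N σ = (Nat.card G : ℝ) := by
    have hs := star_of_eq_one hM hB hmax (ζ := (1 : G → ℂ)) (fun _ _ => rfl) isInvariant_one hχ
    have h1 : ((∑ σ ∈ S, z1 σ * N σ : ℝ) : ℂ) = (Nat.card G : ℂ) := by
      have hi : Cfsg.classInner (χ : G → ℂ) (χ : G → ℂ) = 1 := by
        rw [Characters.classInner_irr, if_pos rfl]
      rw [← hs, Cfsg.classInner, inv_mul_eq_one₀ (Nat.cast_ne_zero.2 Nat.card_pos.ne')] at hi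
      rw [hi, Complex.ofReal_sum, Finset.sum_sigma, Finset.sum_filter]
      refine Eq.trans ?_ (sum_eq_sum_sections' (p := p) _).symm
      refine Finset.sum_congr rfl fun x _ => ?_
      split_ifs with hx
      · rw [sum_section_star hM hx hf hf, cent_zpowers]
        refine Finset.sum_congr rfl fun e _ => ?_
        rw [Complex.ofReal_mul, ← hN ⟨x, e⟩, cent_zpowers, nsum_eq_sum]
        simp only [z1, zt, Pi.one_apply]
        split_ifs <;> simp
      · rfl
    exact_mod_cast h1
  let Φ : G × Z → (Σ _ : G, GA (Res M) G) := fun a =>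
    ⟨a.1 * (a.2 : G) * a.1⁻¹, conjA (Res M) a.1 (below p P eP (Subgroup.zpowers (a.2 : G)))⟩
  have hΦ : ∀ a, Φ a ∈ S := by
    rintro ⟨g, w⟩
    refine Finset.mem_sigma.2 ⟨Finset.mem_filter.2 ⟨Finset.mem_univ _, ?_⟩, ?_⟩
    · obtain ⟨k, hk⟩ := hmax.1.1.2.1 ⟨w, hZP w.2⟩
      obtain ⟨i, -, hi⟩ := (Nat.dvd_prime_pow hp.out).1
        (orderOf_dvd_of_pow_eq_one (x := (w : G)) (n := p ^ k) (congrArg Subtype.val hk))
      exact ⟨i, ((MulAut.conj g).orderOf_eq (w : G)).trans hi⟩
    · have h := (mem_blocks.1 (below_mem_blocks hmax (hZP w.2))).conjA g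
      rw [cj_cent_top, cj_zpowers] at h
      exact mem_blocks.2 h
  have hval : ∀ a : G × Z, z1 (Φ a) = 1 ∧ N (Φ a) =
      N ⟨(a.2 : G), below p P eP (Subgroup.zpowers (a.2 : G))⟩ := by
    rintro ⟨g, w⟩
    constructor
    · refine if_pos ⟨g⁻¹, ?_⟩
      simp only [Φ]
      rw [cj_zpowers, conjA_inv,
        show g⁻¹ * (g * (w : G) * g⁻¹) * g⁻¹⁻¹ = (w : G) by group]
      exact le_below hmax (hZP w.2)
    · simp only [N, Φ]
      rw [nsum_conj hf hf g (w : G) (mem_blocks.1 (below_mem_blocks hmax (hZP w.2)))]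
  let cw : Z → ℝ := fun w => ((Nat.card ↥(cent ⊤ (Subgroup.zpowers (w : G))) : ℝ))⁻¹
  have hfib : ∀ σ ∈ S, ∑ a ∈ Finset.univ.filter (fun a => Φ a = σ), cw a.2 ≤ (E : ℝ) := by
    rintro ⟨x, e⟩ -
    set F := Finset.univ.filter (fun a : G × Z => Φ a = ⟨x, e⟩) with hF
    have hmem : ∀ a ∈ F, a.1 * (a.2 : G) * a.1⁻¹ = x ∧
        conjA (Res M) a.1 (below p P eP (Subgroup.zpowers (a.2 : G))) = e := fun a ha => by
      have h := Sigma.mk.inj_iff.1 (Finset.mem_filter.1 ha).2
      exact ⟨h.1, eq_of_heq h.2⟩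
    rw [← Finset.sum_fiberwise_of_maps_to (g := Prod.snd) (t := F.image Prod.snd)
      fun a ha => Finset.mem_image_of_mem Prod.snd ha]
    calc ∑ w ∈ F.image Prod.snd, ∑ a ∈ F.filter (fun a => a.2 = w), cw a.2
        ≤ ∑ w ∈ F.image Prod.snd, (1 : ℝ) := by
          refine Finset.sum_le_sum fun w hw => ?_
          rw [Finset.sum_congr rfl fun a ha => by rw [(Finset.mem_filter.1 ha).2],
            Finset.sum_const, nsmul_eq_mul]
          obtain ⟨a₁, ha₁, rfl⟩ := Finset.mem_image.1 hw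
          have hcard : (F.filter fun a => a.2 = a₁.2).card ≤
              Nat.card ↥(cent ⊤ (Subgroup.zpowers (a₁.2 : G))) := by
            rw [Nat.card_eq_fintype_card, Fintype.card_subtype]
            refine Finset.card_le_card_of_injOn (fun a => a₁.1⁻¹ * a.1) ?_ ?_
            · intro a ha
              obtain ⟨haF, haw⟩ := Finset.mem_filter.1 ha
              refine Finset.mem_filter.2 ⟨Finset.mem_univ _, cent_zpowers_mem.2 ?_⟩
              have h1 := (hmem a haF).1
              rw [haw, ← (hmem a₁ ha₁).1] at h1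
              calc a₁.1⁻¹ * a.1 * (a₁.2 : G)
                  = a₁.1⁻¹ * (a.1 * (a₁.2 : G) * a.1⁻¹) * a.1 := by group
                _ = (a₁.2 : G) * (a₁.1⁻¹ * a.1) := by rw [h1]; group
            · intro a ha b hb hab
              exact Prod.ext (mul_left_cancel hab)
                ((Finset.mem_filter.1 ha).2.trans (Finset.mem_filter.1 hb).2.symm)
          have hpos : (0 : ℝ) < Nat.card ↥(cent ⊤ (Subgroup.zpowers (a₁.2 : G))) :=
            Nat.cast_pos.2 Nat.card_pos
          rw [show cw a₁.2 = ((Nat.card ↥(cent ⊤ (Subgroup.zpowers (a₁.2 : G))) : ℝ))⁻¹ from rfl,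
            mul_inv_le_iff₀ hpos, one_mul]
          exact_mod_cast hcard
      _ = ((F.image Prod.snd).card : ℝ) := by rw [Finset.sum_const, nsmul_eq_mul, mul_one]
      _ ≤ (E : ℝ) := by
        refine Nat.cast_le.2 ?_
        rcases (F.image Prod.snd).eq_empty_or_nonempty with hemp | ⟨w₀, hw₀⟩
        · rw [hemp]; exact Nat.zero_le _
        obtain ⟨a₀, ha₀, rfl⟩ := Finset.mem_image.1 hw₀
        set w₀ : G := (a₀.2 : G) with hw₀def
        -- each such element is a conjugate of the first one under the stabilizer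
        let K : Subgroup ↥(stab ⊤ P eP) :=
          (P ⊔ Subgroup.centralizer (P : Set G)).subgroupOf (stab ⊤ P eP)
        have hK : P ⊔ Subgroup.centralizer (P : Set G) ≤ Subgroup.centralizer ({w₀} : Set G) :=
          sup_le (fun y hy => Subgroup.mem_centralizer_singleton_iff.2
              (Subgroup.mem_centralizer_iff.1 (hZc a₀.2.2) y hy))
            (Subgroup.centralizer_le (Set.singleton_subset_iff.2 (hZP a₀.2.2)))
        let f : ↥(stab ⊤ P eP) ⧸ K → G := Quotient.lift (fun t => (t : G) * w₀ * (t : G)⁻¹)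
          fun t t' htt => by
            have h := Subgroup.mem_centralizer_singleton_iff.1
              (hK (Subgroup.mem_subgroupOf.1 (QuotientGroup.leftRel_apply.1 htt)))
            simp only [Subgroup.coe_mul, Subgroup.coe_inv] at h
            calc (t : G) * w₀ * (t : G)⁻¹
                = (t : G) * (w₀ * ((t : G)⁻¹ * (t' : G))) * (t' : G)⁻¹ := by group
              _ = (t' : G) * w₀ * (t' : G)⁻¹ := by rw [← h]; group
        haveI := Fintype.ofFinite (↥(stab ⊤ P eP) ⧸ K)
        have hsub : (F.image Prod.snd).image (fun w : Z => (w : G)) ⊆ Finset.univ.image f := by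
          intro w hw
          obtain ⟨w', hw', rfl⟩ := Finset.mem_image.1 hw
          obtain ⟨a, ha, rfl⟩ := Finset.mem_image.1 hw'
          obtain ⟨t, ht, htw⟩ := exists_stab_of_central hB hmax (hZP a.2.2) (hZc a.2.2)
            (hZP a₀.2.2) (hZc a₀.2.2) (h := a₀.1⁻¹ * a.1)
            (by
              calc a₀.1⁻¹ * a.1 * (a.2 : G) * (a₀.1⁻¹ * a.1)⁻¹
                  = a₀.1⁻¹ * (a.1 * (a.2 : G) * a.1⁻¹) * a₀.1 := by group
                _ = (a₀.2 : G) := by rw [(hmem a ha).1, ← (hmem a₀ ha₀).1]; group)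
            (by rw [← conjA_conjA, (hmem a ha).2, ← (hmem a₀ ha₀).2, conjA_inv])
          refine Finset.mem_image.2
            ⟨QuotientGroup.mk (⟨t, ht⟩⁻¹ : ↥(stab ⊤ P eP)), Finset.mem_univ _, ?_⟩
          show (t⁻¹ : G) * w₀ * (t⁻¹)⁻¹ = (a.2 : G)
          rw [hw₀def, ← htw]
          group
        have h1 := (Finset.card_le_card hsub).trans Finset.card_image_le
        rw [Finset.card_image_of_injective _ Subtype.val_injective, Finset.card_univ,
          ← Nat.card_eq_fintype_card, ← Subgroup.index_eq_card] at h1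
        exact h1
  have hA : ∑ a : G × Z, cw a.2 * (z1 (Φ a) * N (Φ a)) =
      (Nat.card G : ℝ) * ∑ w : Z, cw w * N ⟨(w : G), below p P eP (Subgroup.zpowers (w : G))⟩ := by
    rw [Fintype.sum_congr _ (fun a : G × Z =>
      cw a.2 * N ⟨(a.2 : G), below p P eP (Subgroup.zpowers (a.2 : G))⟩)
      fun a => by rw [(hval a).1, (hval a).2, one_mul], Fintype.sum_prod_type]
    dsimp only
    rw [Finset.sum_const, Finset.card_univ, ← Nat.card_eq_fintype_card, nsmul_eq_mul]
  have hB' : ∑ a : G × Z, cw a.2 * (z1 (Φ a) * N (Φ a)) ≤ (E : ℝ) * (Nat.card G : ℝ) := by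
    rw [← Finset.sum_fiberwise_of_maps_to (g := Φ) (fun a _ => hΦ a), ← hG, Finset.mul_sum]
    refine Finset.sum_le_sum fun σ hσ => ?_
    rw [Finset.sum_congr rfl fun a ha => by rw [(Finset.mem_filter.1 ha).2], ← Finset.sum_mul]
    refine mul_le_mul_of_nonneg_right (hfib σ hσ) (mul_nonneg ?_ (norm_nonneg _))
    simp only [z1]
    split_ifs <;> norm_num
  have hGpos : (0 : ℝ) < Nat.card G := Nat.cast_pos.2 Nat.card_pos
  have hmain : ∑ w : Z, cw w * N ⟨(w : G), below p P eP (Subgroup.zpowers (w : G))⟩ ≤ (E : ℝ) := by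
    rw [hA, mul_comm (E : ℝ)] at hB'
    exact le_of_mul_le_mul_left hB' hGpos
  calc ∑ w : Z, ‖aval p P eP (χ : G → ℂ) (w : G)‖
      = (Nat.card P : ℝ) *
          ∑ w : Z, cw w * N ⟨(w : G), below p P eP (Subgroup.zpowers (w : G))⟩ := by
        rw [Finset.mul_sum]
        refine Finset.sum_congr rfl fun w _ => ?_
        rw [aval, cval, wt, inf_eq_left.2 (le_cent_of_central (hZc w.2)),
          hN ⟨(w : G), below p P eP (Subgroup.zpowers (w : G))⟩, norm_mul, norm_div,
          Complex.norm_natCast, Complex.norm_natCast, Complex.norm_real,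
          Real.norm_of_nonneg (norm_nonneg _)]
        ring
    _ ≤ (Nat.card P : ℝ) * (E : ℝ) := mul_le_mul_of_nonneg_left hmain (Nat.cast_nonneg _)
    _ = (E : ℝ) * (Nat.card P : ℝ) := mul_comm _ _

end CfsgLib.Star
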