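import Cfsg.Agent.Star.Local

/-!
# The local functions of the star construction

`zt p P eP ζ u e` transports `ζ` to a p-element `u` and a block `e` of its centralizer through a
conjugation below the maximal pair `(P, eP)`; `theta … j z` is the sum over the blocks `e` of the
centralizer of the p-part `u` of `z` of `zt u e` times the trace at `z` of `e * br u j`.
-/

set_option autoImplicit false
set_option linter.unusedSectionVars false
set_option linter.style.haveILetI false

namespace CfsgLib.Star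

open Cfsg CfsgLib.BlockPairs
open CfsgLib.Blocks (localRing red Res)

universe u

variable {k : Type*} [Field k] {G : Type u} [Group G] {p : ℕ}

open Classical in
/-- The value of `ζ` at a p-element and a block of its centralizer. -/
noncomputable def zt (p : ℕ) (P : Subgroup G) (eP : GA k G) (ζ : G → ℂ) (w : G) (e : GA k G) : ℂ :=
  if h : ∃ x, Le p ⊤ (cj x (Subgroup.zpowers w)) (conjA k x e) P eP then
    ζ (h.choose * w * h.choose⁻¹) else 0

theorem cj_zpowers (x w : G) : cj x (Subgroup.zpowers w) = Subgroup.zpowers (x * w * x⁻¹) := by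
  rw [cj, MonoidHom.map_zpowers]
  rfl

variable {P : Subgroup G} {eP : GA k G} {ζ : G → ℂ}

/-- `ζ` is invariant under the fusion of the maximal pair. -/
def IsInvariant (p : ℕ) (P : Subgroup G) (eP : GA k G) (ζ : G → ℂ) : Prop :=
  ∀ w g : G, Mor p P eP (Subgroup.zpowers w) g → ζ (g * w * g⁻¹) = ζ w

theorem zt_eq (hζ : IsInvariant p P eP ζ) {w : G} {e : GA k G} {x : G}
    (hx : Le p ⊤ (cj x (Subgroup.zpowers w)) (conjA k x e) P eP) :
    zt p P eP ζ w e = ζ (x * w * x⁻¹) := by
  have h : ∃ x, Le p ⊤ (cj x (Subgroup.zpowers w)) (conjA k x e) P eP := ⟨x, hx⟩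
  rw [zt, dif_pos h]
  set y := h.choose
  have hy : Le p ⊤ (cj y (Subgroup.zpowers w)) (conjA k y e) P eP := h.choose_spec
  have hm : Mor p P eP (Subgroup.zpowers (x * w * x⁻¹)) (y * x⁻¹) := by
    refine ⟨conjA k x e, by rwa [← cj_zpowers], ?_⟩
    rw [← cj_zpowers, cj_cj, conjA_conjA, inv_mul_cancel_right]
    exact hy
  rw [← hζ _ _ hm]
  congr 1
  group

theorem zt_eq_zero {w : G} {e : GA k G}
    (h : ∀ x, ¬ Le p ⊤ (cj x (Subgroup.zpowers w)) (conjA k x e) P eP) : zt p P eP ζ w e = 0 := by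
  rw [zt, dif_neg (fun ⟨x, hx⟩ => h x hx)]

theorem zt_conj (hζ : IsInvariant p P eP ζ) (t w : G) (e : GA k G) :
    zt p P eP ζ (t * w * t⁻¹) (conjA k t e) = zt p P eP ζ w e := by
  have h1 : ∀ x, (cj (x * t⁻¹) (Subgroup.zpowers (t * w * t⁻¹)) = cj x (Subgroup.zpowers w)) ∧
      conjA k (x * t⁻¹) (conjA k t e) = conjA k x e := fun x => by
    constructor
    · rw [← cj_zpowers, cj_cj, inv_mul_cancel_right]
    · rw [conjA_conjA, inv_mul_cancel_right]
  by_cases hx : ∃ x, Le p ⊤ (cj x (Subgroup.zpowers w)) (conjA k x e) P eP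
  · obtain ⟨x, hx⟩ := hx
    rw [zt_eq hζ hx, zt_eq hζ (x := x * t⁻¹) (by rw [(h1 x).1, (h1 x).2]; exact hx)]
    congr 1
    group
  · rw [zt_eq_zero fun x hx' => hx ⟨x, hx'⟩, zt_eq_zero fun y hy => hx ⟨y * t, ?_⟩]
    have := h1 (y * t)
    rw [mul_inv_cancel_right] at this
    rwa [← this.1, ← this.2]

variable {M : Ideal AlgInt} [M.IsPrime] [Fintype G] [hp : Fact p.Prime]

/-- The local function of an idempotent. -/
noncomputable def theta (p : ℕ) [hp : Fact p.Prime] (P : Subgroup G) (eP : GA (Res M) G)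
    (ζ : G → ℂ) (f : G → ℂ) (j : GA (Res M) G) (z : G) : ℂ :=
  ∑ e ∈ blocks (Res M) (cent ⊤ (Subgroup.zpowers (pPart p z))),
    zt p P eP ζ (pPart p z) e * T M f z (e * br (Subgroup.zpowers (pPart p z)) j)

theorem isPGroup_zpowers_pPart (z : G) : IsPGroup p (Subgroup.zpowers (pPart p z)) := by
  obtain ⟨m, hm⟩ := exists_orderOf_pPart (p := p) z
  exact IsPGroup.of_card (n := m) (by rw [Nat.card_zpowers, hm])

theorem mem_cent_pPart (z : G) : z ∈ cent ⊤ (Subgroup.zpowers (pPart p z)) := by
  refine ⟨trivial, Subgroup.mem_centralizer_iff.2 fun v hv => ?_⟩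
  obtain ⟨i, hi⟩ := (Subgroup.zpowers_le.2 (pPart_mem_zpowers (p := p) z)) hv
  exact hi ▸ ((Commute.refl z).zpow_left i).eq

variable {P : Subgroup G} {eP : GA (Res M) G} {f : G → ℂ} (hf : Cfsg.IsClassFunction G f)
  (hM : Cfsg.IsPModular p M)

theorem conjA_block {z : G} {e : GA (Res M) G}
    (he : e ∈ blocks (Res M) (cent ⊤ (Subgroup.zpowers (pPart p z)))) :
    conjA (Res M) z e = e :=
  (mem_blocks.1 he).fixed z (mem_cent_pPart z)

theorem conjA_br_pPart {z : G} {a : GA (Res M) G} (ha : conjA (Res M) z a = a) :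
    conjA (Res M) z (br (Subgroup.zpowers (pPart p z)) a) =
      br (Subgroup.zpowers (pPart p z)) a :=
  (isFixed_br (R := Subgroup.zpowers z) (Subgroup.zpowers_le.2
    (Subgroup.centralizer_le_normalizer _ (mem_cent_pPart z).2)) (isFixed_zpowers ha)) z
    (Subgroup.mem_zpowers z)

theorem block_comm {z : G} {e : GA (Res M) G}
    (he : e ∈ blocks (Res M) (cent ⊤ (Subgroup.zpowers (pPart p z)))) (a : GA (Res M) G) :
    e * br (Subgroup.zpowers (pPart p z)) a = br (Subgroup.zpowers (pPart p z)) a * e :=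
  mul_comm_of_fixed_supp (mem_blocks.1 he).fixed ((isSupp_br _ a).mono (le_inf le_top le_rfl))

include hM in
theorem br_mul' {z : G} {a b : GA (Res M) G} (ha : conjA (Res M) z a = a)
    (hb : conjA (Res M) z b = b) :
    br (Subgroup.zpowers (pPart p z)) (a * b) =
      br (Subgroup.zpowers (pPart p z)) a * br (Subgroup.zpowers (pPart p z)) b :=
  haveI := CfsgLib.Blocks.charP_res hM
  br_mul (isPGroup_zpowers_pPart z)
    ((isFixed_zpowers ha).mono (Subgroup.zpowers_le.2 (pPart_mem_zpowers z)))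
    ((isFixed_zpowers hb).mono (Subgroup.zpowers_le.2 (pPart_mem_zpowers z)))

include hM in
theorem term_idem {z : G} {e : GA (Res M) G}
    (he : e ∈ blocks (Res M) (cent ⊤ (Subgroup.zpowers (pPart p z)))) {a : GA (Res M) G}
    (ha : a * a = a) (hz : conjA (Res M) z a = a) :
    e * br (Subgroup.zpowers (pPart p z)) a * (e * br (Subgroup.zpowers (pPart p z)) a) =
      e * br (Subgroup.zpowers (pPart p z)) a := by
  rw [mul_assoc, ← mul_assoc _ e, ← block_comm he, mul_assoc, ← br_mul' hM hz hz, ha, ← mul_assoc,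
    (mem_blocks.1 he).idem]

include hf hM in
theorem theta_sum {ι : Type*} (z : G) (s : Finset ι) (a : ι → GA (Res M) G)
    (hi : ∀ i ∈ s, a i * a i = a i) (ho : ∀ i ∈ s, ∀ j ∈ s, i ≠ j → a i * a j = 0)
    (hz : ∀ i ∈ s, conjA (Res M) z (a i) = a i) :
    theta p P eP ζ f (∑ i ∈ s, a i) z = ∑ i ∈ s, theta p P eP ζ f (a i) z := by
  simp only [theta]
  rw [Finset.sum_comm]
  refine Finset.sum_congr rfl fun e he => ?_
  rw [br_sum, Finset.mul_sum, T_sum hf z s _ (fun i hi' => term_idem hM he (hi i hi') (hz i hi'))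
    ?_ fun i hi' => by rw [conjA_mul, conjA_block he, conjA_br_pPart (hz i hi')], Finset.mul_sum]
  intro i hi' j hj' hne
  rw [mul_assoc, ← mul_assoc _ e, ← block_comm he, mul_assoc, ← br_mul' hM (hz i hi') (hz j hj'),
    ho i hi' j hj' hne, br_zero, mul_zero, mul_zero]

include hf hM in
theorem theta_equiv {z : G} {x y i i' : GA (Res M) G} (hi : i * i = i) (hi' : i' * i' = i')
    (hxy : x * y = i) (hyx : y * x = i') (hzx : conjA (Res M) z x = x)
    (hzy : conjA (Res M) z y = y) :
    theta p P eP ζ f i z = theta p P eP ζ f i' z := by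
  have hzi : conjA (Res M) z i = i := by rw [← hxy, conjA_mul, hzx, hzy]
  have hzi' : conjA (Res M) z i' = i' := by rw [← hyx, conjA_mul, hzx, hzy]
  refine Finset.sum_congr rfl fun e he => congrArg _ ?_
  set U := Subgroup.zpowers (pPart p z)
  have hmul : ∀ a b, conjA (Res M) z a = a → conjA (Res M) z b = b →
      e * br U a * (e * br U b) = e * br U (a * b) := fun a b ha hb => by
    rw [mul_assoc, ← mul_assoc _ e, ← block_comm he, mul_assoc, ← br_mul' hM ha hb, ← mul_assoc,
      (mem_blocks.1 he).idem]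
  exact T_equiv hf (x := e * br U x) (y := e * br U y) (term_idem hM he hi hzi)
    (term_idem hM he hi' hzi') (by rw [hmul x y hzx hzy, hxy]) (by rw [hmul y x hzy hzx, hyx])
    (by rw [conjA_mul, conjA_block he, conjA_br_pPart hzx])
    (by rw [conjA_mul, conjA_block he, conjA_br_pPart hzy])

include hf hM in
theorem theta_conj (hζ : IsInvariant p P eP ζ) {t z : G} {j : GA (Res M) G} (hj : j * j = j)
    (hz : conjA (Res M) z j = j) :
    theta p P eP ζ f (conjA (Res M) t j) (t * z * t⁻¹) = theta p P eP ζ f j z := by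
  simp only [theta, pPart_conj]
  set u := pPart p z with hu
  have hcent : ∀ (t u : G), cj t (cent ⊤ (Subgroup.zpowers u)) =
      cent ⊤ (Subgroup.zpowers (t * u * t⁻¹)) := fun t u => by
    rw [cj_cent (Subgroup.mem_top t), cj_zpowers]
  have hsh : ∀ (t u : G) e, e ∈ blocks (Res M) (cent ⊤ (Subgroup.zpowers u)) →
      conjA (Res M) t e ∈ blocks (Res M) (cent ⊤ (Subgroup.zpowers (t * u * t⁻¹))) :=
    fun t u e he => mem_blocks.2 (hcent t u ▸ (mem_blocks.1 he).conjA t)
  refine (Finset.sum_nbij' (conjA (Res M) t) (conjA (Res M) t⁻¹) (hsh t u) ?_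
    (fun a _ => conjA_inv t a) (fun a _ => conjA_inv' t a) fun e he => ?_).symm
  · intro a ha
    have := hsh t⁻¹ _ a ha
    simpa [mul_assoc] using this
  · rw [zt_conj hζ]
    congr 1
    rw [← cj_zpowers, ← conjA_br, ← conjA_mul]
    exact (T_conj hf (term_idem hM he hj hz)
      (by rw [conjA_mul, conjA_block he, conjA_br_pPart hz])).symm

include hf in
theorem theta_eq_zero {z : G} {j : GA (Res M) G}
    (h : br (Subgroup.zpowers (pPart p z)) j = 0) : theta p P eP ζ f j z = 0 :=
  Finset.sum_eq_zero fun e _ => by rw [h, mul_zero, T_zero hf, mul_zero]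

include hf hM in
/-- If the image at the p-part lies in one block, only that block contributes. -/
theorem theta_eq_single {z : G} {j : GA (Res M) G} (hj : j * j = j)
    (hz : conjA (Res M) z j = j) {e₀ : GA (Res M) G}
    (he₀ : e₀ ∈ blocks (Res M) (cent ⊤ (Subgroup.zpowers (pPart p z))))
    (h : br (Subgroup.zpowers (pPart p z)) j * e₀ = br (Subgroup.zpowers (pPart p z)) j) :
    theta p P eP ζ f j z = zt p P eP ζ (pPart p z) e₀ * T M f z j := by
  set U := Subgroup.zpowers (pPart p z)
  rw [theta, Finset.sum_eq_single e₀]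
  · congr 1
    rw [block_comm he₀, h]
    refine (T_eq_of_br_eq hf hM (pPart_spec z) hj ?_ hz (conjA_br_pPart hz) ?_).symm
    · rw [← br_mul' hM hz hz, hj]
    · exact (br_br_of_le le_rfl j).symm
  · intro e he hne
    have h0 : e * br U j = 0 := by
      rw [← h, ← block_comm he₀, ← mul_assoc,
        ((mem_blocks.1 he).eq_or_mul_eq_zero (mem_blocks.1 he₀)).resolve_left hne, zero_mul]
    rw [h0, T_zero hf, mul_zero]
  · exact fun hn => absurd he₀ hn

end CfsgLib.Star
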